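import Cfsg.Agent.Lib.DClassConf.Formula
import Cfsg.Agent.Lib.CyclicSylowInter.Defs

/-!
# Sylow 2-subgroups and fusion

A 2-subgroup containing an involution of `W a` fixes `a`; so the points are the Sylow 2-subgroups, and
two involutions of the stabilizer of `a` with Sylow subgroups of their centralizers in it are fused by
the stabilizer.
-/

set_option autoImplicit false
set_option linter.style.haveILetI false
set_option linter.unusedSectionVars false

namespace Cfsg.Agent.DClassConf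

open MulAction Subgroup
open Cfsg.Agent.Involutions
open Cfsg.Agent.SETwoClosed (TwoEl twoEl_of_sq)
open scoped Pointwise

universe u v

variable {G : Type u} [Group G] {Ω : Type v} [MulAction G Ω] {W : Ω → Subgroup G}

theorem twoEl_of_isPGroup {P : Subgroup G} (hP : IsPGroup 2 P) {x : G} (hx : x ∈ P) : TwoEl x :=
  (hP ⟨x, hx⟩).imp fun _ h => by simpa using congrArg Subtype.val h

namespace Conf

variable (C : Conf W)
include C

/-- The 2-elements fixing a point form a subgroup. -/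
def Sa (a : Ω) : Subgroup G where
  carrier := {g | g • a = a ∧ TwoEl g}
  one_mem' := ⟨one_smul G a, SETwoClosed.twoEl_one⟩
  mul_mem' {x y} hx hy := ⟨by rw [mul_smul, hy.1, hx.1], C.closed a x y hx.1 hy.1 hx.2 hy.2⟩
  inv_mem' {x} hx := ⟨by rw [inv_smul_eq_iff, hx.1], hx.2.inv⟩

theorem mem_Sa {a : Ω} {g : G} : g ∈ C.Sa a ↔ g • a = a ∧ TwoEl g := Iff.rfl

theorem W_le_Sa (a : Ω) : W a ≤ C.Sa a := fun w hw => ⟨C.fix a w hw, C.twoEl_W hw⟩

theorem isPGroup_Sa (a : Ω) : IsPGroup 2 (C.Sa a) := fun g =>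
  g.2.2.imp fun _ h => Subtype.ext (by simpa using h)

theorem conj_mem_Sa (g : G) {a : Ω} {s : G} (hs : s ∈ C.Sa a) : g * s * g⁻¹ ∈ C.Sa (g • a) :=
  ⟨by rw [mul_smul, inv_smul_smul, mul_smul, hs.1], hs.2.conj g⟩

theorem Sa_normal {a : Ω} {g s : G} (hg : g • a = a) (hs : s ∈ C.Sa a) : g * s * g⁻¹ ∈ C.Sa a := by
  simpa only [hg] using C.conj_mem_Sa g hs

variable [Finite G]

/-- A 2-subgroup containing an involution of `W a` fixes `a`. -/
theorem smul_eq_of_twoGroup {P : Subgroup G} (hP : IsPGroup 2 P) {a : Ω} {v : G} (hv : v ∈ W a)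
    (hv1 : v ≠ 1) (hvP : v ∈ P) {p : G} (hp : p ∈ P) : p • a = a := by
  haveI := Fact.mk Nat.prime_two
  haveI : Group.IsNilpotent ↥P := hP.isNilpotent
  set P1 := (stabilizer G a).subgroupOf P
  suffices h : P1 = ⊤ from (by
    have := h.ge (mem_top (⟨p, hp⟩ : P))
    exact this)
  refine normalizerCondition_iff_only_full_group_self_normalizing.1
    Group.normalizerCondition_of_isNilpotent P1 (le_antisymm (fun n hn => ?_) le_normalizer)
  have hvP1 : (⟨v, hvP⟩ : P) ∈ P1 := C.fix a v hv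
  have h2 := (mem_normalizer_iff''.1 hn ⟨v, hvP⟩).1 hvP1
  show (n : G) • a = a
  have hfix : ((n : G)⁻¹ * v * n) • a = a := h2
  have hmem := C.conj (n : G)⁻¹ a v hv
  rw [inv_inv] at hmem
  have := C.uniq _ _ hmem (fun e => hv1 (by
    have h := congrArg (fun t => (n : G) * t * (n : G)⁻¹) e
    simpa [mul_assoc] using h)) a hfix
  exact eq_inv_smul_iff.1 this

theorem le_Sa_of_mem {P : Subgroup G} (hP : IsPGroup 2 P) {a : Ω} {v : G} (hv : v ∈ W a)
    (hv1 : v ≠ 1) (hvP : v ∈ P) : P ≤ C.Sa a :=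
  fun _ hp => ⟨C.smul_eq_of_twoGroup hP hv hv1 hvP hp, twoEl_of_isPGroup hP hp⟩

/-- The Sylow subgroup of a point. -/
def syl (a : Ω) : Sylow 2 G where
  toSubgroup := C.Sa a
  isPGroup' := C.isPGroup_Sa a
  is_maximal' {Q} hQ hle := by
    obtain ⟨v, hv, hv1⟩ := C.exists_W a
    exact le_antisymm (C.le_Sa_of_mem hQ hv hv1 (hle (C.W_le_Sa a hv))) hle

@[simp] theorem coe_syl (a : Ω) : (C.syl a : Subgroup G) = C.Sa a := rfl

theorem Sa_injective {a b : Ω} (h : C.Sa a = C.Sa b) : a = b := by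
  obtain ⟨w, hw, hw1⟩ := C.exists_W a
  exact (C.uniq a w hw hw1 b (h.le (C.W_le_Sa a hw)).1).symm

theorem exists_syl [Nonempty Ω] (S : Sylow 2 G) : ∃ a, C.syl a = S := by
  haveI := Fact.mk Nat.prime_two
  obtain ⟨a⟩ := ‹Nonempty Ω›
  obtain ⟨g, rfl⟩ := MulAction.exists_smul_eq G (C.syl a) S
  refine ⟨g • a, Sylow.ext (le_antisymm ?_ ?_)⟩
  · intro s hs
    rw [Sylow.coe_subgroup_smul, mem_pointwise_smul_iff_inv_smul_mem]
    have := C.conj_mem_Sa g⁻¹ hs
    rw [inv_smul_smul] at this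
    simpa [MulAut.smul_def] using this
  · intro s hs
    rw [Sylow.coe_subgroup_smul, mem_pointwise_smul_iff_inv_smul_mem] at hs
    have := C.conj_mem_Sa g (s := g⁻¹ * s * g) (by simpa [MulAut.smul_def] using hs)
    simpa [mul_assoc] using this

/-- Without multi-point involutions the Sylow subgroups have trivial intersection. -/
theorem tiSylow [Nonempty Ω] [FaithfulSMul G Ω] (h : ∀ x : G, ¬ Multi Ω x) :
    CyclicSylowInter.TISylow G := by
  intro S T x hx hxS hxT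
  obtain ⟨a, rfl⟩ := C.exists_syl S
  obtain ⟨b, rfl⟩ := C.exists_syl T
  by_contra hne
  refine h x ⟨hx, ⟨a, b, fun e => hne (e ▸ rfl), hxS.1, hxT.1⟩, ?_⟩
  by_contra! hall
  exact Basic.ne_one hx (C.eq_one_of_fix_all hall)

theorem inter_eq_bot [Nonempty Ω] [FaithfulSMul G Ω] (h : ∀ x : G, ¬ Multi Ω x) {S T : Sylow 2 G}
    (hne : S ≠ T) : (S : Subgroup G) ⊓ T = ⊥ := by
  by_contra hb
  haveI : Nontrivial ↥((S : Subgroup G) ⊓ T) := (nontrivial_iff_ne_bot _).2 hb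
  obtain ⟨k, hk, hk'⟩ := (IsPGroup.iff_card.1 (S.isPGroup'.to_le (inf_le_left (b := (T : Subgroup G))))) |>
    fun ⟨k, hk⟩ => (⟨k, hk, by
      intro h0
      rw [h0, pow_zero] at hk
      exact hb (eq_bot_of_card_eq _ hk)⟩ : ∃ k, Nat.card ↥((S : Subgroup G) ⊓ T) = 2 ^ k ∧ k ≠ 0)
  haveI := Fact.mk Nat.prime_two
  obtain ⟨x, hx⟩ := exists_prime_orderOf_dvd_card' 2 (hk ▸ dvd_pow_self 2 hk')
  exact hne (C.tiSylow h S T (x : G) (by rw [orderOf_coe]; exact hx) x.2.1 x.2.2)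

theorem cycInt [Nonempty Ω] [FaithfulSMul G Ω] (h : ∀ x : G, ¬ Multi Ω x) :
    ZStar.CyclicIntersections.CycInt G := fun S T hne => by
  rw [C.inter_eq_bot h hne]
  infer_instance

/-- The centralizer of an element in the Sylow subgroup of `a` containing `W a`. -/
theorem mem_centralizer_W {a : Ω} {x : G} (hx : x ∈ C.Sa a) {w : G} (hw : w ∈ W a) : Commute w x :=
  C.central a w hw x hx.1 hx.2

theorem eq_one_of_mem_Sa_odd {a : Ω} {g : G} (hg : g ∈ C.Sa a) (h : Odd (orderOf g)) : g = 1 :=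
  hg.2.eq_one_of_odd h

/-- Conjugate elements with conjugate centralizers in the stabilizer of `a` are conjugate there. -/
theorem fusion {a : Ω} {x y : G} (hx : x ∈ C.Sa a) (hy : y ∈ C.Sa a) {g : G}
    (hg : g * x * g⁻¹ = y) : ∃ m : G, m • a = a ∧ m * x * m⁻¹ = y := by
  haveI := Fact.mk Nat.prime_two
  set Cy := centralizer ({y} : Set G)
  set A := (C.Sa a ⊓ Cy).subgroupOf Cy
  set B := ((C.Sa (g • a) ⊓ Cy)).subgroupOf Cy
  obtain ⟨z, hz, hz1⟩ := C.exists_W a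
  have hA : IsPGroup 2 A := ((C.isPGroup_Sa a).to_le inf_le_left).comap_subtype
  have hB : IsPGroup 2 B := ((C.isPGroup_Sa _).to_le inf_le_left).comap_subtype
  obtain ⟨P, hP⟩ := hA.exists_le_sylow
  obtain ⟨Q, hQ⟩ := hB.exists_le_sylow
  obtain ⟨c, hc⟩ := MulAction.exists_smul_eq Cy Q P
  have hzC : z ∈ Cy := mem_centralizer_singleton_iff.2 (C.mem_centralizer_W hy hz).eq
  have hgz : g * z * g⁻¹ ∈ W (g • a) := C.conj g a z hz
  have hgx : g * x * g⁻¹ ∈ C.Sa (g • a) := C.conj_mem_Sa g hx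
  have hgzC : g * z * g⁻¹ ∈ Cy := mem_centralizer_singleton_iff.2
    (C.mem_centralizer_W (hg ▸ hgx) hgz).eq
  have hQle : ∀ q ∈ (Q : Subgroup Cy), (c * q * c⁻¹ : Cy) ∈ (P : Subgroup Cy) := fun q hq => by
    rw [← hc, Sylow.coe_subgroup_smul, mem_pointwise_smul_iff_inv_smul_mem]
    simpa [MulAut.smul_def, mul_assoc] using hq
  have hPfix : ∀ q ∈ (P : Subgroup Cy), (q : G) • a = a := fun q hq =>
    C.smul_eq_of_twoGroup (P.isPGroup'.map Cy.subtype) hz hz1 ⟨⟨z, hzC⟩, hP (mem_subgroupOf.2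
      ⟨C.W_le_Sa a hz, hzC⟩), rfl⟩ ⟨q, hq, rfl⟩
  have hfix := hPfix _ (hQle ⟨g * z * g⁻¹, hgzC⟩ (hQ (mem_subgroupOf.2 ⟨C.W_le_Sa _ hgz, hgzC⟩)))
  refine ⟨(c : G) * g, ?_, ?_⟩
  · have hne : (c : G) * (g * z * g⁻¹) * (c : G)⁻¹ ≠ 1 := fun e =>
      hz1 (conj_eq_one_iff.1 (conj_eq_one_iff.1 e))
    have := C.uniq _ _ (C.conj (c : G) _ _ hgz) hne a hfix
    rw [mul_smul, ← this]
  · rw [show (c : G) * g * x * ((c : G) * g)⁻¹ = c * (g * x * g⁻¹) * (c : G)⁻¹ by group, hg,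
      mem_centralizer_singleton_iff.1 c.2, mul_inv_cancel_right]

end Conf

end Cfsg.Agent.DClassConf
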