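import Cfsg.Prelude
import Cfsg.Agent.S0204
import Cfsg.Agent.Lib.ZStar.Main
import Cfsg.Agent.Lib.ZStar.CyclicIntersections.Reduced
import Cfsg.Agent.Lib.CyclicSylowInter.Setup
import Cfsg.Agent.Lib.DClassConf.Sylows

/-!
# Central intersections of rank at most one: the involutions of the centres

A four-group containing a 2-central involution lies in one Sylow 2-subgroup. Hence the 2-central
involutions of a Sylow subgroup are those of its centre, there are at least three of them, and two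
Sylow subgroups through such an involution are conjugate in its centralizer.
-/

set_option autoImplicit false
set_option linter.style.haveILetI false
set_option linter.unusedSectionVars false

namespace Cfsg.Agent.DClassConf

open Subgroup
open scoped Pointwise
open Cfsg.Agent.Involutions
open Cfsg.Agent.CyclicSylowInter (centInv cen)
open Cfsg.Agent.ZStar.CyclicIntersections (conj_mem_smul mem_smul mem_cent)

universe u

variable {G : Type u} [Group G] [Finite G]

/-- The standing hypotheses: a simple group in which a four-group containing a 2-central involution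
lies in only one Sylow 2-subgroup. -/
structure SHyp (G : Type u) [Group G] [Finite G] : Prop where
  simple : IsSimpleGroup G
  noncomm : ¬ IsMulCommutative G
  pair : ∀ (S T U : Sylow 2 G) (z x : G), orderOf z = 2 → z ∈ centInv U → orderOf x = 2 → x ≠ z →
    Commute z x → z ∈ (S : Subgroup G) → x ∈ (S : Subgroup G) → z ∈ (T : Subgroup G) →
    x ∈ (T : Subgroup G) → S = T

theorem four_sq {H : Type*} [Group H] {u v : H} (hu : u * u = 1) (hv : v * v = 1) (h : Commute u v)
    {a : H} (ha : a ∈ ZStar.CyclicIntersections.four u v hu hv h) : a * a = 1 := by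
  rcases ha with rfl | rfl | rfl | rfl
  · exact one_mul 1
  · exact hu
  · exact hv
  · rw [h.symm.mul_mul_mul_comm, hu, hv, one_mul]

theorem four_isPGroup {H : Type*} [Group H] {u v : H} (hu : u * u = 1) (hv : v * v = 1)
    (h : Commute u v) : IsPGroup 2 (ZStar.CyclicIntersections.four u v hu hv h) := fun a =>
  ⟨1, Subtype.ext (by rw [pow_one, pow_two, coe_mul]; exact four_sq hu hv h a.2)⟩

theorem four_comm {H : Type*} [Group H] {u v : H} (hu : u * u = 1) (hv : v * v = 1) (h : Commute u v) :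
    IsMulCommutative (ZStar.CyclicIntersections.four u v hu hv h) := ⟨⟨fun a b => by
  have hi : ∀ c : ZStar.CyclicIntersections.four u v hu hv h, c⁻¹ = c := fun c =>
    inv_eq_of_mul_eq_one_right (Subtype.ext (by rw [coe_mul]; exact four_sq hu hv h c.2))
  rw [← hi (a * b), mul_inv_rev, hi, hi]⟩⟩

theorem four_not_cyclic {H : Type*} [Group H] [Finite H] {u v : H} (hu : u * u = 1) (hv : v * v = 1)
    (h : Commute u v) (hu1 : u ≠ 1) (hv1 : v ≠ 1) (huv : u ≠ v) :
    ¬ IsCyclic (ZStar.CyclicIntersections.four u v hu hv h) := fun hc => huv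
  (ZStar.CyclicIntersections.eq_of_cyclic hc (Or.inr (Or.inl rfl)) (Or.inr (Or.inr (Or.inl rfl)))
    (Basic.orderOf_two_iff.2 ⟨hu, hu1⟩) (Basic.orderOf_two_iff.2 ⟨hv, hv1⟩))

theorem mem_map_center {U : Subgroup G} {z : G} :
    z ∈ (center ↥U).map U.subtype ↔ z ∈ U ∧ ∀ s ∈ U, Commute z s := by
  constructor
  · rintro ⟨z', hz', rfl⟩
    exact ⟨z'.2, fun s hs => (congrArg Subtype.val (mem_center_iff.1 hz' ⟨s, hs⟩) :).symm⟩
  · rintro ⟨hz, hc⟩
    exact ⟨⟨z, hz⟩, mem_center_iff.2 fun s => Subtype.ext (hc s s.2).eq.symm, rfl⟩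

theorem sHyp [IsSimpleGroup G] (hne : ¬ IsMulCommutative G)
    (h : ∀ S T : Sylow 2 G, S ≠ T →
      ((S : Subgroup G) ⊓ (T : Subgroup G) = ⊥ ∨
        ∃ z ∈ (S : Subgroup G) ⊓ (T : Subgroup G), orderOf z = 2 ∧
          ∃ U : Sylow 2 G, z ∈ (Subgroup.center ↥(U : Subgroup G)).map (U : Subgroup G).subtype) →
      Cfsg.PRankLE 2 1 ↥((S : Subgroup G) ⊓ (T : Subgroup G))) : SHyp G := by
  refine ⟨inferInstance, hne, fun S T U z x hz hzU hx hxz hc hzS hxS hzT hxT => ?_⟩
  by_contra hST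
  have hr := h S T hST (Or.inr ⟨z, ⟨hzS, hzT⟩, hz, U, mem_map_center.2 ⟨hzU.1, hzU.2.2⟩⟩)
  let I : Subgroup G := (S : Subgroup G) ⊓ (T : Subgroup G)
  let z' : I := ⟨z, hzS, hzT⟩
  let x' : I := ⟨x, hxS, hxT⟩
  have hz1 : z' * z' = 1 := Subtype.ext (Basic.inv_sq_one hz)
  have hx1 : x' * x' = 1 := Subtype.ext (Basic.inv_sq_one hx)
  let A := ZStar.CyclicIntersections.four z' x' hz1 hx1 (Subtype.ext hc.eq)
  have hc' : Commute z' x' := Subtype.ext hc.eq
  have hsq : ∀ a ∈ A, a ^ 2 = 1 := fun a ha => (pow_two a).trans (four_sq hz1 hx1 hc' ha)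
  have hA : IsMulCommutative A := four_comm hz1 hx1 hc'
  have h3 : ({1, z', x'} : Set I).ncard = 3 := Set.ncard_eq_three.2
    ⟨1, z', x', fun e => Basic.ne_one hz (congrArg Subtype.val e).symm,
      fun e => Basic.ne_one hx (congrArg Subtype.val e).symm,
      fun e => hxz (congrArg Subtype.val e).symm, rfl⟩
  have hle : ({1, z', x'} : Set I).ncard ≤ (A : Set I).ncard := Set.ncard_le_ncard (by
    rintro a (rfl | rfl | rfl)
    exacts [Or.inl rfl, Or.inr (Or.inl rfl), Or.inr (Or.inr (Or.inl rfl))]) (Set.toFinite _)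
  have := hr A hA hsq
  rw [h3, ← Nat.card_coe_set_eq, SetLike.coe_sort_coe] at hle
  exact absurd (hle.trans this) (by norm_num)

theorem smul_eq_self_iff {S : Sylow 2 G} {g : G} :
    g • S = S ↔ g ∈ normalizer ((S : Subgroup G) : Set G) :=
  Sylow.smul_eq_iff_mem_normalizer

/-- A 2-element normalizing a Sylow 2-subgroup lies in it. -/
theorem mem_of_smul_eq {S : Sylow 2 G} {g : G} (hg : g • S = S) (h2 : SETwoClosed.TwoEl g) :
    g ∈ (S : Subgroup G) := by
  haveI := Fact.mk Nat.prime_two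
  obtain ⟨k, hk⟩ := h2
  have hP : IsPGroup 2 ↥(zpowers g) := by
    obtain ⟨j, -, hj⟩ := (Nat.dvd_prime_pow Nat.prime_two).1 (orderOf_dvd_of_pow_eq_one hk)
    exact IsPGroup.of_card (n := j) (by rw [Nat.card_zpowers, hj])
  have := hP.inf_normalizer_sylow S
  have hmem : g ∈ zpowers g ⊓ normalizer ((S : Subgroup G) : Set G) :=
    ⟨mem_zpowers g, smul_eq_self_iff.1 hg⟩
  exact (this.le hmem).2

theorem twoEl_mem {S : Sylow 2 G} {g : G} (hg : g ∈ (S : Subgroup G)) : SETwoClosed.TwoEl g :=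
  twoEl_of_isPGroup S.isPGroup' hg

theorem smul_eq_of_mem {S : Sylow 2 G} {g : G} (hg : g ∈ (S : Subgroup G)) : g • S = S :=
  smul_eq_self_iff.2 (le_normalizer hg)

theorem mem_centInv_conj {S : Sylow 2 G} {w : G} (g : G) (hw : w ∈ centInv S) :
    g * w * g⁻¹ ∈ centInv (g • S) := by
  refine ⟨conj_mem_smul g hw.1, by simp [show g * w * g⁻¹ * (g * w * g⁻¹) = g * (w * w) * g⁻¹ by group, hw.2.1],
    fun s hs => ?_⟩
  rw [mem_smul] at hs
  have := (hw.2.2 _ hs).map (MulAut.conj g).toMonoidHom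
  simpa [mul_assoc] using this

theorem orderOf_centInv {S : Sylow 2 G} {w : G} (hw : w ∈ centInv S) (h1 : w ≠ 1) : orderOf w = 2 :=
  Basic.orderOf_two_iff.2 ⟨hw.2.1, h1⟩

/-- The centralizer of a central involution of `U` has a Sylow subgroup of the group above a given
2-subgroup. -/
theorem exists_sylow_above (U : Sylow 2 G) {x : G} (hx : x ∈ centInv U) {Q : Subgroup G}
    (hQ : IsPGroup 2 Q) (hQx : Q ≤ cen x) : ∃ T : Sylow 2 G, Q ≤ T ∧ x ∈ centInv T := by
  haveI := Fact.mk Nat.prime_two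
  set K := cen x with hK
  have hUK : (U : Subgroup G) ≤ K := fun s hs => mem_cent.2 (hx.2.2 s hs).symm
  obtain ⟨P, hP⟩ := (IsPGroup.of_equiv hQ (subgroupOfEquivOfLe hQx).symm).exists_le_sylow
  obtain ⟨c, hc⟩ := MulAction.exists_smul_eq ↥K (U.subtype hUK) P
  refine ⟨(c : G) • U, fun q hq => ?_, ?_⟩
  · have h := hP (show (⟨q, hQx hq⟩ : K) ∈ Q.subgroupOf K from hq)
    rw [← hc] at h
    exact mem_smul.2 (Transfer.Fusion.mem_smul_sylow_iff.1 h :)
  · have := mem_centInv_conj (c : G) hx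
    rwa [(mem_cent.1 c.2).eq, mul_inv_cancel_right] at this

namespace SHyp

variable (H : SHyp G)
include H

theorem pair_central {S T U : Sylow 2 G} {z x : G} (hz : z ∈ centInv U) (hz1 : z ≠ 1)
    (hx : x * x = 1) (hx1 : x ≠ 1) (hxz : x ≠ z) (hc : Commute z x) (hzS : z ∈ (S : Subgroup G))
    (hxS : x ∈ (S : Subgroup G)) (hzT : z ∈ (T : Subgroup G)) (hxT : x ∈ (T : Subgroup G)) : S = T :=
  H.pair S T U z x (orderOf_centInv hz hz1) hz (Basic.orderOf_two_iff.2 ⟨hx, hx1⟩) hxz hc hzS hxS hzT hxT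

/-- Every Sylow subgroup contains a central involution. -/
theorem exists_centInv (S : Sylow 2 G) : ∃ z ∈ centInv S, z ≠ 1 := by
  haveI := Fact.mk Nat.prime_two
  haveI := H.simple
  obtain ⟨E, hE⟩ := Cfsg.Agent.S0204.result (G := G) fun hc => H.noncomm ⟨⟨fun a b => by
    haveI := hc
    exact IsCyclic.commGroup.mul_comm a b⟩⟩
  haveI := hE
  have h2 : 2 ∣ Nat.card G := (show 2 ∣ Nat.card E by rw [hE.card_four]; norm_num).trans
    E.card_subgroup_dvd_card
  haveI : Nontrivial ↥(S : Subgroup G) := by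
    rw [nontrivial_iff_ne_bot]
    intro e
    have := S.not_dvd_index
    rw [e, index_bot] at this
    exact this h2
  haveI := S.isPGroup'.center_nontrivial
  obtain ⟨k, hk⟩ := IsPGroup.iff_card.1 (S.isPGroup'.to_subgroup (center ↥(S : Subgroup G)))
  have hk0 : k ≠ 0 := by
    rintro rfl
    rw [pow_zero] at hk
    exact Nat.lt_irrefl 1 (Finite.one_lt_card.trans_eq hk)
  obtain ⟨y, hy⟩ := exists_prime_orderOf_dvd_card' 2 (hk ▸ dvd_pow_self 2 hk0)
  have hy' : orderOf ((y : ↥(S : Subgroup G)) : G) = 2 := by rw [orderOf_coe, orderOf_coe, hy]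
  exact ⟨_, ⟨y.1.2, Basic.inv_sq_one hy', fun s hs =>
    (congrArg Subtype.val (mem_center_iff.1 y.2 ⟨s, hs⟩) :).symm⟩, Basic.ne_one hy'⟩

/-- An involution of `T` which is central in some Sylow subgroup and commutes with a central involution
`z ≠ x` of a Sylow subgroup containing both is central there. -/
theorem mem_centInv_of_pair {S U U' : Sylow 2 G} {z x : G} (hz : z ∈ centInv U) (hz1 : z ≠ 1)
    (hx : x ∈ centInv U') (hx1 : x ≠ 1) (hxz : x ≠ z) (hc : Commute z x) (hzS : z ∈ (S : Subgroup G))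
    (hxS : x ∈ (S : Subgroup G)) : x ∈ centInv S := by
  obtain ⟨T, hT, hxT⟩ := exists_sylow_above U' hx (Q := zpowers z)
    (fun g => ⟨1, Subtype.ext (by
      obtain ⟨j, hj⟩ := mem_zpowers_iff.1 g.2
      simp only [pow_one, SubmonoidClass.coe_pow, OneMemClass.coe_one]
      rw [← hj, pow_two, ← (Commute.refl z).mul_zpow, hz.2.1, one_zpow])⟩)
    (zpowers_le.2 (mem_cent.2 hc))
  rwa [H.pair_central hz hz1 hx.2.1 hx1 hxz hc hzS hxS (hT (mem_zpowers z)) hxT.1]

/-- A second central involution. -/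
theorem exists_centInv_ne (S : Sylow 2 G) (z : G) : ∃ x ∈ centInv S, x ≠ 1 ∧ x ≠ z := by
  haveI := Fact.mk Nat.prime_two
  haveI := H.simple
  obtain ⟨w, hw, hw1⟩ := H.exists_centInv S
  suffices ∃ x ∈ centInv S, x ≠ 1 ∧ x ≠ w by
    obtain ⟨x, hx, hx1, hxw⟩ := this
    by_cases e : w = z
    · exact ⟨x, hx, hx1, e ▸ hxw⟩
    · exact ⟨w, hw, hw1, e⟩
  have hniso : ¬ ∀ g : G, Commute w (g * w * g⁻¹) → g * w * g⁻¹ = w := fun hiso => by
    have hO : Cfsg.oddCore G = ⊥ := by
      rcases (ZStar.Main.oddCore_normal (G := G)).eq_bot_or_eq_top with h0 | h0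
      · exact h0
      · exfalso
        have h1 := InvChar.Core.odd_card_oddCore (G := G)
        rw [h0, Subgroup.card_top, Nat.odd_iff] at h1
        have h2 : 2 ∣ Nat.card G := orderOf_centInv hw hw1 ▸ orderOf_dvd_natCard w
        omega
    have hc := ZStar.Main.mem_center_of_isolated hO ⟨orderOf_centInv hw hw1, hiso⟩
    rcases (inferInstance : (Subgroup.center G).Normal).eq_bot_or_eq_top with h | h
    · exact hw1 (mem_bot.1 (h ▸ hc))
    · exact H.noncomm ⟨⟨fun a b => mem_center_iff.1 (h ▸ mem_top b) a⟩⟩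
  push Not at hniso
  obtain ⟨g, hgc, hgne⟩ := hniso
  set w' := g * w * g⁻¹
  have hw' : w' ∈ centInv (g • S) := mem_centInv_conj g hw
  have hw'1 : w' ≠ 1 := fun e => hw1 (conj_eq_one_iff.1 e)
  obtain ⟨T, hT, hwT⟩ := exists_sylow_above S hw (Q := zpowers w')
    (fun c => ⟨1, Subtype.ext (by
      obtain ⟨j, hj⟩ := mem_zpowers_iff.1 c.2
      simp only [pow_one, SubmonoidClass.coe_pow, OneMemClass.coe_one]
      rw [← hj, pow_two, ← (Commute.refl w').mul_zpow, hw'.2.1, one_zpow])⟩)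
    (zpowers_le.2 (mem_cent.2 hgc.symm))
  have hw'T := H.mem_centInv_of_pair hwT hw1 hw' hw'1 hgne hgc hwT.1 (hT (mem_zpowers w'))
  obtain ⟨c, hc⟩ := MulAction.exists_smul_eq G T S
  have a := hc ▸ mem_centInv_conj c hwT
  have b := hc ▸ mem_centInv_conj c hw'T
  have a1 : c * w * c⁻¹ ≠ 1 := fun e => hw1 (conj_eq_one_iff.1 e)
  have b1 : c * w' * c⁻¹ ≠ 1 := fun e => hw'1 (conj_eq_one_iff.1 e)
  by_cases e : c * w * c⁻¹ = w
  · exact ⟨_, b, b1, fun e' => hgne (mul_left_cancel (mul_right_cancel (e'.trans e.symm)))⟩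
  · exact ⟨_, a, a1, e⟩

/-- The involutions of `S` central in some Sylow subgroup are central in `S`. -/
theorem mem_centInv {S U : Sylow 2 G} {x : G} (hx : x ∈ centInv U) (hxS : x ∈ (S : Subgroup G)) :
    x ∈ centInv S := by
  by_cases hx1 : x = 1
  · exact hx1 ▸ one_mem _
  obtain ⟨z, hz, hz1, hzx⟩ := H.exists_centInv_ne S x
  exact H.mem_centInv_of_pair hz hz1 hx hx1 (Ne.symm hzx) (hz.2.2 x hxS) hz.1 hxS

theorem four_le (S : Sylow 2 G) : 4 ≤ Nat.card ↥(centInv S) := by
  obtain ⟨z, hz, hz1⟩ := H.exists_centInv S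
  obtain ⟨x, hx, hx1, hxz⟩ := H.exists_centInv_ne S z
  have h3 : ({1, z, x} : Set G).ncard = 3 := Set.ncard_eq_three.2 ⟨1, z, x, hz1.symm, hx1.symm, hxz.symm, rfl⟩
  have hle : ({1, z, x, z * x} : Set G).ncard ≤ ((centInv S : Subgroup G) : Set G).ncard :=
    Set.ncard_le_ncard (by
      rintro a (rfl | rfl | rfl | rfl)
      exacts [one_mem _, hz, hx, mul_mem hz hx]) (Set.toFinite _)
  have h4 : ({1, z, x, z * x} : Set G).ncard = 4 := by
    rw [show ({1, z, x, z * x} : Set G) = insert (z * x) {1, z, x} by ext; simp; tauto,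
      Set.ncard_insert_of_notMem (by
        simp only [Set.mem_insert_iff, Set.mem_singleton_iff, not_or]
        refine ⟨fun e => hxz ?_, fun e => hx1 ?_, fun e => hz1 ?_⟩
        · rw [← inv_eq_of_mul_eq_one_right e, inv_eq_of_mul_eq_one_left hz.2.1]
        · exact mul_eq_left.1 e
        · exact mul_eq_right.1 e), h3]
  rw [h4, ← Nat.card_coe_set_eq, SetLike.coe_sort_coe] at hle
  exact hle

/-- Two Sylow subgroups through a central involution are conjugate in its centralizer. -/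
theorem exists_conj_cen {S T : Sylow 2 G} {x : G} (hx : x ∈ centInv S) (hxT : x ∈ (T : Subgroup G)) :
    ∃ c ∈ cen x, c • S = T := by
  haveI := Fact.mk Nat.prime_two
  have hxT' := H.mem_centInv hx hxT
  have hSK : (S : Subgroup G) ≤ cen x := fun s hs => mem_cent.2 (hx.2.2 s hs).symm
  have hTK : (T : Subgroup G) ≤ cen x := fun s hs => mem_cent.2 (hxT'.2.2 s hs).symm
  obtain ⟨c, hc⟩ := MulAction.exists_smul_eq ↥(cen x) (S.subtype hSK) (T.subtype hTK)
  refine ⟨c, c.2, Sylow.ext (le_antisymm (fun s hs => ?_) fun s hs => ?_)⟩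
  · have hs' : ((c : G))⁻¹ * s * c ∈ (S : Subgroup G) := mem_smul.1 hs
    have hsK : s ∈ cen x := by
      have h := mul_mem (mul_mem c.2 (hSK hs')) (inv_mem c.2)
      simpa [mul_assoc] using h
    have h : (⟨s, hsK⟩ : cen x) ∈ ((c • S.subtype hSK : Sylow 2 ↥(cen x)) : Subgroup ↥(cen x)) :=
      Transfer.Fusion.mem_smul_sylow_iff.2 hs'
    rw [hc] at h
    exact h
  · have h : (⟨s, hTK hs⟩ : cen x) ∈ (T.subtype hTK : Subgroup ↥(cen x)) := hs
    rw [← hc] at h
    exact mem_smul.2 (Transfer.Fusion.mem_smul_sylow_iff.1 h :)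

/-- Fusion of central involutions takes place in the normalizer. -/
theorem exists_fusion {S : Sylow 2 G} {z g : G} (hz : z ∈ centInv S)
    (hg : g * z * g⁻¹ ∈ (S : Subgroup G)) :
    ∃ m : G, m • S = S ∧ m * z * m⁻¹ = g * z * g⁻¹ := by
  have hgS := H.mem_centInv (mem_centInv_conj g hz) hg
  obtain ⟨c, hc, hcS⟩ := H.exists_conj_cen (mem_centInv_conj g hz) hgS.1
  refine ⟨c * g, by rw [mul_smul, hcS], ?_⟩
  rw [show c * g * z * (c * g)⁻¹ = c * (g * z * g⁻¹) * c⁻¹ by group, (mem_cent.1 hc).eq,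
    mul_inv_cancel_right]

theorem exists_other_sylow (S : Sylow 2 G) : ∃ T : Sylow 2 G, T ≠ S := by
  haveI := H.simple
  by_contra! hall
  obtain ⟨z, hz, hz1⟩ := H.exists_centInv S
  have hN : (S : Subgroup G).Normal := ⟨fun s hs g => by
    have := conj_mem_smul g hs
    rwa [hall (g • S)] at this⟩
  rcases hN.eq_bot_or_eq_top with h | h
  · exact hz1 (mem_bot.1 (h ▸ hz.1))
  · have hzc : z ∈ center G := mem_center_iff.2 fun g => (hz.2.2 g (h ▸ mem_top g)).eq.symm
    rcases (inferInstance : (Subgroup.center G).Normal).eq_bot_or_eq_top with h' | h'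
    · exact hz1 (mem_bot.1 (h' ▸ hzc))
    · exact H.noncomm ⟨⟨fun a b => mem_center_iff.1 (h' ▸ mem_top b) a⟩⟩

end SHyp

end Cfsg.Agent.DClassConf
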