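import Cfsg.Agent.Lib.DClassConf.TwoFix
import Cfsg.Agent.Lib.CyclicSylowInter.Noncentral.Quadrangle

/-!
# The quadrangle of the lines

For `i = 2` the fixed point sets of the conjugates of `x` are the lines of a quadrangle with `q ^ 2 + 1`
points on a line and `q` lines on a point, against Higman's inequality.
-/

set_option autoImplicit false
set_option linter.style.haveILetI false
set_option linter.unusedSectionVars false

namespace Cfsg.Agent.DClassConf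

open MulAction Subgroup
open Cfsg.Agent.Involutions
open Cfsg.Agent.SETwoClosed (TwoEl twoEl_of_sq)

universe u

variable {G : Type u} [Group G] {Ω : Type u} [MulAction G Ω] {W : Ω → Subgroup G}

/-- A line: the fixed point set of a conjugate of `x`. -/
abbrev Line (Ω : Type u) {G : Type u} [Group G] [MulAction G Ω] (x : G) : Type u :=
  {Φ : Set Ω // ∃ g : G, Φ = fixSet Ω (g * x * g⁻¹)}

theorem natCard_sigma_eq {α : Type*} [Finite α] {β : α → Type*} [∀ a, Finite (β a)] {k : ℕ}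
    (h : ∀ a, Nat.card (β a) = k) : Nat.card (Σ a, β a) = Nat.card α * k := by
  haveI := Fintype.ofFinite α
  rw [Nat.card_sigma, Finset.sum_congr rfl fun a _ => h a, Finset.sum_const, Finset.card_univ,
    smul_eq_mul, ← Nat.card_eq_fintype_card]

namespace Par

variable [IsSimpleGroup G] [Finite G] [Finite Ω] {n i : ℕ} (P : Par W n i)
include P

variable {a b : Ω} {x : G} (B : Block a b x) (hR : P.conf.famS a x = P.conf.Sa a)
include B hR

/-- The lines through `a`. -/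
theorem line_at (hi : i = 2) {g : G} (hga : (g * x * g⁻¹) • a = a) :
    ∃ w ∈ W a, fixSet Ω (g * x * g⁻¹) = fixSet Ω (x * w) := by
  set u := g * x * g⁻¹ with hu
  have hum : Multi Ω u := B.multi.conj g
  obtain ⟨m, hma, hm⟩ := P.conf.fusion (P.x_mem_Sa B)
    (show u ∈ P.conf.Sa a from ⟨hga, twoEl_of_sq (Basic.inv_sq_one hum.two)⟩) hu.symm
  obtain ⟨w, hw, hy⟩ := hm ▸ P.fix_vee B hR hi hma
  have hy1 : u * w ≠ 1 := fun e => P.conf.not_mem_of_multi hum a (by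
    rw [mul_eq_one_iff_eq_inv.1 e]; exact inv_mem hw)
  obtain ⟨By, hfix, -⟩ := P.centS_eq B hy hy1
  obtain ⟨s, hs, hsy⟩ := P.exists_conj_mul By hw
  have hsu : s * (u * w) * s⁻¹ = u := by rw [hsy, mul_assoc, P.conf.sq a w hw, mul_one]
  refine ⟨_, P.comm_vee B hR (P.x_mem_vee B) hs, ?_⟩
  rw [mul_inv_cancel_left, ← hsu]
  ext c
  rw [← smul_inv_smul s c, mem_fixSet_conj, mem_fixSet_conj, hfix]

/-- The lines through a point of a line. -/
theorem line_through (hi : i = 2) {g g' : G} {f : Ω} (hg : (g * x * g⁻¹) • f = f)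
    (hg' : (g' * x * g'⁻¹) • f = f) :
    ∃ w ∈ W f, fixSet Ω (g' * x * g'⁻¹) = fixSet Ω (g * x * g⁻¹ * w) := by
  have hxf : x • g⁻¹ • f = g⁻¹ • f := by
    rw [mul_smul, mul_smul, ← eq_inv_smul_iff] at hg
    exact hg
  obtain ⟨c, hcx, hca⟩ := P.conf.exists_centralizing B.multi.two B.ha hxf
  set h := g * c with hh
  have hha : h • a = f := by rw [mul_smul, hca, smul_inv_smul]
  have hhx : h * x * h⁻¹ = g * x * g⁻¹ := by
    rw [show h * x * h⁻¹ = g * (c * x * c⁻¹) * g⁻¹ by simp only [hh]; group, hcx]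
  obtain ⟨w, hw, e⟩ := P.line_at B hR hi (g := h⁻¹ * g') (by
    rw [show h⁻¹ * g' * x * (h⁻¹ * g')⁻¹ = h⁻¹ * (g' * x * g'⁻¹) * h by group, mul_smul, mul_smul, hha,
      hg', inv_smul_eq_iff, hha])
  refine ⟨h * w * h⁻¹, hha ▸ P.conf.conj h a w hw, ?_⟩
  rw [show g' * x * g'⁻¹ = h * (h⁻¹ * g' * x * (h⁻¹ * g')⁻¹) * h⁻¹ by group, ← hhx,
    show h * x * h⁻¹ * (h * w * h⁻¹) = h * (x * w) * h⁻¹ by group]
  ext d
  rw [← smul_inv_smul h d, mem_fixSet_conj, mem_fixSet_conj, e]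

/-- The case `i = 2` does not occur once some block has `R = S`. -/
theorem false_of_full (hi : i = 2) : False := by
  classical
  have C := P.conf
  have hn2 := P.two_le B.multi
  obtain ⟨q, hq⟩ : ∃ q, q = 2 ^ n := ⟨_, rfl⟩
  have hq4 : 4 ≤ q := hq ▸ (Nat.pow_le_pow_right two_pos hn2 : 2 ^ 2 ≤ 2 ^ n)
  let R : Line Ω x → Line Ω x → Prop := fun l m => l ≠ m ∧ ∃ f, f ∈ l.1 ∧ f ∈ m.1
  have symm : ∀ l m, R l m → R m l := fun l m ⟨h, f, hl, hm⟩ => ⟨h.symm, f, hm, hl⟩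
  have hline : ∀ l : Line Ω x, Nat.card ↥l.1 = q ^ 2 + 1 := by
    rintro ⟨_, g, rfl⟩
    show Nat.card ↥(fixSet Ω (g * x * g⁻¹)) = _
    rw [card_fixSet, P.nfix_eq (B.multi.conj g), hi, hq]
  have hother : ∀ (g : G) (f : Ω), ∃ c, (g * x * g⁻¹) • c = c ∧ c ≠ f := fun g f => by
    obtain ⟨p, r, hpr, hp, hr⟩ := (B.multi.conj g).fix_two
    by_cases hpf : p = f
    · exact ⟨r, hr, fun e => hpr (hpf.trans e.symm)⟩
    · exact ⟨p, hp, hpf⟩
  -- products of a conjugate of `x` with an involution of one of its fixed points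
  have hmulW : ∀ (g : G) (f : Ω), (g * x * g⁻¹) • f = f → ∀ w ∈ W f,
      ∃ g' : G, g' * x * g'⁻¹ = g * x * g⁻¹ * w := fun g f hgf w hw =>
    isConj_iff.1 ((isConj_iff.2 ⟨g, rfl⟩ : IsConj x (g * x * g⁻¹)).trans
      (P.toEnv.isConj_mul (B.multi.conj g) hgf hw))
  have hsolo : ∀ (v : G), orderOf v = 2 → ∀ f, ∀ w ∈ W f, w ≠ 1 → ∀ c, v • c = c → (v * w) • c = c →
      c = f := by
    intro v hv f w hw hw1 c hc hc'
    refine C.uniq f w hw hw1 c ?_
    calc w • c = v • v • w • c := by rw [smul_smul v v, Basic.inv_sq_one hv, one_smul]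
      _ = c := by rw [← mul_smul v w c, hc', hc]
  -- two lines meet at most once
  have huniq : ∀ l m : Line Ω x, l ≠ m → ∀ f f', f ∈ l.1 → f ∈ m.1 → f' ∈ l.1 → f' ∈ m.1 → f = f' := by
    rintro ⟨_, g, rfl⟩ ⟨_, g', rfl⟩ hne f f' hl hm hl' hm'
    obtain ⟨w, hw, e⟩ := P.line_through B hR hi hl hm
    refine (hsolo _ (B.multi.conj g).two f w hw (fun h1 => hne (Subtype.ext ?_)) f' hl' (e.le hm')).symm
    show fixSet Ω (g * x * g⁻¹) = fixSet Ω (g' * x * g'⁻¹)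
    rw [e, h1, mul_one]
  -- lines through a point
  have hpencil : ∀ f : Ω, Nat.card {m : Line Ω x // f ∈ m.1} = q := by
    intro f
    obtain ⟨g, hg⟩ : ∃ g : G, (g * x * g⁻¹) • f = f := by
      obtain ⟨g, hg⟩ := @MulAction.exists_smul_eq G Ω _ C.isPretransitive a f
      exact ⟨g, by rw [← hg, mul_smul, mul_smul, inv_smul_smul, B.ha]⟩
    choose g' hg' using fun w : ↥(W f) => hmulW g f hg w w.2
    rw [hq, ← P.card_W B.multi f]
    refine (Nat.card_eq_of_bijective (fun w : ↥(W f) =>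
      (⟨⟨fixSet Ω (g' w * x * (g' w)⁻¹), g' w, rfl⟩, by
        show (g' w * x * (g' w)⁻¹) • f = f
        rw [hg', mul_smul, C.fix f _ w.2, hg]⟩ : {m : Line Ω x // f ∈ m.1})) ⟨?_, ?_⟩).symm
    · intro w w' h
      have e : fixSet Ω (g' w * x * (g' w)⁻¹) = fixSet Ω (g' w' * x * (g' w')⁻¹) :=
        congrArg (fun m : {m : Line Ω x // f ∈ m.1} => m.1.1) h
      by_contra hne
      obtain ⟨c, hc, hcf⟩ := hother (g' w) f
      have hc' : (g' w' * x * (g' w')⁻¹) • c = c := e.le hc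
      rw [hg'] at hc hc'
      refine hcf (hsolo _ ((hg' w) ▸ (B.multi.conj (g' w)).two) f _ (mul_mem w.2 w'.2) (fun h1 => hne ?_)
        c hc ?_)
      · exact Subtype.ext (by rw [mul_eq_one_iff_eq_inv.1 h1, inv_eq_of_mul_eq_one_right (C.sq f _ w'.2)])
      · rwa [← mul_assoc, mul_assoc (g * x * g⁻¹), C.sq f _ w.2, mul_one]
    · rintro ⟨⟨_, g₁, rfl⟩, hf⟩
      obtain ⟨w, hw, e⟩ := P.line_through B hR hi hg hf
      refine ⟨⟨w, hw⟩, Subtype.ext (Subtype.ext ?_)⟩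
      show fixSet Ω (g' _ * x * (g' _)⁻¹) = _
      rw [hg']; exact e.symm
  -- the axiom
  have haxiom : ∀ (l : Line Ω x) (f : Ω), f ∉ l.1 → ∃! m : Line Ω x, f ∈ m.1 ∧ R l m := by
    rintro ⟨_, g, rfl⟩ f hf
    have hv2 := (B.multi.conj g).two
    have hf' : (g * x * g⁻¹) • f ≠ f := hf
    obtain ⟨h, v, hh, hv, hv1, hvf⟩ := C.exists_middle hv2 (C.not_mem_of_multi (B.multi.conj g)) hf'
    obtain ⟨g', hg'⟩ := hmulW g h hh v hv
    refine ⟨⟨_, g', rfl⟩, ⟨show (g' * x * g'⁻¹) • f = f by rw [hg']; exact hvf,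
      fun e => hf' ((congrArg Subtype.val e).ge (show (g' * x * g'⁻¹) • f = f by rw [hg']; exact hvf)),
      h, hh, show (g' * x * g'⁻¹) • h = h by rw [hg', mul_smul, C.fix h v hv, hh]⟩, ?_⟩
    rintro ⟨_, g₁, rfl⟩ ⟨hf1, -, h', hl', hm'⟩
    obtain ⟨v', hv', e⟩ := P.line_through B hR hi hl' hm'
    obtain rfl := C.middle_unique hv2 hf' hh hv hl' hv' hvf (e.le hf1)
    refine Subtype.ext ?_
    show fixSet Ω (g₁ * x * g₁⁻¹) = fixSet Ω (g' * x * g'⁻¹)
    rw [e, hg']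
  -- three lines meeting each other are concurrent
  have htri : ∀ l m k : Line Ω x, ∀ f, l ≠ m → f ∈ l.1 → f ∈ m.1 → R l k → R m k → f ∈ k.1 := by
    rintro l m k f hlm hfl hfm ⟨hlk, h, hhl, hhk⟩ hmk
    by_contra hfk
    have hhm : h ∉ m.1 := fun hhm => hfk (huniq l m hlm f h hfl hfm hhl hhm ▸ hhk)
    exact hlk ((haxiom m h hhm).unique ⟨hhl, hlm.symm, f, hfm, hfl⟩ ⟨hhk, hmk⟩)
  have hdeg : ∀ l, Nat.card {m // R l m} = (q ^ 2 + 1) * (q - 1) := by
    intro l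
    have hF : ∀ f : ↥l.1, Nat.card ↥({m : Line Ω x | (f : Ω) ∈ m.1} \ {l}) = q - 1 := fun f => by
      rw [Nat.card_coe_set_eq, Set.ncard_sdiff_singleton_of_mem (show l ∈ {m : Line Ω x | (f : Ω) ∈ m.1} from f.2),
        ← Nat.card_coe_set_eq]
      exact congrArg (· - 1) (hpencil f)
    rw [← hline l, ← natCard_sigma_eq hF]
    refine (Nat.card_eq_of_bijective (fun p : Σ f : ↥l.1, ↥({m : Line Ω x | (f : Ω) ∈ m.1} \ {l}) =>
      (⟨p.2.1, fun e => p.2.2.2 e.symm, p.1, p.1.2, p.2.2.1⟩ : {m // R l m})) ⟨?_, ?_⟩).symm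
    · rintro ⟨⟨f, hf⟩, m, hm, hml⟩ ⟨⟨f', hf'⟩, m', hm', hml'⟩ e
      obtain rfl : m = m' := congrArg Subtype.val e
      obtain rfl : f = f' := huniq l m (fun e => hml e.symm) f f' hf hm hf' hm'
      rfl
    · rintro ⟨m, hne, f, hfl, hfm⟩
      exact ⟨⟨⟨f, hfl⟩, m, hfm, fun e => hne e.symm⟩, rfl⟩
  have hadj : ∀ l m, R l m → Nat.card {k // R l k ∧ R m k} = q - 2 := by
    rintro l m ⟨hlm, f, hfl, hfm⟩
    have e : {k : Line Ω x | R l k ∧ R m k} = ({k : Line Ω x | f ∈ k.1} \ {l}) \ {m} := by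
      ext k
      refine ⟨fun ⟨h1, h2⟩ => ⟨⟨htri l m k f hlm hfl hfm h1 h2, h1.1.symm⟩, h2.1.symm⟩, ?_⟩
      rintro ⟨⟨hk, hkl⟩, hkm⟩
      exact ⟨⟨Ne.symm hkl, f, hfl, hk⟩, Ne.symm hkm, f, hfm, hk⟩
    show Nat.card ↥{k : Line Ω x | R l k ∧ R m k} = _
    rw [Nat.card_coe_set_eq, e,
      Set.ncard_sdiff_singleton_of_mem (show m ∈ {k : Line Ω x | f ∈ k.1} \ {l} from ⟨hfm, hlm.symm⟩),
      Set.ncard_sdiff_singleton_of_mem (show l ∈ {k : Line Ω x | f ∈ k.1} from hfl), ← Nat.card_coe_set_eq,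
      Nat.sub_sub]
    exact congrArg (· - 2) (hpencil f)
  have hnon : ∀ l m, l ≠ m → ¬ R l m → Nat.card {k // R l k ∧ R m k} = q ^ 2 + 1 := by
    intro l m hne hlm
    have hfm : ∀ f : ↥l.1, (f : Ω) ∉ m.1 := fun f h => hlm ⟨hne, f, f.2, h⟩
    choose k hk using fun f : ↥l.1 => (haxiom m f (hfm f)).exists
    rw [← hline l]
    refine (Nat.card_eq_of_bijective (fun f => (⟨k f,
      ⟨fun e => hlm (symm _ _ (e ▸ (hk f).2)), f, f.2, (hk f).1⟩, (hk f).2⟩ : {k // R l k ∧ R m k}))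
      ⟨?_, ?_⟩).symm
    · intro f f' h
      have e : k f = k f' := congrArg Subtype.val h
      exact Subtype.ext (huniq l (k f) (fun e' => hlm (symm _ _ (e' ▸ (hk f).2))) f f' f.2 (hk f).1 f'.2
        (e ▸ (hk f').1))
    · rintro ⟨k', ⟨-, f, hfl, hfk⟩, hmk⟩
      exact ⟨⟨f, hfl⟩, Subtype.ext ((haxiom m f (hfm ⟨f, hfl⟩)).unique (hk ⟨f, hfl⟩) ⟨hfk, hmk⟩)⟩
  have hv : Nat.card (Line Ω x) = q * (1 + q ^ 2 * (q - 1)) := by
    have h1 : Nat.card Ω * q = Nat.card (Line Ω x) * (q ^ 2 + 1) := by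
      rw [← natCard_sigma_eq hpencil, ← natCard_sigma_eq hline]
      exact Nat.card_congr
        { toFun := fun p => ⟨p.2.1, p.1, p.2.2⟩
          invFun := fun p => ⟨p.2.1, p.1, p.2.2⟩
          left_inv := fun _ => rfl
          right_inv := fun _ => rfl }
    rw [P.card_points_two B hi, ← hq] at h1
    refine Nat.eq_of_mul_eq_mul_right (Nat.succ_pos (q ^ 2)) ?_
    rw [Nat.succ_eq_add_one, ← h1]
    obtain ⟨r, hr⟩ := Nat.exists_eq_add_of_le (show 1 ≤ q by omega)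
    rw [hr, Nat.add_sub_cancel_left]
    ring
  have hind : ∀ l m k k', l ≠ m → ¬ R l m → R l k → R m k → R l k' → R m k' → ¬ R k k' := by
    rintro l m k k' hne hlm hlk hmk hlk' hmk' ⟨hkk, f, hfk, hfk'⟩
    exact hlm ⟨hne, f, htri k k' l f hkk hfk hfk' (symm _ _ hlk) (symm _ _ hlk'),
      htri k k' m f hkk hfk hfk' (symm _ _ hmk) (symm _ _ hmk')⟩
  haveI : Nonempty (Line Ω x) := ⟨⟨_, 1, rfl⟩⟩
  refine CyclicSylowInter.Noncentral.higman R symm (fun l h => h.1 rfl) (q ^ 2) q hdeg hadj hnon hv hind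
    (by omega) ?_
  rw [pow_two]
  exact Nat.mul_lt_mul_of_lt_of_lt (by omega) (by omega)

omit hR in
/-- The case `i = 2` does not occur. -/
theorem false_of_two (hi : i = 2) : False := by
  obtain ⟨c, y, By, hy⟩ := P.exists_full B hi
  exact P.false_of_full By hy hi

end Par

end Cfsg.Agent.DClassConf
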