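import Cfsg.Agent.Lib.DClassConf.OneMain
import Cfsg.Agent.Lib.DClassConf.Lines

/-!
# A simple configuration has no multi-point involution

By induction on the order: a minimal counterexample has common parameters `i = 1` or `i = 2`, and
neither occurs.
-/

set_option autoImplicit false
set_option linter.style.haveILetI false
set_option linter.unusedSectionVars false

namespace Cfsg.Agent.DClassConf

open MulAction Subgroup
open Cfsg.Agent.CyclicSylowInter (TITheorem KindFacts KindTI)

universe u

theorem noMultiBelow (hT : TITheorem.{u}) (hF : KindFacts.{u}) : ∀ N, NoMultiBelow.{u} N := by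
  intro N
  induction N with
  | zero => intro G _ _ _ Ω _ _ W _ h; exact absurd h (Nat.not_lt_zero _)
  | succ N ih =>
    intro G _ _ _ Ω _ _ W C hlt x hx
    have hle : Nat.card G ≤ N := Nat.lt_succ_iff.1 hlt
    have E : Env W := ⟨C, hT, hF, fun H _ _ _ Ψ _ _ V CV hV => ih H Ψ V CV (hV.trans_le hle)⟩
    obtain ⟨n, i, P⟩ := E.exists_par hx
    rcases P.i_one_two with hi | hi
    · exact P.false_of_linear hi hx
    · obtain ⟨a, b, hab, ha, hb⟩ := hx.fix_two
      exact P.false_of_two (a := a) (b := b) (x := x) ⟨hx, ha, hb, hab.symm⟩ hi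

theorem noMulti (hT : TITheorem.{u}) (hF : KindFacts.{u}) (G : Type u) [Group G] [Finite G]
    [IsSimpleGroup G] (Ω : Type u) [Finite Ω] [MulAction G Ω] (W : Ω → Subgroup G) (C : Conf W) (x : G) :
    ¬ Multi Ω x :=
  noMultiBelow hT hF (Nat.card G + 1) G Ω W C (Nat.lt_succ_self _) x

/-- A simple configuration is one of the three families. -/
theorem kindTI_of_conf (hT : TITheorem.{u}) (hF : KindFacts.{u}) (G : Type u) [Group G] [Finite G]
    [IsSimpleGroup G] (Ω : Type u) [Finite Ω] [Nonempty Ω] [MulAction G Ω] (W : Ω → Subgroup G)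
    (C : Conf W) : KindTI G := by
  haveI := C.faithful
  have hno := noMulti hT hF G Ω W C
  refine hT G (fun hcm => C.socle_not_comm ⟨⟨fun p q => Subtype.ext (hcm.is_comm.comm (p : G) q)⟩⟩)
    (C.cycInt hno) (C.tiSylow hno)

end Cfsg.Agent.DClassConf
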