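import Cfsg.Agent.Lib.DClassConf.Central
import Cfsg.Agent.Lib.Coprime.Generation
import Cfsg.Agent.Lib.ZStar.CyclicIntersections.Fixed

/-!
# Centres with three involutions

If the centre of a Sylow subgroup `S` has three involutions and one of them, `z`, lies in another Sylow
subgroup, then modulo `z` the other two give an isolated involution of the centralizer of `z`, whose
odd core is generated by centralizers of a four-group of `S`; so this centralizer normalizes `S`.
-/

set_option autoImplicit false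
set_option linter.style.haveILetI false
set_option linter.unusedSectionVars false

namespace Cfsg.Agent.DClassConf

open Subgroup
open scoped Pointwise
open Cfsg.Agent.Involutions
open Cfsg.Agent.CyclicSylowInter (centInv cen)
open Cfsg.Agent.ZStar.CyclicIntersections (conj_mem_smul mem_smul mem_cent four)

universe u

variable {G : Type u} [Group G] [Finite G]

set_option maxHeartbeats 400000 in
theorem SHyp.false_of_four (H : SHyp G) {S T : Sylow 2 G} (h4 : Nat.card ↥(centInv S) = 4) {z y : G}
    (hz : z ∈ centInv S) (hz1 : z ≠ 1) (hzT : z ∈ (T : Subgroup G)) (hTS : T ≠ S)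
    (hy : y ∈ (S : Subgroup G)) (hy2 : y * y = 1) (hyW : y ∉ centInv S) : False := by
  classical
  haveI := Fact.mk Nat.prime_two
  obtain ⟨u, hu, hu1, huz⟩ := H.exists_centInv_ne S z
  have hzu : Commute z u := hz.2.2 u hu.1
  have hzy : Commute z y := hz.2.2 y hy
  have hmem4 : ∀ x ∈ centInv S, x = 1 ∨ x = z ∨ x = u ∨ x = z * u := by
    intro x hx
    by_contra hcon
    simp only [not_or] at hcon
    have hle : ({x, 1, z, u, z * u} : Set G).ncard ≤ ((centInv S : Subgroup G) : Set G).ncard :=
      Set.ncard_le_ncard (by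
        rintro a (rfl | rfl | rfl | rfl | rfl)
        exacts [hx, one_mem _, hz, hu, mul_mem hz hu]) (Set.toFinite _)
    rw [← Nat.card_coe_set_eq ((centInv S : Subgroup G) : Set G), SetLike.coe_sort_coe, h4,
      Set.ncard_insert_of_notMem (by
        simp only [Set.mem_insert_iff, Set.mem_singleton_iff, not_or]; exact hcon)] at hle
    have h3 : ({1, z, u, z * u} : Set G).ncard = 4 := by
      rw [show ({1, z, u, z * u} : Set G) = insert (z * u) {1, z, u} by ext; simp; tauto,
        Set.ncard_insert_of_notMem (by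
          simp only [Set.mem_insert_iff, Set.mem_singleton_iff, not_or]
          refine ⟨fun e => huz ?_, fun e => hu1 ?_, fun e => hz1 ?_⟩
          · rw [← inv_eq_of_mul_eq_one_right e, inv_eq_of_mul_eq_one_left hz.2.1]
          · exact mul_eq_left.1 e
          · exact mul_eq_right.1 e),
        Set.ncard_eq_three.2 ⟨1, z, u, hz1.symm, hu1.symm, huz.symm, rfl⟩]
    omega
  set K := cen z with hK
  have hSK : (S : Subgroup G) ≤ K := fun s hs => mem_cent.2 (hz.2.2 s hs).symm
  set zK : K := ⟨z, mem_cent.2 (Commute.refl z)⟩ with hzK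
  haveI hZn : (zpowers zK).Normal := ⟨fun a ha k => by
    obtain ⟨j, rfl⟩ := mem_zpowers_iff.1 ha
    have hc : Commute k zK := Subtype.ext (mem_cent.1 k.2).eq
    rw [(hc.zpow_right j).eq, mul_inv_cancel_right]
    exact zpow_mem (mem_zpowers zK) j⟩
  set π := QuotientGroup.mk' (zpowers zK) with hπ
  have hzz : zK * zK = 1 := Subtype.ext hz.2.1
  have hker : ∀ k : K, π k = 1 ↔ (k : G) = 1 ∨ (k : G) = z := by
    intro k
    rw [← MonoidHom.mem_ker, QuotientGroup.ker_mk']
    constructor
    · intro hk
      obtain ⟨j, rfl⟩ := mem_zpowers_iff.1 hk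
      rcases Int.even_or_odd j with ⟨i, rfl⟩ | ⟨i, rfl⟩
      · refine Or.inl ?_
        rw [zpow_add, ← (Commute.refl zK).mul_zpow, hzz, one_zpow]
        rfl
      · refine Or.inr ?_
        rw [two_mul, zpow_add_one, zpow_add, ← (Commute.refl zK).mul_zpow, hzz, one_zpow, one_mul]
    · rintro (h | h)
      · rw [show k = 1 from Subtype.ext h]; exact one_mem _
      · rw [show k = zK from Subtype.ext h]; exact mem_zpowers zK
  have heq : ∀ a b : K, π a = π b → (a : G) = b ∨ (a : G) = z * b := by
    intro a b e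
    rcases (hker (a * b⁻¹)).1 (by rw [map_mul, map_inv, e, mul_inv_cancel]) with h | h <;>
      push_cast at h
    · exact Or.inl (mul_inv_eq_one.1 h)
    · exact Or.inr (mul_inv_eq_iff_eq_mul.1 h)
  -- the stabilizer of `S` contains the centralizers of the images of the involutions of `S`
  set N : Subgroup (K ⧸ zpowers zK) := ((normalizer ((S : Subgroup G) : Set G)).subgroupOf K).map π
  have hcentle : ∀ a : K, (a : G) ∈ (S : Subgroup G) → (a : G) * a = 1 → (a : G) ≠ 1 → (a : G) ≠ z →
      ∀ k : K, Commute (π k) (π a) → π k ∈ N := by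
    intro a haS ha2 ha1 haz k hc
    refine mem_map_of_mem π (mem_subgroupOf.2 (smul_eq_self_iff.1 ?_))
    have hkz : (k : G) * z * (k : G)⁻¹ = z := by
      rw [(mem_cent.1 k.2).eq, mul_inv_cancel_right]
    have hkaS : (k : G) * a * (k : G)⁻¹ ∈ (S : Subgroup G) := by
      rcases heq (k * a * k⁻¹) a (by rw [map_mul, map_mul, map_inv, hc.eq, mul_inv_cancel_right])
        with h | h <;> push_cast at h <;> rw [h]
      exacts [haS, mul_mem hz.1 haS]
    refine (H.pair_central (S := S) (T := (k : G) • S) hz hz1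
      (x := (k : G) * a * (k : G)⁻¹) ?_ ?_ ?_ ?_ hz.1 hkaS ?_ (conj_mem_smul _ haS)).symm
    · rw [show (k : G) * a * (k : G)⁻¹ * ((k : G) * a * (k : G)⁻¹) = (k : G) * (a * a) * (k : G)⁻¹ by group,
        ha2, mul_one, mul_inv_cancel]
    · exact fun e => ha1 (conj_eq_one_iff.1 e)
    · exact fun e => haz (mul_left_cancel (mul_right_cancel (e.trans hkz.symm)))
    · exact hz.2.2 _ hkaS
    · have := conj_mem_smul (k : G) hz.1
      rwa [hkz] at this
  set uK : K := ⟨u, hSK hu.1⟩
  set yK : K := ⟨y, hSK hy⟩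
  have hu0 : π uK ≠ 1 := fun e => ((hker _).1 e).elim hu1 huz
  have hu2 : π uK * π uK = 1 := by
    rw [← map_mul]; exact (hker _).2 (Or.inl hu.2.1)
  have hy2' : π yK * π yK = 1 := by
    rw [← map_mul]; exact (hker _).2 (Or.inl hy2)
  -- isolated
  have hiso : Cfsg.IsIsolatedInvolution (π uK) := by
    refine ⟨Basic.orderOf_two_iff.2 ⟨hu2, hu0⟩, fun g hg => ?_⟩
    obtain ⟨k, rfl⟩ := QuotientGroup.mk'_surjective _ g
    set v : K := k * uK * k⁻¹ with hv
    have hcomm : Commute (π uK) (π v) := by rw [hv, map_mul, map_mul, map_inv]; exact hg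
    have hv2 : π v * π v = 1 := by
      rw [← map_mul, show v * v = k * (uK * uK) * k⁻¹ by rw [hv]; group, map_mul, map_mul, map_mul,
        hu2, mul_one, ← map_mul, mul_inv_cancel, map_one]
    let A := four (π uK) (π v) hu2 hv2 hcomm
    have hA : IsPGroup 2 A := four_isPGroup hu2 hv2 hcomm
    have hP : IsPGroup 2 (A.comap π) := hA.comap_of_ker_isPGroup π (fun a => ⟨1, Subtype.ext (by
      simp only [pow_one, OneMemClass.coe_one, pow_two]
      rcases (hker _).1 a.2 with h | h
      · rw [coe_mul, show (a : K) = 1 from Subtype.ext h, one_mul]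
      · rw [coe_mul, show (a : K) = zK from Subtype.ext h, hzz])⟩)
    obtain ⟨U, hU⟩ := (hP.map K.subtype).exists_le_sylow
    have hmemU : ∀ a : K, π a ∈ A → (a : G) ∈ (U : Subgroup G) := fun a ha => hU ⟨a, ha, rfl⟩
    have hUS : S = U := H.pair_central hz hz1 hu.2.1 hu1 huz hzu hz.1 hu.1
      (hmemU zK (by rw [(hker zK).2 (Or.inr rfl)]; exact one_mem A))
      (hmemU uK (Or.inr (Or.inl rfl)))
    have hvS : (v : G) ∈ (S : Subgroup G) := hUS ▸ hmemU v (Or.inr (Or.inr (Or.inl rfl)))
    have hvW : (v : G) ∈ centInv S := H.mem_centInv (mem_centInv_conj (k : G) hu) hvS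
    have hvv : π k * π uK * (π k)⁻¹ = π v := by rw [hv, map_mul, map_mul, map_inv]
    rw [hvv]
    rcases hmem4 _ hvW with h | h | h | h
    · exact absurd (conj_eq_one_iff.1 (h : (k : G) * u * (k : G)⁻¹ = 1)) hu1
    · have hkz : (k : G) * z * (k : G)⁻¹ = z := by rw [(mem_cent.1 k.2).eq, mul_inv_cancel_right]
      exact absurd (mul_left_cancel (mul_right_cancel ((h : (k : G) * u * (k : G)⁻¹ = z).trans hkz.symm))) huz
    · rw [show v = uK from Subtype.ext h]
    · rw [show v = zK * uK from Subtype.ext h, map_mul, (hker zK).2 (Or.inr rfl), one_mul]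
  -- the odd core normalizes `S`
  set P := Cfsg.oddCore (K ⧸ zpowers zK)
  have huy : Commute (π uK) (π yK) :=
    (show Commute uK yK from Subtype.ext (hu.2.2 y hy).eq).map π
  set A := four (π uK) (π yK) hu2 hy2' huy
  haveI : P.Normal := ZStar.Main.oddCore_normal
  have hny : ∀ x ∈ centInv S, π yK ≠ 1 ∧ y ≠ x := fun x hx =>
    ⟨fun e => ((hker _).1 e).elim (fun h => hyW (by rw [show y = 1 from h]; exact one_mem _))
        (fun h => hyW (by rw [show y = z from h]; exact hz)),
      fun e => hyW (e ▸ hx)⟩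
  haveI : IsMulCommutative A := four_comm hu2 hy2' huy
  have hPN : P ≤ N := by
    have hA2 : IsPGroup 2 A := four_isPGroup hu2 hy2' huy
    have hncyc : ¬ IsCyclic A := four_not_cyclic hu2 hy2' huy hu0 (hny z hz).1 fun e => by
      rcases heq yK uK e.symm with h | h
      · exact (hny u hu).2 h
      · exact (hny (z * u) (mul_mem hz hu)).2 h
    obtain ⟨j, hj⟩ := IsPGroup.iff_card.1 hA2
    have hgen := Coprime.fixedGen_eq (A := A) (K := P) hncyc
      (by rw [Subgroup.normalizer_eq_top]; exact le_top)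
      (by rw [hj]; exact Nat.Coprime.pow_left _ (Nat.coprime_two_left.2 InvChar.Core.odd_card_oddCore))
    rw [← hgen]
    refine iSup₂_le fun a ha m hm => ?_
    obtain ⟨k, rfl⟩ := QuotientGroup.mk'_surjective _ m
    have hc := Subgroup.mem_centralizer_singleton_iff.1 hm.2
    rcases ha.1 with h | h | h | h
    · exact absurd h ha.2
    · subst h
      exact hcentle uK hu.1 hu.2.1 hu1 huz k hc
    · subst h
      exact hcentle yK hy hy2 (fun e => (hny 1 (one_mem _)).2 e) (fun e => (hny z hz).2 e) k hc
    · subst h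
      refine hcentle (uK * yK) (mul_mem hu.1 hy) ?_ ?_ ?_ k (by rw [map_mul]; exact hc)
      · show u * y * (u * y) = 1
        rw [(show Commute y u from (hu.2.2 y hy).symm).mul_mul_mul_comm, hu.2.1, hy2, one_mul]
      · intro e
        exact (hny u hu).2 (mul_left_cancel ((e : u * y = 1).trans hu.2.1.symm))
      · intro e
        have e' : u * y = z := e
        have : y = u * z := by rw [← e', ← mul_assoc, hu.2.1, one_mul]
        exact (hny (u * z) (mul_mem hu hz)).2 this
  -- so does the centralizer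
  have hall : ∀ q : K ⧸ zpowers zK, q ∈ N := by
    intro q
    set x := q * π uK * q⁻¹ with hx
    have hinvu : (π uK)⁻¹ = π uK := inv_eq_of_mul_eq_one_left hu2
    have hc : π uK * x ∈ P := by
      have := ZStar.Main.commutator_mem_oddCore hiso q
      have e : π uK * x = π uK * q * (π uK)⁻¹ * q⁻¹ := by
        rw [hx, hinvu]; group
      exact e ▸ this
    have hx2 : orderOf x = 2 := by rw [hx, Basic.orderOf_conj, hiso.1]
    have hodd : Odd (orderOf (π uK * x)) :=
      InvChar.Core.odd_card_oddCore.of_dvd_nat (P.orderOf_dvd_natCard hc)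
    obtain ⟨g, hg, hgx⟩ := Basic.exists_conj_of_odd hiso.1 hx2 hodd
    have hgP : g ∈ P := (zpowers_le.2 hc) hg
    have h1 : Commute (g⁻¹ * q) (π uK) := by
      show g⁻¹ * q * π uK = π uK * (g⁻¹ * q)
      rw [show g⁻¹ * q * π uK = g⁻¹ * x * q by rw [hx]; group, ← hgx]
      group
    obtain ⟨k, hk⟩ := QuotientGroup.mk'_surjective _ (g⁻¹ * q)
    have h2 := hcentle uK hu.1 hu.2.1 hu1 huz k (hk.symm ▸ h1)
    rw [hk] at h2
    simpa using mul_mem (hPN hgP) h2
  refine hTS ?_
  have hzT' := H.mem_centInv hz hzT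
  have hle : (T : Subgroup G) ≤ S := fun t ht => by
    have htK : t ∈ K := mem_cent.2 (hzT'.2.2 t ht).symm
    obtain ⟨k, hk, e⟩ := hall (π ⟨t, htK⟩)
    have hk' : (k : G) ∈ normalizer ((S : Subgroup G) : Set G) := hk
    have : t • S = S := by
      rcases heq ⟨t, htK⟩ k e.symm with h | h
      · rw [show t = (k : G) from h]; exact smul_eq_self_iff.2 hk'
      · rw [show t = z * (k : G) from h, mul_smul, smul_eq_self_iff.2 hk', smul_eq_of_mem hz.1]
    exact mem_of_smul_eq this (twoEl_mem ht)
  exact Sylow.ext (T.is_maximal' S.isPGroup' hle).symm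

end Cfsg.Agent.DClassConf
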