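import Cfsg.Agent.Lib.DClassConf.Central
import Cfsg.Agent.Lib.CyclicSylowInter.Main

/-!
# Rank at most two

The centre of a Sylow subgroup has two involutions, so of the groups of rank at most two only `L₂(q)`,
`q ≡ 3, 5 mod 8`, and `U₃(4)` are left.
-/

set_option autoImplicit false
set_option linter.style.haveILetI false
set_option linter.unusedSectionVars false

namespace Cfsg.Agent.DClassConf

open Subgroup
open scoped Pointwise
open Cfsg.Agent.CyclicSylowInter
open Cfsg.Agent.ZStar.CyclicIntersections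

universe u

variable {G : Type u} [Group G] [Finite G]

/-- A Sylow subgroup whose centre has one involution is impossible. -/
theorem SHyp.false_of_central_unique (H : SHyp G) (S : Sylow 2 G) {P : Type*} [Group P]
    (e : (S : Subgroup G) ≃* P) (hP : ∀ a c : P, a * a = 1 → c * c = 1 → a ≠ 1 → c ≠ 1 →
      (∀ g, Commute a g) → (∀ g, Commute c g) → a = c) : False := by
  obtain ⟨z, hz, hz1⟩ := H.exists_centInv S
  obtain ⟨x, hx, hx1, hxz⟩ := H.exists_centInv_ne S z
  have key : ∀ w (hw : w ∈ centInv S), w ≠ 1 → e ⟨w, hw.1⟩ * e ⟨w, hw.1⟩ = 1 ∧ e ⟨w, hw.1⟩ ≠ 1 ∧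
      ∀ g, Commute (e ⟨w, hw.1⟩) g := by
    intro w hw hw1
    refine ⟨?_, fun h => ?_, fun g => ?_⟩
    · rw [← map_mul, ← map_one e]
      exact congrArg e (Subtype.ext hw.2.1)
    · rw [MulEquiv.map_eq_one_iff] at h
      exact hw1 (congrArg Subtype.val h)
    · obtain ⟨s, rfl⟩ := e.surjective g
      exact (show Commute (⟨w, hw.1⟩ : (S : Subgroup G)) s from Subtype.ext (hw.2.2 s s.2).eq).map
        e.toMonoidHom
  exact hxz (congrArg Subtype.val (e.injective (hP _ _ (key x hx hx1).1 (key z hz hz1).1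
    (key x hx hx1).2.1 (key z hz hz1).2.1 (key x hx hx1).2.2 (key z hz hz1).2.2)))

/-- A simple group of 2-rank at most two with these intersections. -/
theorem SHyp.five_of_rankTwo (H : SHyp G) (hU : UFourTheorem.{u}) (h2 : Cfsg.PRankLE 2 2 G) : Five G := by
  haveI := H.simple
  have hne := H.noncomm
  haveI := Fact.mk Nat.prime_two
  let S : Sylow 2 G := default
  let F := GaloisField 2 4
  haveI : Fintype F := Fintype.ofFinite F
  have hF : Fintype.card F = 16 := by
    rw [← Nat.card_eq_fintype_card, GaloisField.card 2 4 (by norm_num)]; norm_num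
  let P : Sylow 2 (Cfsg.PSU 3 F 4) := default
  rcases Cfsg.Agent.S0516.result hne h2 S hF P with ⟨n, hn, ⟨e⟩⟩ | hqd | hw | he
  · rcases Nat.lt_or_ge n 3 with h3 | h3
    · obtain rfl : n = 2 := by omega
      have hcard : Nat.card ↥(S : Subgroup G) = 4 := by
        rw [Nat.card_congr e.toEquiv, DihedralGroup.nat_card]
      have h8 : ¬ 8 ∣ Nat.card G := by
        intro h
        obtain ⟨K, hK⟩ := Sylow.exists_subgroup_card_pow_prime 2 (n := 3) (G := G) h
        obtain ⟨T, hT⟩ := (IsPGroup.of_card hK).exists_le_sylow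
        have h1 := Subgroup.card_le_of_le hT
        rw [hK, Nat.card_congr (Sylow.equiv T S).toEquiv, hcard] at h1
        norm_num at h1
      rcases GW.simpleGW G S 2 le_rfl ⟨e⟩ with ⟨K, iK, jK, hKodd, ⟨φ⟩⟩ | ⟨⟨φ⟩⟩
      · have h3 := CIT.SThreeTwo.three_lt_card hne hKodd φ
        have hq := Cfsg.Agent.Classical.SmallIso.natCard_pslTwo K
        rw [Cfsg.Agent.Classical.GL2.natCard_SL_two, ← Nat.card_congr φ.toEquiv] at hq
        have hmod : Fintype.card K % 8 = 3 ∨ Fintype.card K % 8 = 5 := by
          by_contra hcon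
          apply h8
          set q := Fintype.card K with hqdef
          have hq2 := Nat.odd_iff.1 hKodd
          have h16 : 16 ∣ q * ((q - 1) * (q + 1)) := by
            refine Dvd.dvd.mul_left ?_ q
            obtain ⟨k, hk⟩ : ∃ k, q = 8 * k + 1 ∨ q = 8 * k + 7 := ⟨q / 8, by omega⟩
            rcases hk with hk | hk
            · exact ⟨k * (4 * k + 1), by rw [hk, Nat.add_sub_cancel]; ring⟩
            · exact ⟨(4 * k + 3) * (k + 1), by rw [hk, show 8 * k + 7 - 1 = 8 * k + 6 by omega]; ring⟩
          have hgcd : Nat.gcd 2 (q - 1) = 2 :=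
            Nat.gcd_eq_left (Nat.dvd_of_mod_eq_zero (by omega))
          rw [hgcd] at hq
          omega
        rcases eq_or_ne (Fintype.card K) 5 with h5 | h5
        · let F4 := GaloisField 2 2
          haveI : Fintype F4 := Fintype.ofFinite F4
          have hF4 : Fintype.card F4 = 2 ^ 2 := by
            rw [← Nat.card_eq_fintype_card, GaloisField.card 2 2 (by norm_num)]
          obtain ⟨f5⟩ := S0253.result h5
          obtain ⟨f4⟩ := S0252.result (F := F4) hF4
          exact Or.inl ⟨2, F4, inferInstance, inferInstance, le_rfl, hF4,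
            ⟨(φ.trans f5).trans f4.symm⟩⟩
        · exact Or.inr (Or.inr (Or.inr (Or.inl ⟨K, iK, jK, hmod, by omega, ⟨φ⟩⟩)))
      · exfalso
        apply h8
        rw [Nat.card_congr φ.toEquiv, nat_card_alternatingGroup]
        simp [Nat.factorial]
    · exact (H.false_of_central_unique S e
        fun a c h1 h2 h3' h4 h5 h6 => dihedral_central_unique h3 h1 h2 h3' h4 h5 h6).elim
  · obtain ⟨D⟩ := Involutions.QuasiDihedral.exists_gens hqd
    refine (H.false_of_central_unique S (MulEquiv.refl _) fun a c _ _ ha hc hac hcc => ?_).elim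
    rcases D.eq_center hac with h | h
    · exact absurd h ha
    · rcases D.eq_center hcc with h' | h'
      · exact absurd h' hc
      · rw [h, h']
  · obtain ⟨D⟩ := Involutions.Wreathed.exists_gens hw
    refine (H.false_of_central_unique S (MulEquiv.refl _)
      fun a c ha2 hc2 ha hc hac hcc => ?_).elim
    obtain ⟨i, rfl⟩ := D.eq_central hac
    obtain ⟨j, rfl⟩ := D.eq_central hcc
    rw [D.U_mul_U, D.U_eq_one] at ha2 hc2
    rcases D.add_self.1 ha2.1 with rfl | rfl
    · exact absurd (D.U_eq_one.2 ⟨rfl, rfl⟩) ha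
    rcases D.add_self.1 hc2.1 with rfl | rfl
    · exact absurd (D.U_eq_one.2 ⟨rfl, rfl⟩) hc
    rfl
  · have hk : KindTI G := Or.inr (Or.inr ⟨2, F, inferInstance, inferInstance, le_rfl,
      by rw [hF]; norm_num, hU G F hF S P he⟩)
    exact hk.five

end Cfsg.Agent.DClassConf
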