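import Cfsg.Agent.Lib.DClassConf.CaseA
import Cfsg.Agent.Lib.DClassConf.CaseAFour
import Cfsg.Agent.Lib.DClassConf.RankTwo

/-!
# The classification, from the inputs

Either every central involution lies in one Sylow subgroup, which gives a configuration on the Sylow
subgroups without multi-point involutions, or the intersections are cyclic.
-/

set_option autoImplicit false
set_option linter.style.haveILetI false
set_option linter.unusedSectionVars false

namespace Cfsg.Agent.DClassConf

open Subgroup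
open scoped Pointwise
open Cfsg.Agent.CyclicSylowInter
open Cfsg.Agent.SETwoClosed (TwoEl twoEl_of_sq)
open Cfsg.Agent.ZStar.CyclicIntersections (conj_mem_smul mem_smul)

universe u

variable {G : Type u} [Group G] [Finite G]

/-- The configuration on all Sylow subgroups. -/
theorem SHyp.conf_sylow (H : SHyp G)
    (hsingle : ∀ (S T : Sylow 2 G) (z : G), z ∈ centInv S → z ≠ 1 → z ∈ (T : Subgroup G) → T = S) :
    Conf (fun S : Sylow 2 G => centInv S) where
  conj g a w hw := mem_centInv_conj g hw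
  fix a w hw := smul_eq_of_mem hw.1
  sq a w hw := hw.2.1
  four := H.four_le
  uniq a w hw hw1 b hb := hsingle a b w hw hw1 (mem_of_smul_eq hb (twoEl_of_sq hw.2.1))
  closed a x y hx hy hx2 hy2 := twoEl_mem (mul_mem (mem_of_smul_eq hx hx2) (mem_of_smul_eq hy hy2))
  central a w hw s hs hs2 := hw.2.2 s (mem_of_smul_eq hs hs2)
  exists_ne := H.exists_other_sylow

/-- An involution outside a centre of order four. -/
theorem SHyp.exists_noncentral (H : SHyp G) (h2 : ¬ Cfsg.PRankLE 2 2 G) (S : Sylow 2 G)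
    (h4 : Nat.card ↥(centInv S) = 4) : ∃ y ∈ (S : Subgroup G), y * y = 1 ∧ y ∉ centInv S := by
  haveI := Fact.mk Nat.prime_two
  by_contra! hall
  refine h2 fun A _ hA => ?_
  have hP : IsPGroup 2 A := fun a => ⟨1, Subtype.ext (by simpa using hA a a.2)⟩
  obtain ⟨T, hT⟩ := hP.exists_le_sylow
  obtain ⟨g, hg⟩ := MulAction.exists_smul_eq G T S
  rw [show (2 : ℕ) ^ 2 = Nat.card ↥(centInv S) by rw [h4]; norm_num]
  refine Nat.card_le_card_of_injective (fun a => ⟨g * a.1 * g⁻¹, hall _ (hg ▸ conj_mem_smul g (hT a.2)) ?_⟩)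
    fun a b e => Subtype.ext (mul_left_cancel (mul_right_cancel (congrArg Subtype.val e :)))
  rw [conj_mul, show a.1 * a.1 = 1 by rw [← pow_two]; exact hA a a.2, mul_one, mul_inv_cancel]

/-- The theorem from the inputs. -/
theorem SHyp.five (H : SHyp G) (hT : TITheorem.{u}) (hF : KindFacts.{u}) (hU : UFourTheorem.{u})
    (hc : CentralBranch.{u}) (hnc : NoncentralBranch.{u}) (hM : ∀ N, NoMultiBelow.{u} N) : Five G := by
  haveI := H.simple
  by_cases h2 : Cfsg.PRankLE 2 2 G
  · exact H.five_of_rankTwo hU h2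
  by_cases hsingle : ∀ (S T : Sylow 2 G) (z : G), z ∈ centInv S → z ≠ 1 → z ∈ (T : Subgroup G) → T = S
  · have C := H.conf_sylow hsingle
    haveI := C.faithful
    have hno := hM (Nat.card G + 1) G (Sylow 2 G) _ C (Nat.lt_succ_self _)
    exact (hT G H.noncomm (C.cycInt hno) (C.tiSylow hno)).five
  push Not at hsingle
  obtain ⟨S, T, z, hz, hz1, hzT, hne⟩ := hsingle
  rcases lt_or_ge (Nat.card ↥(centInv S)) 8 with h8 | h8
  · have h4 : Nat.card ↥(centInv S) = 4 := by
      haveI := Fact.mk Nat.prime_two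
      obtain ⟨k, hk⟩ : ∃ k, Nat.card ↥(centInv S) = 2 ^ k := IsPGroup.iff_card.1 fun x =>
        ⟨1, Subtype.ext (by rw [pow_one, pow_two, coe_mul]; exact x.2.2.1)⟩
      have := H.four_le S
      rw [hk] at h8 this ⊢
      have h1 : k < 3 := (Nat.pow_lt_pow_iff_right (a := 2) (by norm_num)).1 (by simpa using h8)
      interval_cases k <;> simp_all
    obtain ⟨y, hy, hy2, hyW⟩ := H.exists_noncentral h2 S h4
    exact (H.false_of_four h4 hz hz1 hzT hne hy hy2 hyW).elim
  · exact CyclicSylowInter.simpleBelow hF hT hU hc hnc (Nat.card G + 1) G (Nat.lt_succ_self _) H.noncomm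
      (H.cycInt_of_shared hT hF hM hz hz1 hzT hne h8)

/-- The statement from the inputs. -/
theorem five_of_inputs (hT : TITheorem.{u}) (hF : KindFacts.{u}) (hU : UFourTheorem.{u})
    (hc : CentralBranch.{u}) (hnc : NoncentralBranch.{u}) (hM : ∀ N, NoMultiBelow.{u} N)
    [IsSimpleGroup G] (hne : ¬ IsMulCommutative G)
    (h : ∀ S T : Sylow 2 G, S ≠ T →
      ((S : Subgroup G) ⊓ (T : Subgroup G) = ⊥ ∨
        ∃ z ∈ (S : Subgroup G) ⊓ (T : Subgroup G), orderOf z = 2 ∧
          ∃ U : Sylow 2 G, z ∈ (Subgroup.center ↥(U : Subgroup G)).map (U : Subgroup G).subtype) →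
      Cfsg.PRankLE 2 1 ↥((S : Subgroup G) ⊓ (T : Subgroup G))) : Five G :=
  (sHyp hne h).five hT hF hU hc hnc hM

end Cfsg.Agent.DClassConf
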