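import Mathlib
import Cfsg.Agent.Lib.Involutions.Basic
import Cfsg.Agent.Lib.SETwoClosed.Basic

/-!
# A class of involutions with one fixed point each

`Conf W`: every point `a` has an elementary abelian group `W a` of fixers whose nonidentity elements fix
no other point, lying in the centre of the normal Sylow 2-subgroup of the stabilizer. First facts: two
such involutions at different points have a product of odd order, so they are conjugate and the group
is transitive; for an involution with several fixed points every other point is fixed by exactly one of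
its products with these involutions.
-/

set_option autoImplicit false
set_option linter.style.haveILetI false
set_option linter.unusedSectionVars false

namespace Cfsg.Agent.DClassConf

open MulAction Subgroup
open Cfsg.Agent.Involutions
open Cfsg.Agent.SETwoClosed (TwoEl twoEl_of_sq)

universe u v

variable {G : Type u} [Group G] {Ω : Type v} [MulAction G Ω]

/-- The configuration. -/
structure Conf (W : Ω → Subgroup G) : Prop where
  conj : ∀ (g : G) (a : Ω), ∀ w ∈ W a, g * w * g⁻¹ ∈ W (g • a)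
  fix : ∀ a : Ω, ∀ w ∈ W a, w • a = a
  sq : ∀ a : Ω, ∀ w ∈ W a, w * w = 1
  four : ∀ a : Ω, 4 ≤ Nat.card ↥(W a)
  uniq : ∀ a : Ω, ∀ w ∈ W a, w ≠ 1 → ∀ b : Ω, w • b = b → b = a
  closed : ∀ (a : Ω) (x y : G), x • a = a → y • a = a → TwoEl x → TwoEl y → TwoEl (x * y)
  central : ∀ a : Ω, ∀ w ∈ W a, ∀ s : G, s • a = a → TwoEl s → Commute w s
  exists_ne : ∀ a : Ω, ∃ b : Ω, b ≠ a

variable {W : Ω → Subgroup G}

namespace Conf

variable (C : Conf W)
include C

theorem orderOf_W {a : Ω} {w : G} (hw : w ∈ W a) (h1 : w ≠ 1) : orderOf w = 2 :=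
  Basic.orderOf_two_iff.2 ⟨C.sq a w hw, h1⟩

theorem twoEl_W {a : Ω} {w : G} (hw : w ∈ W a) : TwoEl w := twoEl_of_sq (C.sq a w hw)

theorem exists_W (a : Ω) : ∃ w ∈ W a, w ≠ 1 := by
  by_contra! h
  have : W a = ⊥ := (eq_bot_iff_forall _).2 h
  have h4 := C.four a
  rw [this, Subgroup.card_bot] at h4
  omega

theorem W_comm {a : Ω} {v w : G} (hv : v ∈ W a) (hw : w ∈ W a) : Commute v w :=
  C.central a v hv w (C.fix a w hw) (C.twoEl_W hw)

/-- An element commuting with an involution of `W a` fixes `a`. -/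
theorem smul_of_commute {a : Ω} {w g : G} (hw : w ∈ W a) (h1 : w ≠ 1) (hg : Commute g w) : g • a = a :=
  C.uniq a w hw h1 (g • a) (by rw [smul_smul, ← hg.eq, ← smul_smul, C.fix a w hw])

/-- An element of some `W b` fixing `a` lies in `W a`. -/
theorem mem_of_fix {a b : Ω} {w : G} (hw : w ∈ W b) (ha : w • a = a) : w ∈ W a := by
  by_cases h1 : w = 1
  · exact h1 ▸ one_mem _
  · rw [C.uniq b w hw h1 a ha]; exact hw

/-- The point of an element is unique. -/
theorem point_eq {a b : Ω} {w : G} (ha : w ∈ W a) (hb : w ∈ W b) (h1 : w ≠ 1) : a = b :=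
  C.uniq b w hb h1 a (C.fix a w ha)

theorem mem_W_conj_iff {g : G} {a : Ω} {w : G} : g * w * g⁻¹ ∈ W (g • a) ↔ w ∈ W a := by
  refine ⟨fun h => ?_, C.conj g a w⟩
  have h' := C.conj g⁻¹ (g • a) _ h
  rw [inv_smul_smul] at h'
  simpa [mul_assoc] using h'

/-- Conjugation of `W`. -/
theorem W_smul (g : G) (a : Ω) : W (g • a) = (W a).map (MulAut.conj g).toMonoidHom := by
  ext w
  constructor
  · intro hw
    have h := C.conj g⁻¹ (g • a) w hw
    rw [inv_smul_smul] at h
    refine ⟨_, h, ?_⟩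
    simp [mul_assoc]
  · rintro ⟨v, hv, rfl⟩
    simpa using C.conj g a v hv

end Conf

/-- A group acting faithfully: an element fixing everything is trivial. -/
theorem Conf.eq_one_of_fix_all [FaithfulSMul G Ω] (_ : Conf W) {g : G} (h : ∀ a : Ω, g • a = a) :
    g = 1 :=
  eq_of_smul_eq_smul fun a => by rw [h a, one_smul]

/-- In the dihedral group of two involutions with product of even order, the product of the first with
the middle involution is conjugate to the first or to the second. -/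
theorem mul_middle_conj [Finite G] {x y : G} (hx : orderOf x = 2) (hy : orderOf y = 2)
    (heven : Even (orderOf (x * y))) :
    ((∃ d : G, d * x * d⁻¹ = x * (x * y) ^ (orderOf (x * y) / 2)) ∧
      (∃ d : G, d * y * d⁻¹ = y * (x * y) ^ (orderOf (x * y) / 2))) ∨
    ((∃ d : G, d * y * d⁻¹ = x * (x * y) ^ (orderOf (x * y) / 2)) ∧
      (∃ d : G, d * x * d⁻¹ = y * (x * y) ^ (orderOf (x * y) / 2))) := by
  set r := x * y with hr
  set k := orderOf r / 2
  have hrk : r ^ (k : ℤ) = r ^ (-(k : ℤ)) := by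
    rw [zpow_neg, eq_inv_iff_mul_eq_one, ← zpow_add]
    obtain ⟨m, hm⟩ := heven
    have : (k : ℤ) + k = ((orderOf r : ℕ) : ℤ) := by
      have : k + k = orderOf r := by omega
      exact_mod_cast this
    rw [this, zpow_natCast, pow_orderOf_eq_one]
  have hyx : y = x * r ^ (1 : ℤ) := (Basic.mul_zpow_one hx).symm
  have hcx : ∀ j : ℤ, r ^ j * x * (r ^ j)⁻¹ = x * r ^ (-2 * j) := fun j => by
    rw [Basic.zpow_conj_left hx hy]
  have hcy : ∀ j : ℤ, r ^ j * y * (r ^ j)⁻¹ = x * r ^ (1 - 2 * j) := fun j => by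
    conv_lhs => rw [hyx]
    rw [show r ^ j * (x * r ^ (1 : ℤ)) * (r ^ j)⁻¹ = (r ^ j * x * (r ^ j)⁻¹) * (r ^ j * r ^ (1 : ℤ) * (r ^ j)⁻¹) by
      group, hcx, ← zpow_neg, ← zpow_add, ← zpow_add, mul_assoc, ← zpow_add]
    ring_nf
  have hyk : y * r ^ k = x * r ^ (1 + (k : ℤ)) := by
    rw [← zpow_natCast, hyx, mul_assoc, ← zpow_add]
  have hxk : x * r ^ k = x * r ^ (k : ℤ) := by rw [zpow_natCast]
  rcases Nat.even_or_odd k with ⟨j, hj⟩ | ⟨j, hj⟩
  · refine Or.inl ⟨⟨r ^ (-(j : ℤ)), ?_⟩, ⟨r ^ (-(j : ℤ)), ?_⟩⟩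
    · rw [hcx, hxk]; congr 2; omega
    · rw [hcy, hyk]; congr 2; omega
  · refine Or.inr ⟨⟨r ^ (-(j : ℤ)), ?_⟩, ⟨r ^ (-(j : ℤ) - 1), ?_⟩⟩
    · rw [hcy, hxk]; congr 2; omega
    · rw [hcx, hyk]; congr 2; omega

namespace Conf

variable (C : Conf W) [Finite G]
include C

/-- Involutions of `W` at different points have a product of odd order. -/
theorem odd_mul {a b : Ω} {z y : G} (hz : z ∈ W a) (hz1 : z ≠ 1) (hy : y ∈ W b) (hy1 : y ≠ 1)
    (hab : a ≠ b) : Odd (orderOf (z * y)) := by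
  by_contra hodd
  rw [Nat.not_odd_iff_even] at hodd
  have hz2 := C.orderOf_W hz hz1
  have hy2 := C.orderOf_W hy hy1
  obtain ⟨hw, hwz, hwy⟩ := Basic.middle_involution hz2 hy2 hodd
  set w := (z * y) ^ (orderOf (z * y) / 2)
  have hwa : w • a = a := C.smul_of_commute hz hz1 hwz
  have hwb : w • b = b := C.smul_of_commute hy hy1 hwy
  have key : ∀ (p q : Ω) (s t : G), p ≠ q → s ∈ W p → s ≠ 1 → t ∈ W q → t ≠ 1 → Commute w s →
      w • p = p → w • q = q → (∃ d : G, d * t * d⁻¹ = t * w) → Commute w t → False := by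
    intro p q s t hpq hs hs1 ht ht1 hws hwp hwq ⟨d, hd⟩ hwt
    have hmem : t * w ∈ W (d • q) := hd ▸ C.conj d q t ht
    have h1 : t * w ≠ 1 := hd ▸ fun e => ht1 (conj_eq_one_iff.1 e)
    have hdq : d • q = q := by
      refine C.uniq q t ht ht1 _ ?_
      refine C.smul_of_commute hmem h1 ?_
      exact (Commute.refl t).mul_right hwt.symm
    rw [hdq] at hmem
    have hwW : w ∈ W q := by
      have := mul_mem (inv_mem ht) hmem
      rwa [inv_mul_cancel_left] at this
    exact hpq (C.uniq q w hwW (Basic.ne_one hw) p hwp)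
  rcases mul_middle_conj hz2 hy2 hodd with ⟨-, hd⟩ | ⟨⟨d, hd⟩, -⟩
  · exact key a b z y hab hz hz1 hy hy1 hwz hwa hwb hd hwy
  · have hmem : z * w ∈ W (d • b) := hd ▸ C.conj d b y hy
    have h1 : z * w ≠ 1 := hd ▸ fun e => hy1 (conj_eq_one_iff.1 e)
    have hdb : d • b = a := by
      refine C.uniq a z hz hz1 _ ?_
      exact C.smul_of_commute hmem h1 ((Commute.refl z).mul_right hwz.symm)
    rw [hdb] at hmem
    have hwW : w ∈ W a := by
      have := mul_mem (inv_mem hz) hmem
      rwa [inv_mul_cancel_left] at this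
    exact hab (C.uniq a w hwW (Basic.ne_one hw) b hwb).symm

/-- Two points are exchanged by an element of the group generated by two of their involutions, which
carries one involution to the other. -/
theorem exists_conj {a b : Ω} {z y : G} (hz : z ∈ W a) (hz1 : z ≠ 1) (hy : y ∈ W b) (hy1 : y ≠ 1)
    (hab : a ≠ b) : ∃ g ∈ zpowers (z * y), g * z * g⁻¹ = y ∧ g • a = b := by
  obtain ⟨g, hg, hgz⟩ := Basic.exists_conj_of_odd (C.orderOf_W hz hz1) (C.orderOf_W hy hy1)
    (C.odd_mul hz hz1 hy hy1 hab)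
  exact ⟨g, hg, hgz, C.point_eq (hgz ▸ C.conj g a z hz) hy hy1⟩

theorem isPretransitive : IsPretransitive G Ω := by
  refine ⟨fun a b => ?_⟩
  by_cases hab : a = b
  · exact ⟨1, by rw [one_smul, hab]⟩
  · obtain ⟨z, hz, hz1⟩ := C.exists_W a
    obtain ⟨y, hy, hy1⟩ := C.exists_W b
    obtain ⟨g, -, -, h⟩ := C.exists_conj hz hz1 hy hy1 hab
    exact ⟨g, h⟩

/-- All these involutions are conjugate. -/
theorem isConj_W {a b : Ω} {z y : G} (hz : z ∈ W a) (hz1 : z ≠ 1) (hy : y ∈ W b) (hy1 : y ≠ 1) :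
    IsConj z y := by
  by_cases hab : a = b
  · subst hab
    obtain ⟨c, hc⟩ := C.exists_ne a
    obtain ⟨t, ht, ht1⟩ := C.exists_W c
    obtain ⟨g, -, hg, -⟩ := C.exists_conj hz hz1 ht ht1 hc.symm
    obtain ⟨g', -, hg', -⟩ := C.exists_conj hy hy1 ht ht1 hc.symm
    exact (isConj_iff.2 ⟨g, hg⟩).trans (isConj_iff.2 ⟨g', hg'⟩).symm
  · obtain ⟨g, -, hg, -⟩ := C.exists_conj hz hz1 hy hy1 hab
    exact isConj_iff.2 ⟨g, hg⟩

/-- The middle of an involution and an involution of `W b` outside its fixed points. -/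
theorem exists_middle {x : G} (hx : orderOf x = 2) (hnW : ∀ a, x ∉ W a) {b : Ω} (hxb : x • b ≠ b) :
    ∃ (f : Ω) (v : G), x • f = f ∧ v ∈ W f ∧ v ≠ 1 ∧ (x * v) • b = b := by
  obtain ⟨y, hy, hy1⟩ := C.exists_W b
  have hy2 := C.orderOf_W hy hy1
  have heven : Even (orderOf (x * y)) := Basic.even_orderOf_mul_of_not_isConj hx hy2 fun h => by
    obtain ⟨d, hd⟩ := isConj_iff.1 h.symm
    exact hnW (d • b) (hd ▸ C.conj d b y hy)
  obtain ⟨hw, hwx, hwy⟩ := Basic.middle_involution hx hy2 heven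
  set w := (x * y) ^ (orderOf (x * y) / 2)
  have hwb : w • b = b := C.smul_of_commute hy hy1 hwy
  rcases mul_middle_conj hx hy2 heven with ⟨-, d, hd⟩ | ⟨⟨d, hd⟩, -⟩
  · exfalso
    have hmem : y * w ∈ W (d • b) := hd ▸ C.conj d b y hy
    have h1 : y * w ≠ 1 := hd ▸ fun e => hy1 (conj_eq_one_iff.1 e)
    have hdb : d • b = b :=
      C.uniq b y hy hy1 _ (C.smul_of_commute hmem h1 ((Commute.refl y).mul_right hwy.symm))
    rw [hdb] at hmem
    have hwW : w ∈ W b := by
      have := mul_mem (inv_mem hy) hmem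
      rwa [inv_mul_cancel_left] at this
    exact hxb (C.smul_of_commute hwW (Basic.ne_one hw) hwx.symm)
  · have hmem : x * w ∈ W (d • b) := hd ▸ C.conj d b y hy
    have h1 : x * w ≠ 1 := hd ▸ fun e => hy1 (conj_eq_one_iff.1 e)
    refine ⟨d • b, x * w, C.smul_of_commute hmem h1 ((Commute.refl x).mul_right hwx.symm), hmem, h1, ?_⟩
    rwa [← mul_assoc, Basic.inv_sq_one hx, one_mul]

/-- That middle is unique. -/
theorem middle_unique {x : G} (hx : orderOf x = 2) {b f f' : Ω} {v v' : G} (hxb : x • b ≠ b)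
    (hf : x • f = f) (hv : v ∈ W f) (hf' : x • f' = f') (hv' : v' ∈ W f')
    (h : (x * v) • b = b) (h' : (x * v') • b = b) : v = v' := by
  have hxx := Basic.inv_sq_one hx
  have hxT := twoEl_of_sq hxx
  have hxv : Commute x v := (C.central f v hv x hf hxT).symm
  have hxv' : Commute x v' := (C.central f' v' hv' x hf' hxT).symm
  have hsq : ∀ u, Commute x u → u * u = 1 → x * u * (x * u) = 1 := fun u hu hu2 => by
    rw [hu.symm.mul_mul_mul_comm, hxx, one_mul, hu2]
  have hprod : TwoEl (v * v') := by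
    have := C.closed b (x * v) (x * v') h h' (twoEl_of_sq (hsq v hxv (C.sq f v hv)))
      (twoEl_of_sq (hsq v' hxv' (C.sq f' v' hv')))
    rwa [show x * v * (x * v') = v * v' by
      rw [hxv.eq, mul_assoc v, ← mul_assoc x, hxx, one_mul]] at this
  have hb' : (v * v') • b = b := by
    rw [show v * v' = (x * v) * (x * v') by rw [hxv.eq, mul_assoc v, ← mul_assoc x, hxx, one_mul],
      mul_smul, h', h]
  by_cases hv1 : v = 1
  · rw [hv1, mul_one] at h
    exact absurd h hxb
  by_cases hv1' : v' = 1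
  · rw [hv1', mul_one] at h'
    exact absurd h' hxb
  by_contra hne
  by_cases hff : f = f'
  · subst hff
    have h1 : v * v' ≠ 1 := fun e => hne (by
      rw [← inv_eq_of_mul_eq_one_left (C.sq f v' hv'), mul_eq_one_iff_eq_inv.1 e])
    exact hxb (by rw [C.uniq f _ (mul_mem hv hv') h1 b hb', hf])
  · have h1 := SETwoClosed.TwoEl.eq_one_of_odd hprod (C.odd_mul hv hv1 hv' hv1' hff)
    exact hff (C.point_eq hv (by
      rw [mul_eq_one_iff_eq_inv.1 h1]; exact inv_mem hv') hv1)

end Conf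

end Cfsg.Agent.DClassConf
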