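import Cfsg.Agent.Lib.DClassConf.Params

/-!
# The pointwise stabilizer of a block

Let `x` be a multi-point involution fixing `a` and `b`.  The 2-elements fixing `a` and `b` form an
elementary abelian group `Y`, fix the fixed points of `x` and are central in `C_S(x)`, which is the
stabilizer of that set in the Sylow subgroup `S` of `a`; the same group belongs to each of its
involutions.
-/

set_option autoImplicit false
set_option linter.style.haveILetI false
set_option linter.unusedSectionVars false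

namespace Cfsg.Agent.DClassConf

open MulAction Subgroup
open Cfsg.Agent.Involutions
open Cfsg.Agent.SETwoClosed (TwoEl twoEl_of_sq)

universe u

variable {G : Type u} [Group G] {Ω : Type u} [MulAction G Ω] {W : Ω → Subgroup G}

/-- A minimal counterexample with the common parameters. -/
structure Par (W : Ω → Subgroup G) (n i : ℕ) : Prop extends Env W where
  i_one_two : i = 1 ∨ i = 2
  loc : ∀ x : G, Multi Ω x → LocalData W (centralizer ({x} : Set G)) (fixSet Ω x) n i

theorem Env.exists_par [IsSimpleGroup G] [Finite G] [Finite Ω] (E : Env W) {x : G} (hx : Multi Ω x) :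
    ∃ n i, Par W n i := by
  obtain ⟨n, i, D⟩ := E.local_of_multi hx
  refine ⟨n, i, E, ?_, fun y hy => ?_⟩
  · rcases D.i_mem with h | h | h
    exacts [Or.inl h, Or.inr h, absurd h (E.i_ne_three hx D)]
  · obtain ⟨n', i', D'⟩ := E.local_of_multi hy
    obtain ⟨rfl, rfl⟩ := E.params hx hy D D'
    exact D'

/-- `C_S(x)` for the Sylow subgroup `S` of `a`. -/
def Conf.centS (C : Conf W) (a : Ω) (x : G) : Subgroup G := C.Sa a ⊓ centralizer ({x} : Set G)

/-- The 2-elements of the stabilizers of `a` and `b`. -/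
def Conf.kerS (C : Conf W) (a b : Ω) : Subgroup G := C.Sa a ⊓ stabilizer G b

theorem Conf.mem_centS (C : Conf W) {a : Ω} {x s : G} :
    s ∈ C.centS a x ↔ s ∈ C.Sa a ∧ Commute s x :=
  and_congr_right' (mem_centralizer_singleton_iff.trans Iff.rfl)

theorem Conf.mem_kerS (C : Conf W) {a b : Ω} {s : G} :
    s ∈ C.kerS a b ↔ (s • a = a ∧ TwoEl s) ∧ s • b = b := Iff.rfl

/-- A block: a multi-point involution with two of its fixed points. -/
structure Block (a b : Ω) (x : G) : Prop where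
  multi : Multi Ω x
  ha : x • a = a
  hb : x • b = b
  hne : b ≠ a

namespace Par

variable [IsSimpleGroup G] [Finite G] [Finite Ω] {n i : ℕ} (P : Par W n i)
include P

theorem nfix_eq {x : G} (hx : Multi Ω x) : nfix Ω x = (2 ^ n) ^ i + 1 := (P.loc x hx).card_pts

theorem two_le {x : G} (hx : Multi Ω x) : 2 ≤ n := (P.loc x hx).two_le

theorem card_W {x : G} (hx : Multi Ω x) (a : Ω) : Nat.card ↥(W a) = 2 ^ n := by
  obtain ⟨b, -, -, hb, -⟩ := hx.fix_two
  rw [P.conf.card_W a b, (P.loc x hx).card_W b hb]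

theorem multi_of_fix_two [Nonempty Ω] {y : G} (hy : orderOf y = 2) {a b : Ω} (hab : b ≠ a)
    (ha : y • a = a) (hb : y • b = b) : Multi Ω y := by
  haveI := P.conf.faithful
  refine ⟨hy, ⟨a, b, hab.symm, ha, hb⟩, ?_⟩
  by_contra! h
  exact Basic.ne_one hy (P.conf.eq_one_of_fix_all h)

variable {a b : Ω} {x : G} (B : Block a b x)
include B

theorem mem_kerS_self : x ∈ P.conf.kerS a b :=
  ⟨⟨B.ha, twoEl_of_sq (Basic.inv_sq_one B.multi.two)⟩, B.hb⟩

/-- The 2-elements fixing two fixed points of `x` fix all of them. -/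
theorem ker_fix {s : G} (hs : s ∈ P.conf.kerS a b) {c : Ω} (hc : x • c = c) : s • c = c := by
  haveI : Nonempty Ω := ⟨a⟩
  haveI := Fact.mk Nat.prime_two
  set Q := P.conf.kerS a b
  have hQ : IsPGroup 2 Q := (P.conf.isPGroup_Sa a).to_le inf_le_left
  haveI : Nontrivial ↥Q :=
    ⟨⟨⟨x, P.mem_kerS_self B⟩, 1, fun e => Basic.ne_one B.multi.two (congrArg Subtype.val e)⟩⟩
  haveI := hQ.center_nontrivial
  obtain ⟨k, hk, hcard⟩ : ∃ k, 1 ≤ k ∧ Nat.card ↥(center ↥Q) = 2 ^ k := by
    obtain ⟨k, hk⟩ := (IsPGroup.iff_card.1 (hQ.to_subgroup (center ↥Q)))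
    refine ⟨k, Nat.one_le_iff_ne_zero.2 fun h0 => ?_, hk⟩
    have := Finite.one_lt_card (α := ↥(center ↥Q))
    rw [hk, h0, pow_zero] at this
    exact lt_irrefl 1 this
  obtain ⟨y, hy⟩ := exists_prime_orderOf_dvd_card' 2 (hcard ▸ dvd_pow_self 2 (by omega : k ≠ 0))
  have hy2 : orderOf ((y : ↥Q) : G) = 2 := by rw [orderOf_coe, orderOf_coe, hy]
  have hym := P.multi_of_fix_two hy2 B.hne (y : ↥Q).2.1.1 (y : ↥Q).2.2
  have hfix : ∀ q ∈ Q, ∀ d ∈ fixSet Ω ((y : ↥Q) : G), q • d = d := fun q hq d hd =>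
    (P.loc _ hym).fix_all q (mem_centralizer_singleton_iff.2
      (congrArg Subtype.val (mem_center_iff.1 y.2 ⟨q, hq⟩) :))
      a (y : ↥Q).2.1.1 b (y : ↥Q).2.2 B.hne.symm hq.1.1 hq.2 hq.1.2 d hd
  have hsub : fixSet Ω ((y : ↥Q) : G) ⊆ fixSet Ω x := fun d hd => hfix x (P.mem_kerS_self B) d hd
  have heq : fixSet Ω ((y : ↥Q) : G) = fixSet Ω x := by
    refine Set.eq_of_subset_of_ncard_le hsub (le_of_eq ?_) (Set.toFinite _)
    rw [← Nat.card_coe_set_eq, ← Nat.card_coe_set_eq, card_fixSet, card_fixSet, P.nfix_eq hym,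
      P.nfix_eq B.multi]
  exact hfix s hs c (heq.ge hc)

/-- Each involution of `Y` has the fixed points of `x`. -/
theorem ker_block {y : G} (hy : y ∈ P.conf.kerS a b) (hy2 : orderOf y = 2) :
    Block a b y ∧ fixSet Ω y = fixSet Ω x := by
  haveI : Nonempty Ω := ⟨a⟩
  have hym := P.multi_of_fix_two hy2 B.hne hy.1.1 hy.2
  have hh : (fixSet Ω y).ncard = (fixSet Ω x).ncard := by
    rw [← Nat.card_coe_set_eq, ← Nat.card_coe_set_eq, card_fixSet, card_fixSet, P.nfix_eq hym,
      P.nfix_eq B.multi]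
  have hsub : fixSet Ω x ⊆ fixSet Ω y := fun d hd => P.ker_fix B hy hd
  exact ⟨⟨hym, hy.1.1, hy.2, B.hne⟩,
    (Set.eq_of_subset_of_ncard_le hsub hh.le (Set.toFinite _)).symm⟩

theorem ker_eq {c : Ω} (hc : x • c = c) (hca : c ≠ a) : P.conf.kerS a c = P.conf.kerS a b := by
  ext s
  refine ⟨fun hs => ⟨hs.1, ?_⟩, fun hs => ⟨hs.1, P.ker_fix B hs hc⟩⟩
  exact P.ker_fix (a := a) (b := c) (x := x) ⟨B.multi, B.ha, hc, hca⟩ hs B.hb

/-- An involution fixing `a`, a second fixed point of `x` and a point outside them does not exist. -/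
theorem fix_inter {z : G} (hz : orderOf z = 2) (hza : z • a = a) {c : Ω} (hc : x • c = c) (hca : c ≠ a)
    (hzc : z • c = c) : fixSet Ω z = fixSet Ω x :=
  ((P.ker_block (a := a) (b := c) (x := x) ⟨B.multi, B.ha, hc, hca⟩
    ⟨⟨hza, twoEl_of_sq (Basic.inv_sq_one hz)⟩, hzc⟩ hz).2)

theorem multi_xw {w : G} (hw : w ∈ W a) : Multi Ω (x * w) :=
  P.toEnv.multi_mul B.multi B.ha hw

theorem fix_xw_inter {w : G} (hw : w ∈ W a) (hw1 : w ≠ 1) {c : Ω} (hc : x • c = c)
    (hc' : (x * w) • c = c) : c = a := by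
  refine P.conf.uniq a w hw hw1 c ?_
  have h1 : w • c = x • x • w • c := by rw [smul_smul x x, Basic.inv_sq_one B.multi.two, one_smul]
  rw [h1, ← mul_smul x w c, hc', hc]

theorem exists_xw_point {w : G} (hw : w ∈ W a) : ∃ c, Block a c (x * w) := by
  have hm := P.multi_xw B hw
  have hwa : (x * w) • a = a := by rw [mul_smul, P.conf.fix a w hw, B.ha]
  obtain ⟨p, q, hpq, hp, hq⟩ := hm.fix_two
  by_cases hpa : p = a
  · exact ⟨q, hm, hwa, hq, fun e => hpq (hpa.trans e.symm)⟩
  · exact ⟨p, hm, hwa, hp, hpa⟩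

/-- In the rank one case a 2-element preserving the block acts as an element of `W a`. -/
theorem exists_W_smul (hi : i = 1) {c : Ω} (hc : x • c = c) (hca : c ≠ a) :
    ∃ w ∈ W a, w • b = c := by
  classical
  have hS : Nat.card ↥(fixSet Ω x \ {a}) = 2 ^ n := by
    rw [Nat.card_coe_set_eq, Set.ncard_sdiff_singleton_of_mem (show a ∈ fixSet Ω x from B.ha),
      ← Nat.card_coe_set_eq, (P.loc x B.multi).card_pts, hi, pow_one, Nat.add_sub_cancel]
  let f : ↥(W a) → ↥(fixSet Ω x \ {a}) := fun w => ⟨(w : G) • b,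
    smul_mem_fixSet (P.conf.commute_W B.multi.two B.ha w.2).symm B.hb,
    fun e => B.hne (smul_left_cancel (w : G) ((Set.mem_singleton_iff.1 e).trans
      (P.conf.fix a _ w.2).symm))⟩
  have hf : Function.Bijective f := by
    refine (Nat.bijective_iff_injective_and_card f).2 ⟨fun v w e => ?_, by rw [P.card_W B.multi, hS]⟩
    have e' : (v : G) • b = (w : G) • b := congrArg Subtype.val e
    by_contra hne
    refine B.hne (P.conf.uniq a ((w : G)⁻¹ * v) (mul_mem (inv_mem w.2) v.2) (fun h => hne ?_) b ?_)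
    · exact Subtype.ext (inv_mul_eq_one.1 h).symm
    · rw [mul_smul, e', inv_smul_smul]
  obtain ⟨w, hw⟩ := hf.2 ⟨c, hc, hca⟩
  exact ⟨w, w.2, congrArg Subtype.val hw⟩

/-- A central involution of `Y` is centralised by every element of `S` keeping `b` in the block. -/
theorem commute_of_preserve {y : G} (hy : y ∈ P.conf.kerS a b) (hy2 : orderOf y = 2)
    (hyc : ∀ q ∈ P.conf.kerS a b, Commute q y) {s : G} (hs : s ∈ P.conf.Sa a)
    (hsb : x • s • b = s • b) : Commute s y := by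
  obtain ⟨B', hfix⟩ := P.ker_block B hy hy2
  have hsa : s • b ≠ a := fun e => B.hne (smul_left_cancel s (e.trans hs.1.symm))
  obtain ⟨p, hp, hpa, hp2, hpb⟩ := (P.loc y B'.multi).trans_pts a B'.ha b B'.hb (s • b) (hfix.ge hsb) B.hne hsa
  have hq : p⁻¹ * s ∈ P.conf.kerS a b :=
    ⟨⟨by rw [mul_smul, hs.1, inv_smul_eq_iff, hpa],
      P.conf.closed a p⁻¹ s (by rw [inv_smul_eq_iff, hpa]) hs.1 hp2.inv hs.2⟩,
      show (p⁻¹ * s) • b = b by rw [mul_smul, ← hpb, inv_smul_smul]⟩
  simpa using (show Commute p y from mem_centralizer_singleton_iff.1 hp).mul_left (hyc _ hq)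

theorem ker_conj {s q : G} (hs : s ∈ P.conf.centS a x) (hq : q ∈ P.conf.kerS a b) :
    s * q * s⁻¹ ∈ P.conf.kerS a b := by
  obtain ⟨hsS, hsx⟩ := P.conf.mem_centS.1 hs
  refine ⟨P.conf.Sa_normal hsS.1 hq.1, ?_⟩
  show (s * q * s⁻¹) • b = b
  rw [mul_smul, mul_smul, P.ker_fix B hq (smul_mem_fixSet hsx.inv_left B.hb), smul_inv_smul]

/-- `Y` is central in `C_S(x)`, elementary abelian, and `C_S(y) = C_S(x)` for its involutions. -/
theorem ker_central : (∀ y ∈ P.conf.kerS a b, y * y = 1) ∧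
    (∀ y ∈ P.conf.kerS a b, ∀ s ∈ P.conf.centS a x, Commute s y) := by
  classical
  have C := P.conf
  haveI := Fact.mk Nat.prime_two
  haveI : Nonempty Ω := ⟨a⟩
  haveI := P.conf.faithful
  set Y := P.conf.kerS a b
  have hY2 : IsPGroup 2 Y := (P.conf.isPGroup_Sa a).to_le inf_le_left
  haveI : Nontrivial ↥Y :=
    ⟨⟨⟨x, P.mem_kerS_self B⟩, 1, fun e => Basic.ne_one B.multi.two (congrArg Subtype.val e)⟩⟩
  haveI := hY2.center_nontrivial
  obtain ⟨k, hk0, hcard⟩ : ∃ k, k ≠ 0 ∧ Nat.card ↥(center ↥Y) = 2 ^ k := by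
    obtain ⟨k, hk⟩ := (IsPGroup.iff_card.1 (hY2.to_subgroup (center ↥Y)))
    refine ⟨k, fun h0 => ?_, hk⟩
    have := Finite.one_lt_card (α := ↥(center ↥Y))
    rw [hk, h0, pow_zero] at this
    exact lt_irrefl 1 this
  obtain ⟨y0', hy0'⟩ := exists_prime_orderOf_dvd_card' 2 (hcard ▸ dvd_pow_self 2 hk0)
  set y0 : G := ((y0' : ↥Y) : G)
  have hy0Y : y0 ∈ Y := (y0' : ↥Y).2
  have hy02 : orderOf y0 = 2 := by simp only [y0]; rw [orderOf_coe, orderOf_coe, hy0']
  have hy0c : ∀ q ∈ Y, Commute q y0 := fun q hq =>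
    (congrArg Subtype.val (mem_center_iff.1 y0'.2 ⟨q, hq⟩) :)
  obtain ⟨B0, hfix0⟩ := P.ker_block B hy0Y hy02
  -- `C_S(x) ≤ C_S(y0)`
  have hxy0 : ∀ s ∈ P.conf.centS a x, s ∈ P.conf.centS a y0 := fun s hs => by
    obtain ⟨hsS, hsx⟩ := P.conf.mem_centS.1 hs
    exact P.conf.mem_centS.2 ⟨hsS, P.commute_of_preserve B hy0Y hy02 hy0c hsS
      (smul_mem_fixSet hsx B.hb)⟩
  have hYC : ∀ s ∈ P.conf.centS a y0, ∀ q ∈ Y, s * q * s⁻¹ ∈ Y := fun s hs q hq => P.ker_conj B0 hs hq
  obtain ⟨w, hw, hw1⟩ := P.conf.exists_W a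
  have hmw : Multi Ω (y0 * w) := P.multi_xw B0 hw
  obtain ⟨c, Bw⟩ := P.exists_xw_point B0 hw
  -- `Y` acts faithfully on the second block
  have hfree : ∀ e ∈ Y, (∀ d : Ω, (y0 * w) • d = d → e • d = d) → e = 1 := by
    intro e he hall
    by_contra h1
    obtain ⟨l, hl⟩ := exists_involution_pow he.1.2 h1
    have he' : e ^ l ∈ Y := pow_mem he l
    have h2 := (P.ker_block B he' hl).2
    have h3 : (e ^ l) • c = c :=
      mem_stabilizer_iff.1 (pow_mem (mem_stabilizer_iff.2 (hall c Bw.hb)) l)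
    exact Bw.hne (P.fix_xw_inter B0 hw hw1 ((h2.trans hfix0.symm).le h3) Bw.hb)
  have hyw : ∀ s ∈ P.conf.centS a y0, Commute s (y0 * w) := fun s hs =>
    (P.conf.mem_centS.1 hs).2.mul_right (C.central a w hw s hs.1.1 hs.1.2).symm
  -- an element of `Y` acting on the second block as an element of `W a` is central in `C_S(y0)`
  have hcen : ∀ e ∈ Y, ∀ v ∈ W a, (∀ d : Ω, (y0 * w) • d = d → e • d = v • d) →
      ∀ s ∈ P.conf.centS a y0, Commute s e := by
    intro e he v hv hev s hs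
    have h := hfree (s * e * s⁻¹ * e⁻¹) (mul_mem (hYC s hs e he) (inv_mem he)) fun d hd => by
      have hsv : Commute s v := (C.central a v hv s hs.1.1 hs.1.2).symm
      have hd1 : (y0 * w) • e⁻¹ • d = e⁻¹ • d :=
        smul_mem_fixSet ((hy0c e he).mul_right (C.central a w hw e he.1.1 he.1.2).symm).inv_left hd
      have hd2 : (y0 * w) • s⁻¹ • e⁻¹ • d = s⁻¹ • e⁻¹ • d := smul_mem_fixSet (hyw s hs).inv_left hd1
      calc (s * e * s⁻¹ * e⁻¹) • d = s • e • s⁻¹ • e⁻¹ • d := by simp only [mul_smul]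
        _ = v • e⁻¹ • d := by rw [hev _ hd2, smul_smul s v, hsv.eq, mul_smul, smul_inv_smul]
        _ = d := by rw [← hev _ hd1, smul_inv_smul]
    exact mul_inv_eq_iff_eq_mul.1 (mul_inv_eq_one.1 h)
  have hmemC : ∀ e ∈ Y, e ∈ centralizer ({y0 * w} : Set G) := fun e he =>
    mem_centralizer_singleton_iff.2 ((hy0c e he).mul_right (C.central a w hw e he.1.1 he.1.2).symm).eq
  have hinvc : ∀ e ∈ Y, e * e = 1 → ∀ s ∈ P.conf.centS a y0, Commute s e := fun e he hee => by
    obtain ⟨v, hv, hev⟩ := (P.loc _ hmw).inv_W a Bw.ha e (hmemC e he) he.1.1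
      fun d _ => by rw [smul_smul, hee, one_smul]
    exact hcen e he v hv fun d hd => hev d hd
  have hsqc : ∀ e ∈ Y, ∀ s ∈ P.conf.centS a y0, Commute s (e * e) := fun e he => by
    obtain ⟨v, hv, hev⟩ := (P.loc _ hmw).sq_W a Bw.ha e (hmemC e he) he.1.1 he.1.2
    exact hcen _ (mul_mem he he) v hv fun d hd => by rw [mul_smul, hev d hd]
  have hYle : ∀ e ∈ Y, e ∈ P.conf.centS a y0 := fun e he => P.conf.mem_centS.2 ⟨he.1, hy0c e he⟩
  have hfour : ∀ e ∈ Y, e * e * (e * e) = 1 := fun e he => by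
    obtain ⟨v, hv, hev⟩ := (P.loc _ hmw).sq_W a Bw.ha e (hmemC e he) he.1.1 he.1.2
    refine hfree _ (mul_mem (mul_mem he he) (mul_mem he he)) fun d hd => ?_
    have hd2 : (y0 * w) • (e * e) • d = (e * e) • d :=
      smul_mem_fixSet (mem_centralizer_singleton_iff.1 (mul_mem (hmemC e he) (hmemC e he))) hd
    have h2 : ∀ d' : Ω, (y0 * w) • d' = d' → (e * e) • d' = v • d' := fun d' hd' => by
      rw [mul_smul]; exact hev d' hd'
    rw [mul_smul, h2 _ hd2, h2 d hd, smul_smul, C.sq a v hv, one_smul]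
  -- exponent two
  have hexp : ∀ e ∈ Y, e * e = 1 := by
    intro e he
    by_contra hee
    set y1 := e * e
    have hy1Y : y1 ∈ Y := mul_mem he he
    have hy12 : orderOf y1 = 2 := Basic.orderOf_two_iff.2 ⟨hfour e he, hee⟩
    obtain ⟨B1, hfix1⟩ := P.ker_block B hy1Y hy12
    have hy1c : ∀ q ∈ Y, Commute q y1 := fun q hq => hsqc e he q (hYle q hq)
    have hcent : ∀ s, s ∈ P.conf.centS a y1 → s ∈ P.conf.centS a y0 := fun s hs => by
      obtain ⟨hsS, hsy⟩ := P.conf.mem_centS.1 hs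
      exact P.conf.mem_centS.2 ⟨hsS, P.commute_of_preserve B hy0Y hy02 hy0c hsS
        (hfix1.le (smul_mem_fixSet hsy B1.hb))⟩
    have hK := P.loc y1 B1.multi
    -- for each involution `u` of `W a` an element acting on the block with square `u`
    have hex : ∀ u ∈ W a, u ≠ 1 → ∃ f ∈ P.conf.centS a y1, (∀ d : Ω, y1 • d = d → f • f • d = u • d) ∧
        ∀ q ∈ Y, ∀ d : Ω, (y1 * u) • d = d → f • d = d := by
      intro u hu hu1
      obtain ⟨g, hg⟩ := isConj_iff.1 (P.toEnv.isConj_mul B1.multi B1.ha hu)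
      have hy1u : y1 * u ∈ P.conf.Sa a := mul_mem hy1Y.1 (P.conf.W_le_Sa a hu)
      obtain ⟨m, hma, hm⟩ := P.conf.fusion hy1Y.1 hy1u hg
      refine ⟨m * e * m⁻¹, P.conf.mem_centS.2 ⟨P.conf.Sa_normal hma he.1, ?_⟩, fun d hd => ?_,
        fun _ _ d hd => ?_⟩
      · -- `m` maps `C_S(y0)` into itself
        have h1 : Commute (m * e * m⁻¹) (y1 * u) := by
          rw [← hm]
          exact (hy1c e he).map (MulAut.conj m).toMonoidHom
        have h2 : Commute (m * e * m⁻¹) u :=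
          (C.central a u hu _ (P.conf.Sa_normal hma he.1).1 (P.conf.Sa_normal hma he.1).2).symm
        have h3 := h1.mul_right h2
        rwa [mul_assoc y1 u u, C.sq a u hu, mul_one] at h3
      · rw [smul_smul, show m * e * m⁻¹ * (m * e * m⁻¹) = m * y1 * m⁻¹ by simp only [y1]; group, hm,
          (P.conf.commute_W hy12 B1.ha hu).eq, mul_smul, hd]
      · have hd' : y1 • m⁻¹ • d = m⁻¹ • d := by
          rw [smul_smul, eq_inv_smul_iff, smul_smul, show m * (y1 * m⁻¹) = m * y1 * m⁻¹ by group, hm]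
          exact hd
        rw [mul_smul, mul_smul, P.ker_fix B he (hfix1.le hd'), smul_inv_smul]
    by_cases hi : i = 1
    · obtain ⟨f, hf, hff, -⟩ := hex w hw hw1
      obtain ⟨hfS, hfy⟩ := P.conf.mem_centS.1 hf
      obtain ⟨u, hu, hub⟩ := P.exists_W_smul B1 hi (smul_mem_fixSet hfy B1.hb)
        (fun e' => B.hne (smul_left_cancel f (e'.trans hfS.1.symm)))
      have h1 := hff b B1.hb
      rw [← hub, smul_smul, ← (C.central a u hu f hfS.1 hfS.2).eq, mul_smul, ← hub, smul_smul,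
        C.sq a u hu, one_smul] at h1
      exact B.hne (C.uniq a w hw hw1 b h1.symm)
    have hi2 : i = 2 := P.i_one_two.resolve_left hi
    choose f hfC hff hffix using hex
    -- two of them commute on the block
    have hcomm : ∀ u (hu : u ∈ W a) (hu1 : u ≠ 1) u' (hu' : u' ∈ W a) (hu1' : u' ≠ 1),
        Commute (f u hu hu1) (f u' hu' hu1') := by
      intro u hu hu1 u' hu' hu1'
      by_cases huu : u = u'
      · subst huu; exact Commute.refl _
      set g := f u hu hu1
      set g' := f u' hu' hu1'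
      have hg := hcent g (hfC u hu hu1)
      have hgC := P.conf.mem_centS.1 (hfC u hu hu1)
      have hgC' := P.conf.mem_centS.1 (hfC u' hu' hu1')
      set k := g * g' * g⁻¹ * g'⁻¹
      have hk : ∀ d : Ω, (y1 * u) • d = d → k • d = d := fun d hd => by
        have hc' : Commute g' (y1 * u) :=
          hgC'.2.mul_right (C.central a u hu g' hgC'.1.1 hgC'.1.2).symm
        have hd1 : (y1 * u) • g'⁻¹ • d = g'⁻¹ • d := smul_mem_fixSet hc'.inv_left hd
        simp only [k, mul_smul]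
        rw [inv_smul_eq_iff.2 (hffix u hu hu1 y1 hy1Y _ hd1).symm, smul_inv_smul,
          hffix u hu hu1 y1 hy1Y d hd]
      have hk' : ∀ d : Ω, (y1 * u') • d = d → k • d = d := fun d hd => by
        have hc : Commute g (y1 * u') := hgC.2.mul_right (C.central a u' hu' g hgC.1.1 hgC.1.2).symm
        have h1 : g'⁻¹ • d = d := inv_smul_eq_iff.2 (hffix u' hu' hu1' y1 hy1Y d hd).symm
        simp only [k, mul_smul]
        rw [h1, hffix u' hu' hu1' y1 hy1Y _ (smul_mem_fixSet hc.inv_left hd), smul_inv_smul]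
      by_contra hne
      have hk1 : k ≠ 1 := fun h => hne (mul_inv_eq_iff_eq_mul.1 (mul_inv_eq_one.1 h))
      have hkS : k ∈ P.conf.Sa a :=
        mul_mem (mul_mem (mul_mem hgC.1 hgC'.1) (inv_mem hgC.1)) (inv_mem hgC'.1)
      obtain ⟨l, hl⟩ := exists_involution_pow hkS.2 hk1
      obtain ⟨c1, Bu⟩ := P.exists_xw_point B1 hu
      obtain ⟨c2, Bu'⟩ := P.exists_xw_point B1 hu'
      have hla : (k ^ l) • a = a := mem_stabilizer_iff.1 (pow_mem (mem_stabilizer_iff.2 hkS.1) l)
      have e1 := P.fix_inter Bu hl hla Bu.hb Bu.hne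
        (mem_stabilizer_iff.1 (pow_mem (mem_stabilizer_iff.2 (hk c1 Bu.hb)) l))
      have e2 := P.fix_inter Bu' hl hla Bu'.hb Bu'.hne
        (mem_stabilizer_iff.1 (pow_mem (mem_stabilizer_iff.2 (hk' c2 Bu'.hb)) l))
      have h1 : (y1 * u') • c1 = c1 := (e2.symm.trans e1).ge Bu.hb
      refine Bu.hne (C.uniq a (u * u') (mul_mem hu hu') (fun h => huu ?_) c1 ?_)
      · rw [mul_eq_one_iff_eq_inv] at h
        rw [h, inv_eq_of_mul_eq_one_left (C.sq a u' hu')]
      · have h2 : u • c1 = y1 • c1 := by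
          have h3 : y1 • u • c1 = c1 := by rw [← mul_smul]; exact Bu.hb
          calc u • c1 = y1 • y1 • u • c1 := by rw [smul_smul y1 y1, Basic.inv_sq_one hy12, one_smul]
            _ = y1 • c1 := by rw [h3]
        have h4 : u' • c1 = y1 • c1 := by
          have h3 : y1 • u' • c1 = c1 := by rw [← mul_smul]; exact h1
          calc u' • c1 = y1 • y1 • u' • c1 := by rw [smul_smul y1 y1, Basic.inv_sq_one hy12, one_smul]
            _ = y1 • c1 := by rw [h3]
        rw [mul_smul, h4, ← h2, smul_smul, C.sq a u hu, one_smul]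
    -- these elements with `W a` cover the other points of the block
    have hSc : Nat.card ↥(fixSet Ω y1 \ {a}) = 2 ^ n * 2 ^ n := by
      rw [Nat.card_coe_set_eq, Set.ncard_sdiff_singleton_of_mem (show a ∈ fixSet Ω y1 from B1.ha),
        ← Nat.card_coe_set_eq, hK.card_pts, hi2, pow_two, Nat.add_sub_cancel]
    let h : ↥(W a) → G := fun v => if hv : (v : G) = 1 then 1 else f v v.2 hv
    have hhC : ∀ v, h v ∈ P.conf.centS a y1 := fun v => by
      simp only [h]; split_ifs with hv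
      · exact one_mem _
      · exact hfC _ _ hv
    have hhsq : ∀ (v : ↥(W a)) d, y1 • d = d → h v • h v • d = (v : G) • d := fun v d hd => by
      simp only [h]; split_ifs with hv
      · rw [hv, one_smul]
      · exact hff _ _ hv d hd
    let F : ↥(W a) × ↥(W a) → ↥(fixSet Ω y1 \ {a}) := fun p => ⟨(h p.1 * p.2) • b,
      smul_mem_fixSet ((P.conf.mem_centS.1 (hhC p.1)).2.mul_left
        (P.conf.commute_W hy12 B1.ha p.2.2).symm) B1.hb,
      fun e' => B.hne (smul_left_cancel (h p.1 * p.2) ((Set.mem_singleton_iff.1 e').trans (by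
        rw [mul_smul, C.fix a _ p.2.2, (P.conf.mem_centS.1 (hhC p.1)).1.1])))⟩
    have hhW : ∀ v (t : G), t ∈ W a → Commute (h v) t := fun v t ht =>
      (C.central a t ht (h v) (P.conf.mem_centS.1 (hhC v)).1.1 (P.conf.mem_centS.1 (hhC v)).1.2).symm
    have hhh : ∀ v v', Commute (h v) (h v') := fun v v' => by
      simp only [h]; split_ifs with hv hv' hv'
      · exact Commute.one_left _
      · exact Commute.one_left _
      · exact Commute.one_right _
      · exact hcomm _ _ hv _ _ hv'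
    have hF : Function.Bijective F := by
      refine (Nat.bijective_iff_injective_and_card F).2 ⟨?_, by
        rw [Nat.card_prod, P.card_W B.multi, hSc]⟩
      rintro ⟨v, t⟩ ⟨v', t'⟩ e'
      have e1 : (h v * t) • b = (h v' * t') • b := congrArg Subtype.val e'
      have hsq : ∀ (v : ↥(W a)) (t : ↥(W a)) (d : Ω), y1 • d = d →
          (h v * (t : G)) • (h v * (t : G)) • d = (v : G) • d := fun v t d hd => by
        rw [smul_smul, (hhW v t t.2).symm.mul_mul_mul_comm, C.sq a _ t.2, mul_one, mul_smul, hhsq v d hd]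
      have hc : Commute (h v * (t : G)) (h v' * (t' : G)) :=
        ((hhh v v').mul_right (hhW v t' t'.2)).mul_left
          ((hhW v' t t.2).symm.mul_right (P.conf.W_comm t.2 t'.2))
      have h2 : (v : G) • b = (v' : G) • b := by
        rw [← hsq v t b B1.hb, ← hsq v' t' b B1.hb, e1, smul_smul, hc.eq, mul_smul, e1]
      have hv : v = v' := by
        by_contra hne
        refine B.hne (C.uniq a ((v' : G)⁻¹ * v) (mul_mem (inv_mem v'.2) v.2)
          (fun h' => hne (Subtype.ext (inv_mul_eq_one.1 h').symm)) b ?_)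
        rw [mul_smul, h2, inv_smul_smul]
      subst hv
      rw [mul_smul, mul_smul, smul_left_cancel_iff] at e1
      refine Prod.ext rfl ?_
      by_contra hne
      refine B.hne (C.uniq a ((t' : G)⁻¹ * t) (mul_mem (inv_mem t'.2) t.2)
        (fun h' => hne (Subtype.ext (inv_mul_eq_one.1 h').symm)) b ?_)
      rw [mul_smul, e1, inv_smul_smul]
    -- every 2-element is one of these on the block
    have hcover : ∀ r ∈ centralizer ({y1} : Set G), r • a = a → TwoEl r →
        ∃ p : ↥(W a) × ↥(W a), ∀ d : Ω, y1 • d = d → r • d = (h p.1 * (p.2 : G)) • d := by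
      intro r hr hra hr2
      obtain ⟨p, hp⟩ := hF.2 ⟨r • b, smul_mem_fixSet (mem_centralizer_singleton_iff.1 hr) B1.hb,
        fun e' => B.hne (smul_left_cancel r ((Set.mem_singleton_iff.1 e').trans hra.symm))⟩
      have hpS : h p.1 * (p.2 : G) ∈ P.conf.Sa a :=
        mul_mem (P.conf.mem_centS.1 (hhC p.1)).1 (P.conf.W_le_Sa a p.2.2)
      refine ⟨p, fun d hd => ?_⟩
      have hq : (h p.1 * (p.2 : G))⁻¹ * r ∈ P.conf.kerS a b := by
        refine ⟨(P.conf.Sa a).mul_mem ((P.conf.Sa a).inv_mem hpS) ⟨hra, hr2⟩, ?_⟩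
        show ((h p.1 * (p.2 : G))⁻¹ * r) • b = b
        rw [mul_smul, inv_smul_eq_iff]
        exact (congrArg Subtype.val hp).symm
      have h2 := P.ker_fix B1 hq hd
      rwa [mul_smul, inv_smul_eq_iff] at h2
    obtain ⟨fw, hfw⟩ : ∃ fw, fw = f w hw hw1 := ⟨_, rfl⟩
    obtain ⟨hfS, hfy⟩ := P.conf.mem_centS.1 (hfC w hw hw1)
    have h1 := hK.center_sq a B1.ha fw (mem_centralizer_singleton_iff.2 (hfw ▸ hfy.eq))
      (hfw ▸ hfS.1) (hfw ▸ hfS.2) (fun r hr hra hr2 d hd => by
        obtain ⟨p, hp⟩ := hcover r hr hra hr2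
        have hcf : Commute fw (h p.1 * (p.2 : G)) := by
          have h' : Commute (h ⟨w, hw⟩) (h p.1 * (p.2 : G)) :=
            (hhh _ _).mul_right (hhW _ _ p.2.2)
          simp only [h, hw1, dite_false] at h'
          exact hfw ▸ h'
        have hfd : y1 • fw • d = fw • d := smul_mem_fixSet (hfw ▸ hfy) hd
        rw [hp d hd, hp _ hfd, smul_smul, hcf.eq, mul_smul]) b B1.hb
    rw [hfw, hff w hw hw1 b B1.hb] at h1
    exact B.hne (C.uniq a w hw hw1 b h1)
  refine ⟨hexp, fun y hy s hs => ?_⟩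
  exact hinvc y hy (hexp y hy) s (hxy0 s hs)

end Par

end Cfsg.Agent.DClassConf
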