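import Cfsg.Agent.Lib.DClassConf.CaseAQuot
import Cfsg.Agent.Lib.Partition.Linear
import Cfsg.Agent.Lib.ZStar.CyclicIntersections.Basic

/-!
# A central involution in two Sylow subgroups, centres with at least seven involutions

The normalizer of `S` is transitive on the involutions of `Z(S)`, so each lies in a second Sylow
subgroup and all involutions of `S` are among them. Their intersection subgroups are normal in `S` and
commute with each other; if one is nonabelian their product is too large for `S`. So intersections are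
cyclic.
-/

set_option autoImplicit false
set_option linter.style.haveILetI false
set_option linter.unusedSectionVars false

namespace Cfsg.Agent.DClassConf

open Subgroup
open scoped Pointwise
open Cfsg.Agent.Involutions
open Cfsg.Agent.SETwoClosed (TwoEl twoEl_of_sq)
open Cfsg.Agent.CyclicSylowInter (centInv cen TITheorem KindFacts)
open Cfsg.Agent.ZStar.CyclicIntersections (conj_mem_smul mem_smul mem_cent)

universe u

variable {G : Type u} [Group G] [Finite G]

theorem four_mul_le_sup (P Q : Subgroup G) (hc : ∀ p ∈ P, ∀ q ∈ Q, Commute p q)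
    (hQ : ¬ ∀ a ∈ Q, ∀ b ∈ Q, a * b = b * a) :
    Nat.card P * 4 ≤ Nat.card ↥(P ⊔ Q) := by
  have h4 : 4 ≤ (center Q).index := by
    by_contra h
    have hcyc : IsCyclic (Q ⧸ center Q) := by
      have hpos : 0 < (center Q).index := Nat.pos_of_ne_zero index_ne_zero_of_finite
      rw [index_eq_card] at hpos h
      rcases (by omega : Nat.card (Q ⧸ center Q) = 1 ∨ Nat.card (Q ⧸ center Q) = 2 ∨
          Nat.card (Q ⧸ center Q) = 3) with h1 | h1 | h1
      · haveI := (Nat.card_eq_one_iff_unique.1 h1).1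
        infer_instance
      · haveI := Fact.mk Nat.prime_two; exact isCyclic_of_prime_card h1
      · haveI := Fact.mk Nat.prime_three; exact isCyclic_of_prime_card h1
    haveI := isMulCommutative_of_isCyclic_quotient_center_self Q
    exact hQ fun a ha b hb => congrArg Subtype.val (IsMulCommutative.is_comm.comm (⟨a, ha⟩ : Q) ⟨b, hb⟩)
  let f : P × (Q ⧸ center Q) → ↥(P ⊔ Q) := fun x =>
    ⟨(x.1 : G) * ((x.2.out : Q) : G), mul_mem (mem_sup_left x.1.2) (mem_sup_right x.2.out.2)⟩
  have hf : Function.Injective f := by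
    rintro ⟨p, a⟩ ⟨p', a'⟩ e
    have e' : (p : G) * ((a.out : Q) : G) = p' * ((a'.out : Q) : G) := congrArg Subtype.val e
    have hmem : (a'.out : Q) * (a.out)⁻¹ ∈ center Q := by
      refine mem_center_iff.2 fun q => Subtype.ext ?_
      have hP : ((a'.out : Q) : G) * ((a.out : Q) : G)⁻¹ ∈ P := by
        rw [show ((a'.out : Q) : G) * ((a.out : Q) : G)⁻¹ = (p' : G)⁻¹ * p by
          rw [eq_inv_mul_iff_mul_eq, ← mul_assoc, ← e']; group]
        exact mul_mem (inv_mem p'.2) p.2
      exact (hc _ hP _ q.2).eq.symm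
    have haa : a = a' := by
      rw [← QuotientGroup.out_eq' a, ← QuotientGroup.out_eq' a', QuotientGroup.eq]
      have := (inferInstance : (center Q).Normal).conj_mem _ hmem a.out⁻¹
      simpa [mul_assoc] using this
    subst haa
    exact Prod.ext (Subtype.ext (mul_right_cancel e')) rfl
  have := Nat.card_le_card_of_injective f hf
  rw [Nat.card_prod, ← index_eq_card] at this
  exact le_trans (Nat.mul_le_mul_left _ h4) this

theorem commuting_count {ι : Type*} (Y : ι → Subgroup G) (S : Subgroup G) (hle : ∀ e, Y e ≤ S)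
    (hcomm : ∀ e f, e ≠ f → ∀ a ∈ Y e, ∀ b ∈ Y f, Commute a b)
    (hnc : ∀ e, ¬ ∀ a ∈ Y e, ∀ b ∈ Y e, a * b = b * a) (e0 : ι) (s : Finset ι) (he0 : e0 ∉ s) :
    Nat.card ↥(Y e0) * 4 ^ s.card ≤ Nat.card S := by
  classical
  suffices Nat.card ↥(Y e0) * 4 ^ s.card ≤ Nat.card ↥(Y e0 ⊔ ⨆ e ∈ s, Y e) from
    this.trans (card_le_of_le (sup_le (hle e0) (iSup₂_le fun e _ => hle e)))
  induction s using Finset.induction with
  | empty =>
    rw [Finset.card_empty, pow_zero, mul_one]
    exact card_le_of_le le_sup_left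
  | insert f s hf ih =>
    simp only [Finset.mem_insert, not_or] at he0
    have hP : Y e0 ⊔ ⨆ e ∈ s, Y e ≤ centralizer (Y f : Set G) := by
      refine sup_le (fun a ha => mem_centralizer_iff.2 fun b hb => (hcomm e0 f he0.1 a ha b hb).eq.symm)
        (iSup₂_le fun e he a ha => mem_centralizer_iff.2 fun b hb => (hcomm e f ?_ a ha b hb).eq.symm)
      rintro rfl
      exact hf he
    rw [Finset.card_insert_of_notMem hf, pow_succ, ← mul_assoc]
    refine le_trans (Nat.mul_le_mul_right 4 (ih he0.2)) (le_trans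
      (four_mul_le_sup _ (Y f) (fun p hp q hq => (mem_centralizer_iff.1 (hP hp) q hq).symm) (hnc f))
      (card_le_of_le ?_))
    rw [Finset.iSup_insert]
    exact sup_le (sup_le le_sup_left (le_sup_of_le_right le_sup_right)) (le_sup_of_le_right le_sup_left)

theorem cube_lt_four_pow : ∀ {m : ℕ}, 8 ≤ m → m ^ 3 < 4 ^ (m - 2) := by
  intro m hm
  induction m, hm using Nat.le_induction with
  | base => norm_num
  | succ k hk ih =>
    have h1 : (k + 1) ^ 3 ≤ 4 * k ^ 3 := by nlinarith [Nat.mul_le_mul hk hk]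
    have h2 : 4 ^ (k + 1 - 2) = 4 ^ (k - 2) * 4 := by
      rw [show k + 1 - 2 = (k - 2) + 1 by omega, pow_succ]
    omega

namespace SHyp

variable (H : SHyp G)
include H

/-- The normalizer of `S` is transitive on the central involutions. -/
theorem exists_normalizer_move (hT : TITheorem.{u}) (hF : KindFacts.{u})
    (hM : ∀ N, NoMultiBelow.{u} N) {S T : Sylow 2 G} {z : G} (hz : z ∈ centInv S) (hz1 : z ≠ 1)
    (hzT : z ∈ (T : Subgroup G)) (hne : T ≠ S) (h8 : 8 ≤ Nat.card ↥(centInv S)) {e : G}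
    (he : e ∈ centInv S) (he1 : e ≠ 1) : ∃ m : G, m • S = S ∧ m * z * m⁻¹ = e := by
  classical
  haveI := Fact.mk Nat.prime_two
  obtain ⟨n, i, D⟩ := H.data_wbar hT hF hM hz hz1 hzT hne h8
  set O : Set G := {x | ∃ m : G, m • S = S ∧ m * z * m⁻¹ = x} with hO
  have hOW : ∀ x ∈ O, x ∈ centInv S ∧ x ≠ 1 := by
    rintro x ⟨m, hm, rfl⟩
    exact ⟨hm ▸ mem_centInv_conj m hz, fun e => hz1 (conj_eq_one_iff.1 e)⟩
  have hzO : z ∈ O := ⟨1, one_smul _ _, by simp⟩
  have hstep : ∀ x ∈ O, ∀ m : G, m • S = S → m * x * m⁻¹ ∈ O := by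
    rintro x ⟨k, hk, rfl⟩ m hm
    exact ⟨m * k, by rw [mul_smul, hk, hm], by group⟩
  by_contra hcon
  have heO : e ∉ O := hcon
  have hez : e ≠ z := fun h => heO (h ▸ hzO)
  have hzz := hz.2.1
  have hzc : ∀ x, z * (z * x) = x := fun x => by rw [← mul_assoc, hzz, one_mul]
  have hzW : ∀ x ∈ centInv S, x ≠ 1 → x ≠ z → z * x ∈ centInv S ∧ z * x ≠ 1 ∧ z * x ≠ z :=
    fun x hx hx1 hxz => ⟨mul_mem hz hx, fun h => hxz (by rw [← hzc x, h, mul_one]),
      fun h => hx1 (mul_eq_left.1 h)⟩
  have hconjz : ∀ m x : G, m * z * m⁻¹ = z → m * (z * x) * m⁻¹ = z * (m * x * m⁻¹) := fun m x h => by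
    rw [← conj_mul, h]
  -- exactly one of `x`, `z * x` is in the orbit
  have hor : ∀ x ∈ centInv S, x ≠ 1 → x ≠ z → x ∈ O ∨ z * x ∈ O := by
    intro x hx hx1 hxz
    haveI := H.simple
    have hnt : ∃ y ∈ O, y ≠ z := by
      by_contra! hall
      have hniso : ∀ g : G, Commute z (g * z * g⁻¹) → g * z * g⁻¹ = z := by
        intro g hg
        by_contra hgz
        set w := g * z * g⁻¹
        have hw1 : w ≠ 1 := fun e => hz1 (conj_eq_one_iff.1 e)
        obtain ⟨U, hU, hzU⟩ := exists_sylow_above S hz (Q := zpowers w)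
          (fun c => ⟨1, Subtype.ext (by
            obtain ⟨j, hj⟩ := mem_zpowers_iff.1 c.2
            simp only [pow_one, SubmonoidClass.coe_pow, OneMemClass.coe_one]
            rw [← hj, pow_two, ← (Commute.refl w).mul_zpow, (mem_centInv_conj g hz).2.1, one_zpow])⟩)
          (zpowers_le.2 (mem_cent.2 hg.symm))
        obtain ⟨c, hc, hcU⟩ := H.exists_conj_cen hzU hz.1
        have hcw : c * w * c⁻¹ ∈ (S : Subgroup G) := hcU ▸ conj_mem_smul c (hU (mem_zpowers w))
        obtain ⟨m, hm, hmz⟩ := H.exists_fusion hz (g := c * g) (by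
          rwa [show c * g * z * (c * g)⁻¹ = c * (g * z * g⁻¹) * c⁻¹ by group])
        have := hall _ ⟨m, hm, hmz⟩
        rw [show c * g * z * (c * g)⁻¹ = c * w * c⁻¹ by simp only [w]; group] at this
        refine hgz (mul_left_cancel (mul_right_cancel (this.trans ?_)))
        rw [(mem_cent.1 hc).eq, mul_inv_cancel_right]
      have hO : Cfsg.oddCore G = ⊥ := by
        rcases (ZStar.Main.oddCore_normal (G := G)).eq_bot_or_eq_top with h0 | h0
        · exact h0
        · exfalso
          have h1 := InvChar.Core.odd_card_oddCore (G := G)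
          rw [h0, Subgroup.card_top, Nat.odd_iff] at h1
          have h2 : 2 ∣ Nat.card G := orderOf_centInv hz hz1 ▸ orderOf_dvd_natCard z
          omega
      have hc := ZStar.Main.mem_center_of_isolated hO ⟨orderOf_centInv hz hz1, hniso⟩
      rcases (inferInstance : (Subgroup.center G).Normal).eq_bot_or_eq_top with h | h
      · exact hz1 (mem_bot.1 (h ▸ hc))
      · exact H.noncomm ⟨⟨fun a b => mem_center_iff.1 (h ▸ mem_top b) a⟩⟩
    obtain ⟨y, hy, hyz⟩ := hnt
    obtain ⟨m, hm, hmz, h | h⟩ := H.exists_move D hz hz1 hzT hne (hOW y hy).1 (hOW y hy).2 hyz hx hx1 hxz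
    · exact Or.inl (h ▸ hstep y hy m hm)
    · exact Or.inr (h ▸ hstep y hy m hm)
  have hone : ∀ x ∈ O, x ≠ z → z * x ∉ O := by
    intro x hx hxz hzx
    obtain ⟨m, hm, hmz, h | h⟩ := H.exists_move D hz hz1 hzT hne (hOW x hx).1 (hOW x hx).2 hxz he he1 hez
    · exact heO (h ▸ hstep x hx m hm)
    · have := hstep _ hzx m hm
      rw [hconjz m x hmz, h, hzc] at this
      exact heO this
  -- the orbit has half as many elements as the centre
  set Wf : Finset G := (Set.toFinite {x | x ∈ centInv S}).toFinset with hWf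
  have hWcard : Wf.card = Nat.card ↥(centInv S) := by
    rw [hWf, ← Set.ncard_eq_toFinset_card, ← Nat.card_coe_set_eq]; rfl
  have hmemW : ∀ x, x ∈ Wf ↔ x ∈ centInv S := fun x => by simp [hWf]
  set A := Wf.filter (fun x => x ∈ O ∧ x ≠ z)
  set B := Wf.filter (fun x => x ∉ O ∧ x ≠ 1)
  have hAB : A.card = B.card := by
    refine Finset.card_bij' (fun x _ => z * x) (fun x _ => z * x) ?_ ?_ (fun x _ => hzc x)
      (fun x _ => hzc x)
    · intro x hx
      simp only [A, B, Finset.mem_filter, hmemW] at hx ⊢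
      obtain ⟨hxW, hxO, hxz⟩ := hx
      obtain ⟨a, b, -⟩ := hzW x hxW (hOW x hxO).2 hxz
      exact ⟨a, hone x hxO hxz, b⟩
    · intro x hx
      simp only [A, B, Finset.mem_filter, hmemW] at hx ⊢
      obtain ⟨hxW, hxO, hx1⟩ := hx
      have hxz : x ≠ z := fun h => hxO (h ▸ hzO)
      obtain ⟨a, -, c⟩ := hzW x hxW hx1 hxz
      exact ⟨a, (hor x hxW hx1 hxz).resolve_left hxO, c⟩
  have hsplit : Wf = insert 1 (insert z (A ∪ B)) := by
    ext x
    simp only [A, B, Finset.mem_insert, Finset.mem_union, Finset.mem_filter, hmemW]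
    constructor
    · intro hx
      by_cases h1 : x = 1
      · exact Or.inl h1
      by_cases h2 : x = z
      · exact Or.inr (Or.inl h2)
      by_cases h3 : x ∈ O
      · exact Or.inr (Or.inr (Or.inl ⟨hx, h3, h2⟩))
      · exact Or.inr (Or.inr (Or.inr ⟨hx, h3, h1⟩))
    · rintro (rfl | rfl | ⟨h, -⟩ | ⟨h, -⟩)
      exacts [one_mem _, hz, h, h]
  have hdisj : Disjoint A B := by
    rw [Finset.disjoint_left]
    intro x hA hB
    exact (Finset.mem_filter.1 hB).2.1 (Finset.mem_filter.1 hA).2.1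
  have hWA : Wf.card = 2 + 2 * A.card := by
    rw [hsplit, Finset.card_insert_of_notMem, Finset.card_insert_of_notMem,
      Finset.card_union_of_disjoint hdisj, ← hAB]
    · ring
    · simp only [A, B, Finset.mem_union, Finset.mem_filter, not_or, not_and]
      exact ⟨fun _ _ => by simp, fun _ h => absurd hzO h⟩
    · simp only [A, B, Finset.mem_insert, Finset.mem_union, Finset.mem_filter, not_or, not_and]
      exact ⟨hz1.symm, fun _ h => absurd rfl (hOW 1 h).2, fun _ _ => by simp⟩
  have hOcard : O.ncard = A.card + 1 := by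
    have : O = ↑(insert z A) := by
      ext x
      simp only [A, Finset.coe_insert, Set.mem_insert_iff, Finset.mem_coe, Finset.mem_filter, hmemW]
      constructor
      · intro hx
        exact or_iff_not_imp_left.2 fun h => ⟨(hOW x hx).1, hx, h⟩
      · rintro (rfl | ⟨-, h, -⟩)
        exacts [hzO, h]
    rw [this, Set.ncard_coe_finset, Finset.card_insert_of_notMem]
    simp [A]
  -- the orbit is odd
  set N := normalizer ((S : Subgroup G) : Set G)
  have hodd : Odd O.ncard := by
    let C := (cen z).subgroupOf N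
    let f : N ⧸ C → G := fun c => Quotient.liftOn' c (fun m => (m : G) * z * (m : G)⁻¹) fun a b hab => by
      rw [QuotientGroup.leftRel_apply] at hab
      have hc : Commute ((a : G)⁻¹ * b) z := mem_cent.1 hab
      calc (a : G) * z * (a : G)⁻¹ = (a : G) * (z * ((a : G)⁻¹ * b)) * (b : G)⁻¹ := by group
        _ = (a : G) * (((a : G)⁻¹ * b) * z) * (b : G)⁻¹ := by rw [hc.eq]
        _ = _ := by group
    have hf : Function.Injective f := by
      intro c c'
      induction c using QuotientGroup.induction_on with | H a =>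
      induction c' using QuotientGroup.induction_on with | H b =>
      intro e
      have e' : (a : G) * z * (a : G)⁻¹ = (b : G) * z * (b : G)⁻¹ := e
      refine QuotientGroup.eq.2 (mem_cent.2 ?_)
      show (a : G)⁻¹ * b * z = z * ((a : G)⁻¹ * b)
      calc (a : G)⁻¹ * b * z = (a : G)⁻¹ * ((b : G) * z * (b : G)⁻¹) * b := by group
        _ = (a : G)⁻¹ * ((a : G) * z * (a : G)⁻¹) * b := by rw [e']
        _ = _ := by group
    have hrange : Set.range f = O := by
      ext x
      constructor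
      · rintro ⟨c, rfl⟩
        induction c using QuotientGroup.induction_on with | H a =>
        exact ⟨a, smul_eq_self_iff.2 a.2, rfl⟩
      · rintro ⟨m, hm, rfl⟩
        exact ⟨QuotientGroup.mk ⟨m, smul_eq_self_iff.1 hm⟩, rfl⟩
    rw [← hrange, Set.ncard_range_of_injective hf, ← index_eq_card]
    have hSC : (S : Subgroup G).subgroupOf N ≤ C := fun s hs =>
      mem_cent.2 (hz.2.2 (s : G) hs).symm
    have h1 : C.index ∣ ((S : Subgroup G).subgroupOf N).index := index_dvd_of_le hSC
    have h2 : ((S : Subgroup G).subgroupOf N).index ∣ (S : Subgroup G).index :=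
      relIndex_dvd_index_of_le le_normalizer
    refine Odd.of_dvd_nat ?_ (h1.trans h2)
    rw [Nat.odd_iff]
    have := S.not_dvd_index
    omega
  haveI := Fact.mk Nat.prime_two
  obtain ⟨k, hk⟩ : ∃ k, Nat.card ↥(centInv S) = 2 ^ k := IsPGroup.iff_card.1 fun x =>
    ⟨1, Subtype.ext (by rw [pow_one, pow_two, coe_mul]; exact x.2.2.1)⟩
  have h4 : 4 ∣ Nat.card ↥(centInv S) := by
    have : 2 ≤ k := by
      by_contra h
      have : 2 ^ k ≤ 2 := by
        calc 2 ^ k ≤ 2 ^ 1 := Nat.pow_le_pow_right two_pos (by omega)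
          _ = 2 := pow_one 2
      omega
    exact hk ▸ pow_dvd_pow 2 this
  rw [hOcard, Nat.odd_iff] at hodd
  omega

/-- The intersection at an involution does not depend on the second subgroup. -/
theorem inf_eq {S : Sylow 2 G} {z : G} {n i : ℕ} (D : Data (wbar z) n i) (hz : z ∈ centInv S)
    {T T' : Sylow 2 G} (hzT : z ∈ (T : Subgroup G)) (hne : T ≠ S) (hzT' : z ∈ (T' : Subgroup G))
    (hne' : T' ≠ S) : (S : Subgroup G) ⊓ T = (S : Subgroup G) ⊓ T' := by
  have key : ∀ A B : Sylow 2 G, z ∈ (A : Subgroup G) → A ≠ S → z ∈ (B : Subgroup G) →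
      (S : Subgroup G) ⊓ A ≤ (S : Subgroup G) ⊓ B := fun A B hA hAS hB x hx =>
    ⟨hx.1, H.mem_of_mem_two D hz (a := ⟨S, hz.1⟩) (b := ⟨A, hA⟩)
      (fun e => hAS (congrArg Subtype.val e).symm) ⟨B, hB⟩ hx.1 hx.2⟩
  exact le_antisymm (key T T' hzT hne hzT') (key T' T hzT' hne' hzT)

/-- With seven or more central involutions one of which lies in two Sylow subgroups, intersections
are cyclic. -/
theorem cycInt_of_shared (hT : TITheorem.{u}) (hF : KindFacts.{u}) (hM : ∀ N, NoMultiBelow.{u} N)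
    {S T : Sylow 2 G} {z : G} (hz : z ∈ centInv S) (hz1 : z ≠ 1) (hzT : z ∈ (T : Subgroup G))
    (hne : T ≠ S) (h8 : 8 ≤ Nat.card ↥(centInv S)) : ZStar.CyclicIntersections.CycInt G := by
  classical
  haveI := Fact.mk Nat.prime_two
  obtain ⟨n, i, D⟩ := H.data_wbar hT hF hM hz hz1 hzT hne h8
  have hall : ∀ (A : Sylow 2 G) (x : G), x ∈ (A : Subgroup G) → x * x = 1 → x ∈ centInv A := by
    intro A x hxA hx
    obtain ⟨g, hg⟩ := MulAction.exists_smul_eq G A S
    have h1 := H.mem_centInv_of_sq D hz hz1 hzT hne (x := g * x * g⁻¹) (hg ▸ conj_mem_smul g hxA)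
      (by rw [conj_mul, hx, mul_one, mul_inv_cancel])
    rw [← hg] at h1
    have := mem_centInv_conj g⁻¹ h1
    rw [inv_smul_smul, show g⁻¹ * (g * x * g⁻¹) * g⁻¹⁻¹ = x by group] at this
    exact this
  have hmv := fun {e : G} (he : e ∈ centInv S) (he1 : e ≠ 1) =>
    H.exists_normalizer_move hT hF hM hz hz1 hzT hne h8 he he1
  let E := {e : G // e ∈ centInv S ∧ e ≠ 1}
  let Te : E → Sylow 2 G := fun e => Classical.choose (hmv e.2.1 e.2.2) • T
  have hTe : ∀ e : E, e.1 ∈ (Te e : Subgroup G) ∧ Te e ≠ S := by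
    intro e
    obtain ⟨h1, h2⟩ := Classical.choose_spec (hmv e.2.1 e.2.2)
    refine ⟨?_, fun h => hne ?_⟩
    · have := conj_mem_smul (Classical.choose (hmv e.2.1 e.2.2)) hzT
      rwa [h2] at this
    · exact smul_left_cancel _ (h.trans h1.symm)
  let Y : E → Subgroup G := fun e => (S : Subgroup G) ⊓ Te e
  have hData : ∀ e : E, ∃ n i, Data (wbar e.1) n i := fun e =>
    H.data_wbar hT hF hM e.2.1 e.2.2 (hTe e).1 (hTe e).2 h8
  have huniq : ∀ (e : E) (A : Sylow 2 G), e.1 ∈ (A : Subgroup G) → A ≠ S →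
      ∀ x ∈ (S : Subgroup G) ⊓ A, x * x = 1 → x = 1 ∨ x = e.1 := by
    intro e A heA hA x hx hx2
    by_contra hcon
    simp only [not_or] at hcon
    exact hA (H.pair_central e.2.1 e.2.2 hx2 hcon.1 hcon.2 (e.2.1.2.2 x hx.1) e.2.1.1 hx.1 heA hx.2).symm
  have hnorm : ∀ (e : E), ∀ s ∈ (S : Subgroup G), ∀ x ∈ Y e, s * x * s⁻¹ ∈ Y e := by
    intro e s hs x hx
    obtain ⟨n, i, De⟩ := hData e
    have h1 : s * x * s⁻¹ ∈ (S : Subgroup G) ⊓ (s • Te e : Sylow 2 G) :=
      ⟨(show s * x * s⁻¹ ∈ (S : Subgroup G) from mul_mem (mul_mem hs hx.1) (inv_mem hs)), conj_mem_smul s hx.2⟩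
    refine (H.inf_eq De e.2.1 ?_ ?_ (hTe e).1 (hTe e).2).le h1
    · have := conj_mem_smul s (hTe e).1
      rwa [← (e.2.1.2.2 s hs).eq, mul_inv_cancel_right] at this
    · exact fun h => (hTe e).2 (smul_left_cancel s (h.trans (smul_eq_of_mem hs).symm))
  have hcomm : ∀ e f : E, e ≠ f → ∀ a ∈ Y e, ∀ b ∈ Y f, Commute a b := by
    intro e f hef a ha b hb
    set c := a * b * a⁻¹ * b⁻¹ with hc
    have hcf : c ∈ Y f := mul_mem (hnorm f a ha.1 b hb) (inv_mem hb)
    have hce : c ∈ Y e := by
      rw [hc, show a * b * a⁻¹ * b⁻¹ = a * (b * a⁻¹ * b⁻¹) by group]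
      exact mul_mem ha (hnorm e b hb.1 a⁻¹ (Subgroup.inv_mem _ ha))
    have : c = 1 := by
      by_contra h1
      obtain ⟨k, hk⟩ := SETwoClosed.involution_of_twoEl (twoEl_mem hce.1) h1
      rcases huniq e _ (hTe e).1 (hTe e).2 _ (pow_mem hce k) (Basic.inv_sq_one hk) with h | h
      · exact Basic.ne_one hk h
      rcases huniq f _ (hTe f).1 (hTe f).2 _ (pow_mem hcf k) (Basic.inv_sq_one hk) with h' | h'
      · exact Basic.ne_one hk h'
      exact hef (Subtype.ext (h.symm.trans h'))
    show a * b = b * a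
    rw [hc, mul_inv_eq_one, mul_inv_eq_iff_eq_mul] at this
    exact this
  have hiso : ∀ (e f : E), (∀ a ∈ Y f, ∀ b ∈ Y f, a * b = b * a) → ∀ a ∈ Y e, ∀ b ∈ Y e, a * b = b * a := by
    intro e f hf a ha b hb
    obtain ⟨m, hm, hme⟩ := hmv e.2.1 e.2.2
    obtain ⟨k, hk, hkf⟩ := hmv f.2.1 f.2.2
    obtain ⟨n, i, Df⟩ := hData f
    set g := k * m⁻¹ with hg
    have hgS : g • S = S := by
      rw [hg, mul_smul, inv_smul_eq_iff.2 hm.symm, hk]
    have hge : g * e.1 * g⁻¹ = f.1 := by
      rw [hg, ← hme, ← hkf]; group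
    have hmem : ∀ x ∈ Y e, g * x * g⁻¹ ∈ Y f := by
      intro x hx
      have h1 : g * x * g⁻¹ ∈ (S : Subgroup G) ⊓ (g • Te e : Sylow 2 G) := by
        refine ⟨?_, conj_mem_smul g hx.2⟩
        have := conj_mem_smul g hx.1
        rwa [hgS] at this
      refine (H.inf_eq Df f.2.1 ?_ ?_ (hTe f).1 (hTe f).2).le h1
      · exact hge ▸ conj_mem_smul g (hTe e).1
      · exact fun h => (hTe e).2 (smul_left_cancel g (h.trans hgS.symm))
    have h := hf _ (hmem a ha) _ (hmem b hb)
    rw [conj_mul, conj_mul] at h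
    exact mul_left_cancel (mul_right_cancel h)
  let e0 : E := ⟨z, hz, hz1⟩
  by_cases hab : ∀ a ∈ Y e0, ∀ b ∈ Y e0, a * b = b * a
  · intro A B hAB
    set I : Subgroup G := (A : Subgroup G) ⊓ B with hI
    by_cases hbot : I = ⊥
    · rw [hbot]; infer_instance
    obtain ⟨x, hx, hx1⟩ := (ne_bot_iff_exists_ne_one).1 hbot |> fun ⟨x, hx⟩ =>
      (⟨(x : G), x.2, fun e => hx (Subtype.ext e)⟩ : ∃ x : G, x ∈ I ∧ x ≠ 1)
    obtain ⟨k, hk⟩ := SETwoClosed.involution_of_twoEl (twoEl_mem hx.1) hx1
    set t := x ^ k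
    have htI : t ∈ I := pow_mem hx k
    have htA := hall A t htI.1 (Basic.inv_sq_one hk)
    obtain ⟨g, hg⟩ := MulAction.exists_smul_eq G A S
    set e : E := ⟨g * t * g⁻¹, hg ▸ mem_centInv_conj g htA, fun e => Basic.ne_one hk (conj_eq_one_iff.1 e)⟩
    obtain ⟨n, i, De⟩ := hData e
    have hgB : g • B ≠ S := fun h => hAB (smul_left_cancel g (hg.trans h.symm))
    have hmem : ∀ y ∈ I, g * y * g⁻¹ ∈ Y e := fun y hy =>
      (H.inf_eq De e.2.1 (conj_mem_smul g htI.2) hgB (hTe e).1 (hTe e).2).le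
        ⟨hg ▸ conj_mem_smul g hy.1, conj_mem_smul g hy.2⟩
    letI : CommGroup I :=
      { (inferInstance : Group I) with
        mul_comm := fun a b => Subtype.ext (by
          have h := hiso e e0 hab _ (hmem a a.2) _ (hmem b b.2)
          rw [conj_mul, conj_mul] at h
          exact mul_left_cancel (mul_right_cancel h)) }
    exact Partition.isCyclic_of_unique_involution (A.isPGroup'.to_le inf_le_left) (⟨t, htI⟩ : I)
      fun a ha => by
        by_contra hcon
        simp only [not_or] at hcon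
        refine hAB (H.pair_central htA (Basic.ne_one hk) (congrArg Subtype.val ha :)
          (fun e => hcon.1 (Subtype.ext e)) (fun e => hcon.2 (Subtype.ext e)) (htA.2.2 _ a.2.1)
          htI.1 a.2.1 htI.2 a.2.2)
  · exfalso
    haveI := Fintype.ofFinite E
    have hnc : ∀ e : E, ¬ ∀ a ∈ Y e, ∀ b ∈ Y e, a * b = b * a := fun e he => hab (hiso e0 e he)
    have hb := commuting_count Y (S : Subgroup G) (fun _ => inf_le_left) hcomm hnc e0
      (Finset.univ.erase e0) (Finset.notMem_erase _ _)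
    have hEcard : Nat.card ↥(centInv S) - 1 ≤ Fintype.card E := by
      have hsur : Nat.card {e : G // e ∈ centInv S} ≤ Nat.card (Option E) := by
        refine Nat.card_le_card_of_injective
          (fun e => if h : e.1 = 1 then none else some ⟨e.1, e.2, h⟩) fun a b hab' => ?_
        dsimp only at hab'
        split_ifs at hab' with h1 h2
        · exact Subtype.ext (h1.trans h2.symm)
        · exact Subtype.ext (congrArg Subtype.val (Option.some.inj hab') :)
      rw [Finite.card_option, Nat.card_eq_fintype_card (α := E)] at hsur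
      exact Nat.sub_le_iff_le_add.2 hsur
    rw [Finset.card_erase_of_mem (Finset.mem_univ _), Finset.card_univ] at hb
    have hle := H.card_sylow_le D hz hz1 hzT hne
    have hYeq : (S : Subgroup G) ⊓ T = Y e0 := H.inf_eq D hz hzT hne (hTe e0).1 (hTe e0).2
    rw [hYeq] at hle
    have hpos : 0 < Nat.card ↥(Y e0) := Nat.card_pos
    have h1 : 4 ^ (Nat.card ↥(centInv S) - 2) ≤ 4 ^ (Fintype.card E - 1) :=
      Nat.pow_le_pow_right (by norm_num) (by omega)
    have h2 := Nat.le_of_mul_le_mul_left (hb.trans hle) hpos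
    exact absurd (h1.trans h2) (not_le.2 (cube_lt_four_pow h8))

end SHyp

end Cfsg.Agent.DClassConf
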