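import Cfsg.Agent.Lib.DClassConf.Local

/-!
# A subgroup on an invariant set of points

A proper subgroup acting on an invariant set of at least two points, containing their involutions, has
an image which is a smaller configuration; the data of `Data` are read back in the group.
-/

set_option autoImplicit false
set_option linter.style.haveILetI false
set_option linter.unusedSectionVars false

namespace Cfsg.Agent.DClassConf

open MulAction Subgroup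
open Cfsg.Agent.Involutions
open Cfsg.Agent.SETwoClosed (TwoEl twoEl_of_sq)
open Cfsg.Agent.CyclicSylowInter (TITheorem KindFacts)

universe u v

/-- A 2-element of an image has a preimage which is a 2-element and a power of any given preimage. -/
theorem exists_twoEl_pow {H : Type u} {Q : Type v} [Group H] [Group Q] [Finite H] (f : H →* Q)
    {g : H} (h2 : TwoEl (f g)) : ∃ j : ℕ, TwoEl (g ^ j) ∧ f (g ^ j) = f g := by
  haveI := Fact.mk Nat.prime_two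
  obtain ⟨k, hk⟩ := h2
  obtain ⟨e, m, hm, hcard⟩ := Nat.exists_eq_pow_mul_and_not_dvd (orderOf_pos g).ne' 2 (by norm_num)
  have hco : m.Coprime (2 ^ k) :=
    Nat.Coprime.pow_right _ (Nat.coprime_two_right.2 (Nat.odd_iff.2 (Nat.two_dvd_ne_zero.1 hm)))
  obtain ⟨j, hj0, hj1⟩ := Nat.chineseRemainder hco 0 1
  refine ⟨j, ⟨e, ?_⟩, ?_⟩
  · rw [← pow_mul, ← orderOf_dvd_iff_pow_eq_one, hcard, mul_comm (2 ^ e) m]
    exact mul_dvd_mul_right (Nat.modEq_zero_iff_dvd.1 hj0) _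
  · rw [map_pow]
    exact pow_eq_pow_iff_modEq.2 (hj1.of_dvd (orderOf_dvd_of_pow_eq_one hk)) |>.trans (pow_one _)

/-- An odd element of an image has a preimage of odd order. -/
theorem exists_odd_pow {H : Type u} {Q : Type v} [Group H] [Group Q] [Finite H] (f : H →* Q)
    {g : H} (ho : Odd (orderOf (f g))) : ∃ j : ℕ, Odd (orderOf (g ^ j)) ∧ f (g ^ j) = f g := by
  obtain ⟨e, m, hm, hcard⟩ := Nat.exists_eq_pow_mul_and_not_dvd (orderOf_pos g).ne' 2 (by norm_num)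
  have hco : (2 ^ e).Coprime (orderOf (f g)) := Nat.Coprime.pow_left _ (Nat.coprime_two_left.2 ho)
  obtain ⟨j, hj0, hj1⟩ := Nat.chineseRemainder hco 0 1
  refine ⟨j, ?_, ?_⟩
  · refine Odd.of_dvd_nat (Nat.odd_iff.2 (Nat.two_dvd_ne_zero.1 hm)) (orderOf_dvd_of_pow_eq_one ?_)
    rw [← pow_mul, ← orderOf_dvd_iff_pow_eq_one, hcard]
    exact mul_dvd_mul_right (Nat.modEq_zero_iff_dvd.1 hj0) _
  · rw [map_pow]
    exact pow_eq_pow_iff_modEq.2 hj1 |>.trans (pow_one _)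

variable {G : Type u} [Group G] {Ω : Type u} [MulAction G Ω] {W : Ω → Subgroup G}

/-- The subgroup generated by the involutions of a set of points. -/
def genOn (W : Ω → Subgroup G) (Φ : Set Ω) : Subgroup G := ⨆ f ∈ Φ, W f

theorem W_le_genOn {Φ : Set Ω} {f : Ω} (hf : f ∈ Φ) : W f ≤ genOn W Φ := le_iSup₂ (f := fun f _ => W f) f hf

/-- The data of a subgroup on an invariant set of points. -/
structure LocalData (W : Ω → Subgroup G) (H : Subgroup G) (Φ : Set Ω) (n i : ℕ) : Prop where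
  two_le : 2 ≤ n
  i_mem : i = 1 ∨ i = 2 ∨ i = 3
  odd_n : i = 2 → Odd n
  card_W : ∀ a ∈ Φ, Nat.card ↥(W a) = 2 ^ n
  card_pts : Nat.card Φ = (2 ^ n) ^ i + 1
  fix_all : ∀ h ∈ H, ∀ a ∈ Φ, ∀ b ∈ Φ, a ≠ b → h • a = a → h • b = b → TwoEl h → ∀ c ∈ Φ, h • c = c
  trans_pts : ∀ a ∈ Φ, ∀ b ∈ Φ, ∀ c ∈ Φ, b ≠ a → c ≠ a → ∃ p ∈ H, p • a = a ∧ TwoEl p ∧ p • b = c
  inv_W : ∀ a ∈ Φ, ∀ p ∈ H, p • a = a → (∀ c ∈ Φ, p • p • c = c) →
    ∃ w ∈ W a, ∀ c ∈ Φ, p • c = w • c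
  sq_W : ∀ a ∈ Φ, ∀ p ∈ H, p • a = a → TwoEl p → ∃ w ∈ W a, ∀ c ∈ Φ, p • p • c = w • c
  center_sq : ∀ a ∈ Φ, ∀ p ∈ H, p • a = a → TwoEl p →
    (∀ r ∈ H, r • a = a → TwoEl r → ∀ c ∈ Φ, p • r • c = r • p • c) → ∀ c ∈ Φ, p • p • c = c
  torus : ∀ a ∈ Φ, ∀ b ∈ Φ, a ≠ b → ∃ d ∈ genOn W Φ, Odd (orderOf d) ∧ d • a = a ∧ d • b = b ∧
    (∀ u ∈ W a, u ≠ 1 → ∀ v ∈ W a, v ≠ 1 → ∃ j : ℕ, d ^ j * u * (d ^ j)⁻¹ = v) ∧
    (i = 3 → ∃ j : ℕ, d ^ j ≠ 1 ∧ ∀ w ∈ W a, Commute (d ^ j) w)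

variable [Finite G] [Finite Ω]

theorem Conf.localData (C : Conf W) (hT : TITheorem.{u}) (hF : KindFacts.{u})
    (hN : NoMultiBelow.{u} (Nat.card G)) (H : Subgroup G) (hH : H ≠ ⊤) (Φ : Set Ω)
    (hinv : ∀ h ∈ H, ∀ c ∈ Φ, h • c ∈ Φ) (hW : ∀ a ∈ Φ, W a ≤ H) (hne : Φ.Nonempty)
    (h2 : ∀ a ∈ Φ, ∃ b ∈ Φ, b ≠ a) : ∃ n i, LocalData W H Φ n i := by
  classical
  let A : SubMulAction ↥H Ω := ⟨Φ, fun h {c} hc => hinv h h.2 c hc⟩
  let ρ : ↥H →* Equiv.Perm ↥A := MulAction.toPermHom ↥H ↥A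
  set Q := ρ.range
  have hρ : ∀ (h : ↥H) (c : ↥A), ((⟨ρ h, h, rfl⟩ : ↥Q) • c : ↥A).1 = (h : G) • c.1 := fun h c => rfl
  let WQ : ↥A → Subgroup ↥Q := fun a => ((W a.1).subgroupOf H).map ρ.rangeRestrict
  haveI : Nonempty ↥A := hne.to_subtype
  -- injectivity on each `W a`
  have hinj : ∀ (a : ↥A) (u v : ↥H), (u : G) ∈ W a.1 → (v : G) ∈ W a.1 →
      ρ.rangeRestrict u = ρ.rangeRestrict v → u = v := by
    intro a u v hu hv e
    obtain ⟨b, hb, hba⟩ := h2 a.1 a.2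
    by_contra hne'
    have h1 : ((u⁻¹ * v : ↥H) : G) ≠ 1 := fun e' => hne' (inv_mul_eq_one.1 (Subtype.ext e'))
    refine hba (C.uniq a.1 _ (mul_mem (inv_mem hu) hv : ((u⁻¹ * v : ↥H) : G) ∈ W a.1) h1 b ?_)
    have h' := congrArg (fun q : ↥Q => (q • (⟨b, hb⟩ : ↥A)).1) e
    show ((u⁻¹ * v : ↥H) : G) • b = b
    rw [coe_mul, coe_inv, mul_smul]
    exact inv_smul_eq_iff.2 h'.symm
  have CQ : Conf WQ :=
    { conj := fun g a w hw => by
        obtain ⟨h, rfl⟩ := ρ.rangeRestrict_surjective g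
        obtain ⟨x, hx, rfl⟩ := hw
        exact ⟨h * x * h⁻¹, C.conj (h : G) a.1 _ hx, by simp⟩
      fix := fun a w hw => by
        obtain ⟨x, hx, rfl⟩ := hw
        exact Subtype.ext (C.fix a.1 _ hx)
      sq := fun a w hw => by
        obtain ⟨x, hx, rfl⟩ := hw
        rw [← map_mul, show x * x = 1 from Subtype.ext (C.sq a.1 _ hx), map_one]
      four := fun a => by
        rw [← Nat.card_congr (Equiv.ofBijective (fun x : ↥((W a.1).subgroupOf H) =>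
          (⟨ρ.rangeRestrict x, x, x.2, rfl⟩ : ↥(WQ a))) ⟨fun x y e => Subtype.ext
            (hinj a x y x.2 y.2 (congrArg Subtype.val e)), fun ⟨w, x, hx, e⟩ => ⟨⟨x, hx⟩, Subtype.ext e⟩⟩),
          Nat.card_congr (Subgroup.subgroupOfEquivOfLe (hW a.1 a.2)).toEquiv]
        exact C.four a.1
      uniq := fun a w hw h1 b hb => by
        obtain ⟨x, hx, rfl⟩ := hw
        exact Subtype.ext (C.uniq a.1 _ hx (fun e => h1 (by
          rw [show x = 1 from Subtype.ext e, map_one])) b.1 (congrArg Subtype.val hb))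
      closed := fun a x y hx hy hx2 hy2 => by
        obtain ⟨g, rfl⟩ := ρ.rangeRestrict_surjective x
        obtain ⟨h, rfl⟩ := ρ.rangeRestrict_surjective y
        obtain ⟨j, hj2, hj⟩ := exists_twoEl_pow ρ.rangeRestrict hx2
        obtain ⟨l, hl2, hl⟩ := exists_twoEl_pow ρ.rangeRestrict hy2
        rw [← hj] at hx ⊢
        rw [← hl] at hy ⊢
        obtain ⟨e, he⟩ := C.closed a.1 _ _ (congrArg Subtype.val hx) (congrArg Subtype.val hy)
          (hj2.imp fun _ h' => by simpa using congrArg Subtype.val h')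
          (hl2.imp fun _ h' => by simpa using congrArg Subtype.val h')
        refine ⟨e, ?_⟩
        rw [← map_mul, ← map_pow, show (g ^ j * h ^ l) ^ 2 ^ e = 1 from Subtype.ext (by simpa using he),
          map_one]
      central := fun a w hw s hs hs2 => by
        obtain ⟨x, hx, rfl⟩ := hw
        obtain ⟨g, rfl⟩ := ρ.rangeRestrict_surjective s
        obtain ⟨j, hj2, hj⟩ := exists_twoEl_pow ρ.rangeRestrict hs2
        rw [← hj] at hs ⊢
        have h := C.central a.1 _ hx ((g ^ j : ↥H) : G) (congrArg Subtype.val hs)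
          (hj2.imp fun _ h' => by simpa using congrArg Subtype.val h')
        exact (show Commute x (g ^ j) from Subtype.ext h.eq).map ρ.rangeRestrict
      exists_ne := fun a => by
        obtain ⟨b, hb, hba⟩ := h2 a.1 a.2
        exact ⟨⟨b, hb⟩, fun e => hba (congrArg Subtype.val e)⟩ }
  have hlt : Nat.card ↥Q < Nat.card G :=
    (Nat.card_le_card_of_surjective ρ.rangeRestrict ρ.rangeRestrict_surjective).trans_lt
      (lt_of_le_of_ne (Subgroup.card_le_card_group _) fun e => hH (Subgroup.eq_top_of_card_eq _ e))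
  obtain ⟨n, i, D⟩ := CQ.data hT hF hN hlt
  have hcW : ∀ a : ↥A, Nat.card ↥(W a.1) = 2 ^ n := fun a => by
    rw [← D.card_W a, ← Nat.card_congr (Subgroup.subgroupOfEquivOfLe (hW a.1 a.2)).toEquiv]
    exact Nat.card_congr (Equiv.ofBijective (fun x : ↥((W a.1).subgroupOf H) =>
      (⟨ρ.rangeRestrict x, x, x.2, rfl⟩ : ↥(WQ a))) ⟨fun x y e => Subtype.ext
        (hinj a x y x.2 y.2 (congrArg Subtype.val e)), fun ⟨w, x, hx, e⟩ => ⟨⟨x, hx⟩, Subtype.ext e⟩⟩)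
  have hq : ∀ {h : G} (hh : h ∈ H) {a : Ω} (ha : a ∈ Φ), h • a = a →
      ρ.rangeRestrict ⟨h, hh⟩ • (⟨a, ha⟩ : ↥A) = ⟨a, ha⟩ := fun _ _ _ e => Subtype.ext e
  have hq2 : ∀ {h : G} (hh : h ∈ H), TwoEl h → TwoEl (ρ.rangeRestrict ⟨h, hh⟩) :=
    fun hh ⟨k, hk⟩ => ⟨k, by rw [← map_pow, show (⟨_, hh⟩ : ↥H) ^ 2 ^ k = 1 from Subtype.ext hk, map_one]⟩
  refine ⟨n, i, D.two_le, D.i_mem, D.odd_n, fun a ha => hcW ⟨a, ha⟩, D.card_pts,
    fun h hh a ha b hb hab hha hhb hh2 c hc => ?_, fun a ha b hb c hc hba hca => ?_,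
    fun a ha p hp hpa hpp => ?_, fun a ha p hp hpa hp2 => ?_, fun a ha p hp hpa hp2 hcm c hc => ?_,
    fun a ha b hb hab => ?_⟩
  · have e := D.eq_one _ ⟨a, ha⟩ ⟨b, hb⟩ (fun e => hab (congrArg Subtype.val e)) (hq hh ha hha)
      (hq hh hb hhb) (hq2 hh hh2)
    exact congrArg Subtype.val ((congrArg (· • (⟨c, hc⟩ : ↥A)) e).trans (one_smul _ _))
  · obtain ⟨p, hpa, hp2, hpb⟩ := D.trans_pts ⟨a, ha⟩ ⟨b, hb⟩ ⟨c, hc⟩
      (fun e => hba (congrArg Subtype.val e)) (fun e => hca (congrArg Subtype.val e))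
    obtain ⟨g, rfl⟩ := ρ.rangeRestrict_surjective p
    obtain ⟨j, hj2, hj⟩ := exists_twoEl_pow ρ.rangeRestrict hp2
    rw [← hj] at hpa hpb
    exact ⟨_, (g ^ j).2, congrArg Subtype.val hpa,
      hj2.imp fun _ h' => by simpa using congrArg Subtype.val h', congrArg Subtype.val hpb⟩
  · have hpp' : ρ.rangeRestrict ⟨p, hp⟩ * ρ.rangeRestrict ⟨p, hp⟩ = 1 :=
      eq_of_smul_eq_smul fun c : ↥A => Subtype.ext (by
        rw [mul_smul, one_smul]; exact hpp c.1 c.2)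
    obtain ⟨w, hw, e⟩ := D.inv_W ⟨a, ha⟩ _ (hq hp ha hpa) hpp'
    exact ⟨w, hw, fun c hc => congrArg Subtype.val (congrArg (· • (⟨c, hc⟩ : ↥A)) e).symm⟩
  · obtain ⟨w, hw, e⟩ := D.sq_W ⟨a, ha⟩ _ (hq hp ha hpa) (hq2 hp hp2)
    refine ⟨w, hw, fun c hc => ?_⟩
    have h' := congrArg Subtype.val (congrArg (· • (⟨c, hc⟩ : ↥A)) e)
    simp only [mul_smul] at h'
    exact h'.symm
  · have e := D.center_sq ⟨a, ha⟩ _ (hq hp ha hpa) (hq2 hp hp2) fun r hr hr2 => by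
      obtain ⟨g, rfl⟩ := ρ.rangeRestrict_surjective r
      obtain ⟨j, hj2, hj⟩ := exists_twoEl_pow ρ.rangeRestrict hr2
      rw [← hj] at hr ⊢
      refine eq_of_smul_eq_smul fun c : ↥A => Subtype.ext ?_
      rw [mul_smul, mul_smul]
      exact hcm _ (g ^ j).2 (congrArg Subtype.val hr)
        (hj2.imp fun _ h' => by simpa using congrArg Subtype.val h') c.1 c.2
    have h' := congrArg Subtype.val (congrArg (· • (⟨c, hc⟩ : ↥A)) e)
    simp only [mul_smul, one_smul] at h'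
    exact h'
  · obtain ⟨d, hd, hdo, hda, hdb, hdt, hd3⟩ :=
      D.torus ⟨a, ha⟩ ⟨b, hb⟩ (fun e => hab (congrArg Subtype.val e))
    have hle : socle WQ ≤ ((genOn W Φ).subgroupOf H).map ρ.rangeRestrict :=
      iSup_le fun f => Subgroup.map_mono fun x hx => W_le_genOn f.2 hx
    obtain ⟨g, hg, rfl⟩ := hle hd
    obtain ⟨j, hjo, hj⟩ := exists_odd_pow ρ.rangeRestrict hdo
    rw [← hj] at hda hdb
    simp only [← hj] at hdt hd3
    refine ⟨((g ^ j : ↥H) : G), (pow_mem hg j :), by rw [orderOf_coe]; exact hjo,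
      congrArg Subtype.val hda, congrArg Subtype.val hdb, fun u hu hu1 v hv hv1 => ?_, fun hi => ?_⟩
    · obtain ⟨l, hl⟩ := hdt (ρ.rangeRestrict ⟨u, hW a ha hu⟩) ⟨_, hu, rfl⟩
        (fun e => hu1 (congrArg Subtype.val (hinj ⟨a, ha⟩ ⟨u, hW a ha hu⟩ 1 hu (one_mem (W a)) (e.trans (map_one _).symm))))
        (ρ.rangeRestrict ⟨v, hW a ha hv⟩) ⟨_, hv, rfl⟩
        (fun e => hv1 (congrArg Subtype.val (hinj ⟨a, ha⟩ ⟨v, hW a ha hv⟩ 1 hv (one_mem (W a)) (e.trans (map_one _).symm))))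
      have hfix : (((g ^ j) ^ l : ↥H) : G) • a = a := by
        rw [SubmonoidClass.coe_pow]
        exact mem_stabilizer_iff.1 (pow_mem (mem_stabilizer_iff.2 (congrArg Subtype.val hda)) l)
      have hmem := C.conj (((g ^ j) ^ l : ↥H) : G) a u hu
      rw [hfix] at hmem
      have h' := hinj ⟨a, ha⟩ ((g ^ j) ^ l * ⟨u, hW a ha hu⟩ * ((g ^ j) ^ l)⁻¹) ⟨v, hW a ha hv⟩ hmem hv
        (by simpa only [map_mul, map_inv, map_pow] using hl)
      exact ⟨l, congrArg Subtype.val h'⟩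
    · obtain ⟨l, hl1, hlc⟩ := hd3 hi
      refine ⟨l, fun e => hl1 ?_, fun w hw => ?_⟩
      · rw [← map_pow, show (g ^ j) ^ l = 1 from Subtype.ext (by simpa using e), map_one]
      have hfix : (((g ^ j) ^ l : ↥H) : G) • a = a := by
        rw [SubmonoidClass.coe_pow]
        exact mem_stabilizer_iff.1 (pow_mem (mem_stabilizer_iff.2 (congrArg Subtype.val hda)) l)
      have hmem := C.conj (((g ^ j) ^ l : ↥H) : G) a w hw
      rw [hfix] at hmem
      have hc := (hlc _ ⟨⟨w, hW a ha hw⟩, hw, rfl⟩).eq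
      rw [← map_pow] at hc
      have h' := hinj ⟨a, ha⟩ ((g ^ j) ^ l * ⟨w, hW a ha hw⟩ * ((g ^ j) ^ l)⁻¹) ⟨w, hW a ha hw⟩ hmem hw
        (by rw [map_mul, map_mul, map_inv, hc, mul_inv_cancel_right])
      exact mul_inv_eq_iff_eq_mul.1 (congrArg Subtype.val h')

end Cfsg.Agent.DClassConf
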