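import Cfsg.Agent.Lib.DClassConf.Central
import Cfsg.Agent.Lib.DClassConf.Lift

/-!
# The Sylow subgroups through a central involution

The centralizer of a central involution `z` permutes the Sylow subgroups through `z`, and if there are
several and the centres have at least seven involutions, the images of these centres form a
configuration. Hence all involutions of `S` are central, any two of these Sylow subgroups meet in the
same subgroup, and the stabilizer of `S` and `z` is transitive on the involutions of `Z(S)` modulo `z`.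
-/

set_option autoImplicit false
set_option linter.style.haveILetI false
set_option linter.unusedSectionVars false

namespace Cfsg.Agent.DClassConf

open Subgroup
open scoped Pointwise
open Cfsg.Agent.Involutions
open Cfsg.Agent.SETwoClosed (TwoEl twoEl_of_sq)
open Cfsg.Agent.CyclicSylowInter (centInv cen TITheorem KindFacts)
open Cfsg.Agent.ZStar.CyclicIntersections (conj_mem_smul mem_smul mem_cent)

universe u

variable {G : Type u} [Group G] [Finite G]

/-- The Sylow subgroups through `z`. -/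
abbrev Pts (z : G) := {T : Sylow 2 G // z ∈ (T : Subgroup G)}

theorem cen_smul_mem {z : G} (k : cen z) (T : Pts z) :
    z ∈ (((k : G) • T.1 : Sylow 2 G) : Subgroup G) := by
  refine mem_smul.2 ?_
  rw [mul_assoc, ← (mem_cent.1 k.2).eq, inv_mul_cancel_left]
  exact T.2

/-- The centralizer of `z` permutes these Sylow subgroups. -/
def ptsPerm (z : G) : ↥(cen z) →* Equiv.Perm (Pts z) :=
  @MulAction.toPermHom ↥(cen z) (Pts z) _
    { smul := fun k T => ⟨(k : G) • T.1, cen_smul_mem k T⟩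
      one_smul := fun T => Subtype.ext (one_smul G T.1)
      mul_smul := fun k l T => Subtype.ext (mul_smul (k : G) (l : G) T.1) }

/-- The group induced on these Sylow subgroups. -/
abbrev qgrp (z : G) : Subgroup (Equiv.Perm (Pts z)) := (ptsPerm z).range

/-- The projection. -/
def qproj (z : G) : ↥(cen z) →* ↥(qgrp z) := (ptsPerm z).rangeRestrict

theorem qproj_smul {z : G} (k : cen z) (T : Pts z) :
    (qproj z k • T : Pts z).1 = (k : G) • T.1 := rfl

/-- The images of the central involutions. -/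
def wbar (z : G) (T : Pts z) : Subgroup ↥(qgrp z) := ((centInv T.1).subgroupOf (cen z)).map (qproj z)

namespace SHyp

variable (H : SHyp G)
include H

theorem centInv_le_cen {z : G} {S : Sylow 2 G} (hz : z ∈ centInv S) (a : Pts z) :
    ((a.1 : Sylow 2 G) : Subgroup G) ≤ cen z := fun s hs =>
  mem_cent.2 ((H.mem_centInv hz a.2).2.2 s hs).symm

theorem card_centInv_eq (S T : Sylow 2 G) : Nat.card ↥(centInv S) = Nat.card ↥(centInv T) := by
  have key : ∀ S T : Sylow 2 G, Nat.card ↥(centInv S) ≤ Nat.card ↥(centInv T) := by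
    intro S T
    haveI := Fact.mk Nat.prime_two
    obtain ⟨g, rfl⟩ := MulAction.exists_smul_eq G S T
    exact Nat.card_le_card_of_injective (fun w => ⟨g * w.1 * g⁻¹, mem_centInv_conj g w.2⟩)
      fun a b e => Subtype.ext (mul_left_cancel (mul_right_cancel (congrArg Subtype.val e :)))
  exact le_antisymm (key S T) (key T S)

/-- A 2-element of the induced group fixing a point comes from its Sylow subgroup. -/
theorem exists_lift_fix {z : G} {a : Pts z} {q : qgrp z} (hq : q • a = a) (h2 : TwoEl q) :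
    ∃ (s : G) (hs : s ∈ cen z), s ∈ ((a.1 : Sylow 2 G) : Subgroup G) ∧ qproj z ⟨s, hs⟩ = q := by
  obtain ⟨k, rfl⟩ := (ptsPerm z).rangeRestrict_surjective q
  obtain ⟨j, hj, hj'⟩ := exists_twoEl_pow (qproj z) (g := k) h2
  refine ⟨((k ^ j : cen z) : G), (k ^ j).2, mem_of_smul_eq ?_ ?_, hj'⟩
  · have := congrArg Subtype.val hq
    rw [← qproj_smul (k ^ j) a, hj']
    exact this
  · obtain ⟨m, hm⟩ := hj
    exact ⟨m, by simpa using congrArg Subtype.val hm⟩

variable {S T : Sylow 2 G} {z : G}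

/-- An element of the centre acting trivially is `1` or `z`. -/
theorem centInv_kernel (hz : z ∈ centInv S) (hz1 : z ≠ 1) {a b : Pts z} (hab : b ≠ a) {w : G}
    (hw : w ∈ centInv a.1) (hb : w • b.1 = b.1) : w = 1 ∨ w = z := by
  by_contra hcon
  simp only [not_or] at hcon
  have hza := H.mem_centInv hz a.2
  exact hab (Subtype.ext (H.pair_central hza hz1 hw.2.1 hcon.1 hcon.2 (hza.2.2 w hw.1) a.2 hw.1 b.2
    (mem_of_smul_eq hb (twoEl_of_sq hw.2.1))).symm)

theorem exists_ne_pt (hz : z ∈ centInv S) (hzT : z ∈ (T : Subgroup G)) (hne : T ≠ S) (a : Pts z) :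
    ∃ b : Pts z, b ≠ a := by
  by_cases h : a.1 = S
  · exact ⟨⟨T, hzT⟩, fun e => hne ((congrArg Subtype.val e).trans h)⟩
  · exact ⟨⟨S, hz.1⟩, fun e => h (congrArg Subtype.val e).symm⟩

theorem conf_wbar (hz : z ∈ centInv S) (hz1 : z ≠ 1) (hzT : z ∈ (T : Subgroup G)) (hne : T ≠ S)
    (h8 : 8 ≤ Nat.card ↥(centInv S)) : Conf (wbar z) where
  conj q a w hw := by
    obtain ⟨k, rfl⟩ := (ptsPerm z).rangeRestrict_surjective q
    obtain ⟨v, hv, rfl⟩ := hw
    refine ⟨k * v * k⁻¹, ?_, by rw [map_mul, map_mul, map_inv]; rfl⟩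
    show ((k * v * k⁻¹ : cen z) : G) ∈ centInv ((k : G) • a.1)
    exact mem_centInv_conj (k : G) hv
  fix a w hw := by
    obtain ⟨v, hv, rfl⟩ := hw
    exact Subtype.ext (smul_eq_of_mem (show (v : G) ∈ (a.1 : Subgroup G) from hv.1))
  sq a w hw := by
    obtain ⟨v, hv, rfl⟩ := hw
    rw [← map_mul, show v * v = 1 from Subtype.ext hv.2.1, map_one]
  four a := by
    obtain ⟨b, hb⟩ := H.exists_ne_pt hz hzT hne a
    set f := (qproj z).comp ((centInv a.1).subgroupOf (cen z)).subtype
    have hrange : f.range = wbar z a := by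
      rw [MonoidHom.range_comp, range_subtype]; rfl
    have hker : Nat.card f.ker ≤ 2 := by
      have hsub : (fun x : f.ker => (((x : ↥((centInv a.1).subgroupOf (cen z))) : cen z) : G)) ''
          Set.univ ⊆ {1, z} := by
        rintro _ ⟨x, -, rfl⟩
        have hx : qproj z ((x : ↥((centInv a.1).subgroupOf (cen z))) : cen z) = 1 := x.2
        refine H.centInv_kernel hz hz1 hb x.1.2 ?_
        rw [← qproj_smul, hx, one_smul]
      have h := Set.ncard_le_ncard hsub (Set.toFinite _)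
      rw [Set.ncard_image_of_injective _ (fun x y e =>
        Subtype.ext (Subtype.ext (Subtype.ext e))), Set.ncard_univ] at h
      exact h.trans (Set.ncard_pair hz1.symm).le
    have hmul : Nat.card ↥((centInv a.1).subgroupOf (cen z)) = Nat.card f.range * Nat.card f.ker := by
      rw [← Nat.card_congr (QuotientGroup.quotientKerEquivRange f).toEquiv]
      exact Subgroup.card_eq_card_quotient_mul_card_subgroup f.ker
    have hle : centInv a.1 ≤ cen z := fun w (hw : w ∈ centInv a.1) => H.centInv_le_cen hz a hw.1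
    rw [Nat.card_congr (subgroupOfEquivOfLe hle).toEquiv, ← H.card_centInv_eq S, hrange] at hmul
    nlinarith
  uniq a w hw hw1 b hb := by
    obtain ⟨v, hv, rfl⟩ := hw
    by_contra hba
    refine hw1 ?_
    rcases H.centInv_kernel hz hz1 hba hv (congrArg Subtype.val hb) with h | h
    · rw [show v = 1 from Subtype.ext h, map_one]
    · refine Subtype.ext (Equiv.ext fun c => Subtype.ext ?_)
      show (v : G) • c.1 = c.1
      rw [show (v : G) = z from h]; exact smul_eq_of_mem c.2
  closed a x y hx hy hx2 hy2 := by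
    obtain ⟨s, hs, hsa, rfl⟩ := H.exists_lift_fix hx hx2
    obtain ⟨t, ht, hta, rfl⟩ := H.exists_lift_fix hy hy2
    rw [← map_mul]
    obtain ⟨m, hm⟩ := twoEl_mem (mul_mem hsa hta)
    exact ⟨m, by rw [← map_pow, show (⟨s, hs⟩ * ⟨t, ht⟩ : cen z) ^ 2 ^ m = 1 from Subtype.ext hm, map_one]⟩
  central a w hw s hs hs2 := by
    obtain ⟨v, hv, rfl⟩ := hw
    obtain ⟨t, ht, hta, rfl⟩ := H.exists_lift_fix hs hs2
    exact (show Commute v ⟨t, ht⟩ from Subtype.ext (hv.2.2 t hta).eq).map (qproj z)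
  exists_ne := H.exists_ne_pt hz hzT hne

/-- The data of this configuration. -/
theorem data_wbar (hT : TITheorem.{u}) (hF : KindFacts.{u}) (hM : ∀ N, NoMultiBelow.{u} N)
    (hz : z ∈ centInv S) (hz1 : z ≠ 1) (hzT : z ∈ (T : Subgroup G)) (hne : T ≠ S)
    (h8 : 8 ≤ Nat.card ↥(centInv S)) : ∃ n i, Data (wbar z) n i := by
  haveI : Nonempty (Pts z) := ⟨⟨S, hz.1⟩⟩
  exact (H.conf_wbar hz hz1 hzT hne h8).data hT hF (hM (Nat.card ↥(qgrp z) + 1)) (Nat.lt_succ_self _)

variable {n i : ℕ} (D : Data (wbar z) n i)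
include D

/-- What lies in two of these Sylow subgroups lies in all of them. -/
theorem mem_of_mem_two (hz : z ∈ centInv S) {a b : Pts z} (hab : a ≠ b) (c : Pts z) {x : G}
    (hxa : x ∈ ((a.1 : Sylow 2 G) : Subgroup G)) (hxb : x ∈ ((b.1 : Sylow 2 G) : Subgroup G)) :
    x ∈ ((c.1 : Sylow 2 G) : Subgroup G) := by
  set k : cen z := ⟨x, H.centInv_le_cen hz a hxa⟩
  obtain ⟨m, hm⟩ := twoEl_mem hxa
  have h1 : qproj z k = 1 := D.eq_one _ a b hab (Subtype.ext (smul_eq_of_mem hxa))
    (Subtype.ext (smul_eq_of_mem hxb)) ⟨m, by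
      rw [← map_pow, show k ^ 2 ^ m = 1 from Subtype.ext hm, map_one]⟩
  refine mem_of_smul_eq ?_ ⟨m, hm⟩
  rw [show x • c.1 = (qproj z k • c).1 from rfl, h1, one_smul]

/-- All involutions of `S` are central. -/
theorem mem_centInv_of_sq (hz : z ∈ centInv S) (hz1 : z ≠ 1) (hzT : z ∈ (T : Subgroup G))
    (hne : T ≠ S) {x : G} (hxS : x ∈ (S : Subgroup G)) (hx : x * x = 1) : x ∈ centInv S := by
  set a : Pts z := ⟨S, hz.1⟩
  set k : cen z := ⟨x, H.centInv_le_cen hz a hxS⟩
  obtain ⟨w, hw, e⟩ := D.inv_W a (qproj z k) (Subtype.ext (smul_eq_of_mem hxS))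
    (by rw [← map_mul, show k * k = 1 from Subtype.ext hx, map_one])
  have hw' : (w : G) ∈ centInv S := hw
  have hy : qproj z (k * w) = 1 := by
    rw [map_mul, e, ← map_mul, show k * k = 1 from Subtype.ext hx, map_one]
  have hyS : x * w ∈ (S : Subgroup G) := mul_mem hxS hw'.1
  have hy2 : x * w * (x * w) = 1 := by
    rw [(hw'.2.2 x hxS).mul_mul_mul_comm, hx, hw'.2.1, one_mul]
  have hyT : x * w ∈ (T : Subgroup G) := by
    refine mem_of_smul_eq ?_ (twoEl_of_sq hy2)
    rw [show (x * w) • T = (qproj z (k * w) • (⟨T, hzT⟩ : Pts z)).1 from rfl, hy, one_smul]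
  have : x * w = 1 ∨ x * w = z := by
    by_contra hcon
    simp only [not_or] at hcon
    exact hne (H.pair_central hz hz1 hy2 hcon.1 hcon.2 (hz.2.2 _ hyS) hz.1 hyS hzT hyT).symm
  have hxe : x = x * w * w := by rw [mul_assoc, hw'.2.1, mul_one]
  rcases this with h | h <;> rw [hxe, h]
  · simpa using hw'
  · exact mul_mem hz hw'

/-- Transitivity modulo `z`. -/
theorem exists_move (hz : z ∈ centInv S) (hz1 : z ≠ 1) (hzT : z ∈ (T : Subgroup G))
    (hne : T ≠ S) {u v : G} (hu : u ∈ centInv S) (hu1 : u ≠ 1) (huz : u ≠ z) (hv : v ∈ centInv S)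
    (hv1 : v ≠ 1) (hvz : v ≠ z) :
    ∃ m : G, m • S = S ∧ m * z * m⁻¹ = z ∧ (m * u * m⁻¹ = v ∨ m * u * m⁻¹ = z * v) := by
  set a : Pts z := ⟨S, hz.1⟩
  set b : Pts z := ⟨T, hzT⟩
  have hab : a ≠ b := fun e => hne (congrArg Subtype.val e).symm
  set uK : cen z := ⟨u, H.centInv_le_cen hz a hu.1⟩
  set vK : cen z := ⟨v, H.centInv_le_cen hz a hv.1⟩
  have hne1 : ∀ w : cen z, (w : G) ∈ centInv S → (w : G) ≠ 1 → (w : G) ≠ z → qproj z w ≠ 1 := by
    intro w hw hw1 hwz e
    rcases H.centInv_kernel hz hz1 hab.symm (show (w : G) ∈ centInv a.1 from hw)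
      (by rw [← qproj_smul, e, one_smul]) with h | h
    · exact hw1 h
    · exact hwz h
  obtain ⟨d, -, -, hda, -, htr, -⟩ := D.torus a b hab
  obtain ⟨j, hj⟩ := htr (qproj z uK) ⟨uK, hu, rfl⟩ (hne1 uK hu hu1 huz) (qproj z vK)
    ⟨vK, hv, rfl⟩ (hne1 vK hv hv1 hvz)
  obtain ⟨k, hk⟩ := (ptsPerm z).rangeRestrict_surjective d
  refine ⟨((k ^ j : cen z) : G), ?_, ?_, ?_⟩
  · have h : (d ^ j) • a = a := MulAction.mem_stabilizer_iff.1 (pow_mem (MulAction.mem_stabilizer_iff.2 hda) j)
    rw [← hk, ← map_pow] at h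
    exact congrArg Subtype.val h
  · rw [(mem_cent.1 (k ^ j).2).eq, mul_inv_cancel_right]
  · set w : cen z := k ^ j * uK * (k ^ j)⁻¹ * vK⁻¹ with hw
    have hwS : ((k ^ j * uK * (k ^ j)⁻¹ : cen z) : G) ∈ centInv S := by
      have h : (d ^ j) • a = a := MulAction.mem_stabilizer_iff.1 (pow_mem (MulAction.mem_stabilizer_iff.2 hda) j)
      rw [← hk, ← map_pow] at h
      have h' : ((k ^ j : cen z) : G) • S = S := congrArg Subtype.val h
      have := mem_centInv_conj ((k ^ j : cen z) : G) hu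
      rwa [h'] at this
    have h1 : qproj z w = 1 := by
      rw [hw, map_mul, map_mul, map_mul, map_inv, map_inv, map_pow,
        show qproj z k = d from hk, hj, mul_inv_cancel]
    rcases H.centInv_kernel hz hz1 hab.symm (show (w : G) ∈ centInv a.1 from mul_mem hwS (inv_mem hv))
      (by rw [← qproj_smul, h1, one_smul]) with h | h
    · exact Or.inl (mul_inv_eq_one.1 h)
    · exact Or.inr (mul_inv_eq_iff_eq_mul.1 h)

/-- The order of `S`. -/
theorem card_sylow_le (hz : z ∈ centInv S) (hz1 : z ≠ 1) (hzT : z ∈ (T : Subgroup G))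
    (hne : T ≠ S) :
    Nat.card ↥(S : Subgroup G) ≤
      Nat.card ↥((S : Subgroup G) ⊓ (T : Subgroup G)) * Nat.card ↥(centInv S) ^ 3 := by
  set a : Pts z := ⟨S, hz.1⟩
  set f := (qproj z).comp (Subgroup.inclusion (H.centInv_le_cen hz a))
  have hker : Nat.card f.ker ≤ Nat.card ↥((S : Subgroup G) ⊓ (T : Subgroup G)) := by
    refine Nat.card_le_card_of_injective (fun x => ⟨(x : ↥(S : Subgroup G)).1, x.1.2, ?_⟩)
      fun x y e => Subtype.ext (Subtype.ext (congrArg Subtype.val e :))
    refine mem_of_smul_eq ?_ (twoEl_mem x.1.2)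
    rw [show (x.1 : G) • T = (f x.1 • (⟨T, hzT⟩ : Pts z)).1 from rfl, MonoidHom.mem_ker.1 x.2, one_smul]
  have himg : Nat.card f.range ≤ (2 ^ n) ^ i := by
    rw [← D.card_fix a]
    refine Nat.card_le_card_of_injective (fun x => ⟨x.1, ?_⟩)
      fun x y e => Subtype.ext (congrArg Subtype.val e :)
    obtain ⟨s, hs⟩ := x.2
    rw [← hs]
    refine ⟨Subtype.ext (smul_eq_of_mem s.2), ?_⟩
    obtain ⟨m, hm⟩ := twoEl_mem s.2
    exact ⟨m, by rw [← map_pow, show s ^ 2 ^ m = 1 from Subtype.ext hm, map_one]⟩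
  have hW : 2 ^ n ≤ Nat.card ↥(centInv S) := by
    rw [← D.card_W a]
    calc Nat.card ↥(wbar z a) ≤ Nat.card ↥((centInv S).subgroupOf (cen z)) :=
          Nat.le_of_dvd Nat.card_pos (Subgroup.card_map_dvd _ _)
      _ = _ := Nat.card_congr (subgroupOfEquivOfLe
          fun w (hw : w ∈ centInv S) => H.centInv_le_cen hz a hw.1).toEquiv
  have hmul : Nat.card ↥(S : Subgroup G) = Nat.card f.range * Nat.card f.ker := by
    rw [← Nat.card_congr (QuotientGroup.quotientKerEquivRange f).toEquiv]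
    exact Subgroup.card_eq_card_quotient_mul_card_subgroup f.ker
  have hi : (2 ^ n) ^ i ≤ (2 ^ n) ^ 3 := Nat.pow_le_pow_right (by positivity) (by
    rcases D.i_mem with h | h | h <;> omega)
  rw [hmul, mul_comm]
  exact Nat.mul_le_mul hker ((himg.trans hi).trans (Nat.pow_le_pow_left hW 3))

end SHyp

end Cfsg.Agent.DClassConf
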