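import Cfsg.Agent.Lib.DClassConf.Block

/-!
# The family of a block

The conjugates of `x` in the Sylow subgroup `S` that lie in `x W` form all of `x W`, and the elements
producing them form a subgroup `R ≥ C_S(x)` with `[R : C_S(x)] = |W|`, the same for every involution of
`Y`.  A torus element centralising `Y` permutes `W` regularly.
-/

set_option autoImplicit false
set_option linter.style.haveILetI false
set_option linter.unusedSectionVars false

namespace Cfsg.Agent.DClassConf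

open MulAction Subgroup
open Cfsg.Agent.Involutions
open Cfsg.Agent.SETwoClosed (TwoEl twoEl_of_sq)

universe u

variable {G : Type u} [Group G] {Ω : Type u} [MulAction G Ω] {W : Ω → Subgroup G}

theorem mem_fixSet_conj {x g : G} {c : Ω} :
    g • c ∈ fixSet Ω (g * x * g⁻¹) ↔ c ∈ fixSet Ω x := by
  show (g * x * g⁻¹) • g • c = g • c ↔ x • c = c
  rw [mul_smul, mul_smul, inv_smul_smul, smul_left_cancel_iff]

/-- The elements of `S` moving `x` inside `x W`. -/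
def Conf.famS (C : Conf W) (a : Ω) (x : G) : Subgroup G where
  carrier := {s | s ∈ C.Sa a ∧ x⁻¹ * (s * x * s⁻¹) ∈ W a}
  one_mem' := ⟨one_mem _, by simp [one_mem]⟩
  mul_mem' := fun {s t} hs ht => ⟨mul_mem hs.1 ht.1, by
    have hc : Commute s (x⁻¹ * (t * x * t⁻¹)) := (C.central a _ ht.2 s hs.1.1 hs.1.2).symm
    rw [show x⁻¹ * (s * t * x * (s * t)⁻¹) = x⁻¹ * (s * x * (x⁻¹ * (t * x * t⁻¹)) * s⁻¹) by group,
      mul_assoc s x, show s * (x * (x⁻¹ * (t * x * t⁻¹))) * s⁻¹ =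
        s * x * s⁻¹ * (s * (x⁻¹ * (t * x * t⁻¹)) * s⁻¹) by group, hc.eq, mul_inv_cancel_right, ← mul_assoc]
    exact mul_mem hs.2 ht.2⟩
  inv_mem' := fun {s} hs => ⟨inv_mem hs.1, by
    have hc : Commute s (x⁻¹ * (s * x * s⁻¹)) := (C.central a _ hs.2 s hs.1.1 hs.1.2).symm
    rw [show x⁻¹ * (s⁻¹ * x * s⁻¹⁻¹) = s⁻¹ * (x⁻¹ * (s * x * s⁻¹))⁻¹ * s by group, hc.inv_inv.eq,
      inv_mul_cancel_right]
    exact inv_mem hs.2⟩

theorem Conf.mem_famS (C : Conf W) {a : Ω} {x s : G} :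
    s ∈ C.famS a x ↔ s ∈ C.Sa a ∧ x⁻¹ * (s * x * s⁻¹) ∈ W a := Iff.rfl

theorem Conf.centS_le_famS (C : Conf W) (a : Ω) (x : G) : C.centS a x ≤ C.famS a x := fun s hs => by
  obtain ⟨h1, h2⟩ := C.mem_centS.1 hs
  refine ⟨h1, ?_⟩
  rw [h2.eq, mul_inv_cancel_right, inv_mul_cancel]
  exact one_mem _

theorem Conf.card_stabilizer_index [Finite G] (C : Conf W) (a : Ω) :
    Odd (Nat.card ↥(stabilizer G a) / Nat.card ↥(C.Sa a)) := by
  haveI := Fact.mk Nat.prime_two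
  let S' : Sylow 2 ↥(stabilizer G a) :=
    (C.syl a).subtype (show (C.syl a : Subgroup G) ≤ stabilizer G a from fun _ hs => hs.1)
  haveI : (S' : Subgroup ↥(stabilizer G a)).Normal := ⟨fun s hs g => by
    show (g : G) * s * (g : G)⁻¹ ∈ C.Sa a
    exact C.Sa_normal g.2 hs⟩
  have h := Subgroup.card_mul_index (S' : Subgroup ↥(stabilizer G a))
  have hc : Nat.card ↥(S' : Subgroup ↥(stabilizer G a)) = Nat.card ↥(C.Sa a) :=
    Nat.card_congr (Subgroup.subgroupOfEquivOfLe (show C.Sa a ≤ stabilizer G a from fun _ hs => hs.1)).toEquiv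
  rw [hc] at h
  rw [← h, Nat.mul_div_cancel_left _ Nat.card_pos, Nat.odd_iff, ← Nat.two_dvd_ne_zero]
  exact S'.not_dvd_index

namespace Par

variable [IsSimpleGroup G] [Finite G] [Finite Ω] {n i : ℕ} (P : Par W n i)
include P

variable {a b : Ω} {x : G} (B : Block a b x)
include B

theorem ker_sq {y : G} (hy : y ∈ P.conf.kerS a b) : y * y = 1 := (P.ker_central B).1 y hy

theorem ker_le_centS {y : G} (hy : y ∈ P.conf.kerS a b) : y ∈ P.conf.centS a x := by
  refine P.conf.mem_centS.2 ⟨hy.1, ?_⟩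
  refine ((P.ker_central B).2 y hy x (P.conf.mem_centS.2 ⟨?_, Commute.refl x⟩)).symm
  exact (P.mem_kerS_self B).1

theorem ker_commute {y : G} (hy : y ∈ P.conf.kerS a b) {s : G} (hs : s ∈ P.conf.centS a x) :
    Commute s y := (P.ker_central B).2 y hy s hs

theorem ker_two {y : G} (hy : y ∈ P.conf.kerS a b) (hy1 : y ≠ 1) : orderOf y = 2 :=
  Basic.orderOf_two_iff.2 ⟨P.ker_sq B hy, hy1⟩

/-- Every involution of `Y` determines the same block and the same centralizer in `S`. -/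
theorem centS_eq {y : G} (hy : y ∈ P.conf.kerS a b) (hy1 : y ≠ 1) :
    Block a b y ∧ fixSet Ω y = fixSet Ω x ∧ P.conf.centS a y = P.conf.centS a x := by
  obtain ⟨By, hfix⟩ := P.ker_block B hy (P.ker_two B hy hy1)
  refine ⟨By, hfix, le_antisymm (fun s hs => ?_) (fun s hs => P.conf.mem_centS.2
    ⟨(P.conf.mem_centS.1 hs).1, P.ker_commute B hy hs⟩)⟩
  obtain ⟨hsS, hsy⟩ := P.conf.mem_centS.1 hs
  have hx : x ∈ P.conf.kerS a b := P.mem_kerS_self B
  have hxc := (P.ker_central By).2 x hx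
  exact P.conf.mem_centS.2 ⟨hsS, hxc s hs⟩

/-- The kernel of the block of `x w` lies in `Y W`. -/
theorem ker_xw {w : G} (hw : w ∈ W a) {c : Ω} (B' : Block a c (x * w)) {y' : G}
    (hy' : y' ∈ P.conf.kerS a c) : ∃ v ∈ W a, y' * v ∈ P.conf.kerS a b := by
  have C := P.conf
  obtain ⟨hyS, hyxw⟩ := P.conf.mem_centS.1 (P.ker_le_centS B' hy')
  have hyw : Commute y' w := (C.central a w hw y' hyS.1 hyS.2).symm
  have hyx : Commute y' x := by
    have := hyxw.mul_right hyw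
    rwa [mul_assoc, C.sq a w hw, mul_one] at this
  obtain ⟨v, hv, hvy⟩ := (P.loc x B.multi).inv_W a B.ha y' (mem_centralizer_singleton_iff.2 hyx.eq)
    hyS.1 fun d _ => by rw [smul_smul, P.ker_sq B' hy', one_smul]
  refine ⟨v, hv, (P.conf.Sa a).mul_mem hyS (P.conf.W_le_Sa a hv), ?_⟩
  show (y' * v) • b = b
  rw [← (C.central a v hv y' hyS.1 hyS.2).eq, mul_smul, hvy b B.hb, smul_smul, C.sq a v hv, one_smul]

theorem centS_mul {w : G} (hw : w ∈ W a) : P.conf.centS a (x * w) = P.conf.centS a x := by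
  ext s
  refine ⟨fun hs => ?_, fun hs => ?_⟩ <;> obtain ⟨hsS, hsx⟩ := P.conf.mem_centS.1 hs <;>
    have hsw : Commute s w := (P.conf.central a w hw s hsS.1 hsS.2).symm <;>
    refine P.conf.mem_centS.2 ⟨hsS, ?_⟩
  · have := hsx.mul_right hsw
    rwa [mul_assoc, P.conf.sq a w hw, mul_one] at this
  · exact hsx.mul_right hsw

theorem x_mem_Sa : x ∈ P.conf.Sa a := (P.mem_kerS_self B).1

/-- `S` conjugates `x` to all of `x W`. -/
theorem exists_conj_mul {w : G} (hw : w ∈ W a) :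
    ∃ s ∈ P.conf.Sa a, s * x * s⁻¹ = x * w := by
  classical
  have C := P.conf
  let M := stabilizer G a
  have hWn : ∀ m ∈ M, ∀ v ∈ W a, m * v * m⁻¹ ∈ W a := fun m hm v hv => by
    have := C.conj m a v hv
    rwa [show m • a = a from hm] at this
  let A : Subgroup G :=
    { carrier := {m | m ∈ M ∧ x⁻¹ * (m * x * m⁻¹) ∈ W a}
      one_mem' := ⟨one_mem _, by simp [one_mem]⟩
      mul_mem' := fun {s t} hs ht => ⟨mul_mem hs.1 ht.1, by
        rw [show x⁻¹ * (s * t * x * (s * t)⁻¹) =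
          x⁻¹ * (s * x * s⁻¹) * (s * (x⁻¹ * (t * x * t⁻¹)) * s⁻¹) by group]
        exact mul_mem hs.2 (hWn s hs.1 _ ht.2)⟩
      inv_mem' := fun {s} hs => ⟨inv_mem hs.1, by
        rw [show x⁻¹ * (s⁻¹ * x * s⁻¹⁻¹) = s⁻¹ * (x⁻¹ * (s * x * s⁻¹))⁻¹ * s⁻¹⁻¹ by group]
        exact hWn _ (inv_mem hs.1) _ (inv_mem hs.2)⟩ }
  have hAmap : ∀ v ∈ W a, ∃ m ∈ A, m * x * m⁻¹ = x * v := by
    intro v hv
    obtain ⟨g, hg⟩ := isConj_iff.1 (P.toEnv.isConj_mul B.multi B.ha hv)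
    obtain ⟨m, hma, hm⟩ := P.conf.fusion (P.x_mem_Sa B)
      ((P.conf.Sa a).mul_mem (P.x_mem_Sa B) (P.conf.W_le_Sa a hv)) hg
    exact ⟨m, ⟨hma, by rw [hm, inv_mul_cancel_left]; exact hv⟩, hm⟩
  let A0 := (A ⊓ centralizer ({x} : Set G)).subgroupOf A
  have hidx : A0.index = 2 ^ n := by
    rw [← P.card_W B.multi a, Subgroup.index_eq_card]
    refine Nat.card_eq_of_bijective (fun c : ↥A ⧸ A0 => Quotient.liftOn' c
      (fun m => (⟨x⁻¹ * ((m : G) * x * (m : G)⁻¹), m.2.2⟩ : ↥(W a))) fun m m' h => ?_) ⟨?_, ?_⟩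
    · rw [QuotientGroup.leftRel_apply] at h
      have hc : Commute ((m : G)⁻¹ * m') x := mem_centralizer_singleton_iff.1 h.2
      refine Subtype.ext (congrArg (x⁻¹ * ·) ?_)
      calc (m : G) * x * (m : G)⁻¹ = (m : G) * (x * ((m : G)⁻¹ * m')) * (m' : G)⁻¹ := by group
        _ = _ := by rw [← hc.eq]; group
    · intro c c' h
      induction c using Quotient.inductionOn' with | h m => ?_
      induction c' using Quotient.inductionOn' with | h m' => ?_
      refine QuotientGroup.eq.2 ⟨(m⁻¹ * m').2, mem_centralizer_singleton_iff.2 ?_⟩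
      have e : (m : G) * x * (m : G)⁻¹ = (m' : G) * x * (m' : G)⁻¹ :=
        mul_left_cancel (congrArg Subtype.val h : x⁻¹ * _ = x⁻¹ * _)
      show (m : G)⁻¹ * m' * x = x * ((m : G)⁻¹ * m')
      calc (m : G)⁻¹ * m' * x = (m : G)⁻¹ * ((m' : G) * x * (m' : G)⁻¹) * m' := by group
        _ = _ := by rw [← e]; group
    · rintro ⟨v, hv⟩
      obtain ⟨m, hm, e⟩ := hAmap v hv
      exact ⟨((⟨m, hm⟩ : ↥A) : ↥A ⧸ A0), Subtype.ext (by
        show x⁻¹ * (m * x * m⁻¹) = v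
        rw [e, inv_mul_cancel_left])⟩
  let S0 := (P.conf.Sa a ⊓ A).subgroupOf A
  haveI : S0.Normal := ⟨fun s hs g => ⟨P.conf.Sa_normal g.2.1 hs.1, (g * s * g⁻¹).2⟩⟩
  have hodd : Odd S0.index := by
    have h1 := P.conf.card_stabilizer_index a
    have hS : P.conf.Sa a ≤ M := fun _ hs => hs.1
    have hd : ((P.conf.Sa a).subgroupOf M).index = Nat.card ↥M / Nat.card ↥(P.conf.Sa a) := by
      rw [← Subgroup.card_mul_index ((P.conf.Sa a).subgroupOf M),
        Nat.card_congr (Subgroup.subgroupOfEquivOfLe hS).toEquiv, Nat.mul_div_cancel_left _ Nat.card_pos]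
    rw [← hd] at h1
    haveI : ((P.conf.Sa a).subgroupOf M).Normal := ⟨fun s hs g => P.conf.Sa_normal g.2 hs⟩
    refine h1.of_dvd_nat ?_
    have hAM : A ≤ M := fun _ hm => hm.1
    have h2 : (((P.conf.Sa a).subgroupOf M).comap (Subgroup.inclusion hAM)).index ∣
        ((P.conf.Sa a).subgroupOf M).index := by
      rw [Subgroup.index_comap]
      exact Subgroup.relIndex_dvd_index_of_normal _ _
    have e : ((P.conf.Sa a).subgroupOf M).comap (Subgroup.inclusion hAM) = S0 := by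
      ext m
      exact ⟨fun h => ⟨h, m.2⟩, fun h => h.1⟩
    rwa [e] at h2
  have htop : S0 ⊔ A0 = ⊤ := by
    rw [← Subgroup.index_eq_one]
    have h1 := Subgroup.index_dvd_of_le (le_sup_left : S0 ≤ S0 ⊔ A0)
    have h2 := Subgroup.index_dvd_of_le (le_sup_right : A0 ≤ S0 ⊔ A0)
    rw [hidx] at h2
    obtain ⟨k, -, hk⟩ := (Nat.dvd_prime_pow Nat.prime_two).1 h2
    have h3 := hodd.of_dvd_nat h1
    rw [hk] at h3 ⊢
    cases k with
    | zero => rfl
    | succ k => exact absurd h3 (by simp [pow_succ])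
  obtain ⟨m, hmA, hm⟩ := hAmap w hw
  obtain ⟨s, hs, c, hc, e⟩ := mem_sup_of_normal_left.1 (htop.ge (mem_top (⟨m, hmA⟩ : ↥A)))
  refine ⟨(s : G), hs.1, ?_⟩
  have hcx : Commute (c : G) x := mem_centralizer_singleton_iff.1 hc.2
  rw [← hm, ← show (s : G) * c = m from congrArg Subtype.val e,
    show (s : G) * c * x * ((s : G) * c)⁻¹ = s * (c * x * (c : G)⁻¹) * (s : G)⁻¹ by group, hcx.eq,
    mul_inv_cancel_right]

/-- The map `s ↦ [x, s]` from `R / C_S(x)` onto `W a`. -/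
theorem card_famS : Nat.card ↥(P.conf.famS a x) = 2 ^ n * Nat.card ↥(P.conf.centS a x) := by
  have C := P.conf
  let f : ↥(P.conf.famS a x) →* ↥(W a) := MonoidHom.mk'
    (fun s => ⟨x⁻¹ * ((s : G) * x * (s : G)⁻¹), s.2.2⟩) fun s t => Subtype.ext (by
      have hc : Commute (s : G) (x⁻¹ * (t * x * (t : G)⁻¹)) :=
        (C.central a _ t.2.2 s s.2.1.1 s.2.1.2).symm
      show x⁻¹ * (s * t * x * ((s : G) * t)⁻¹) = x⁻¹ * (s * x * (s : G)⁻¹) * (x⁻¹ * (t * x * (t : G)⁻¹))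
      rw [show x⁻¹ * (s * t * x * ((s : G) * t)⁻¹) =
        x⁻¹ * (s * x * (s : G)⁻¹) * (s * (x⁻¹ * (t * x * (t : G)⁻¹)) * (s : G)⁻¹) by group, hc.eq,
        mul_inv_cancel_right])
  have hsurj : Function.Surjective f := fun ⟨w, hw⟩ => by
    obtain ⟨s, hs, e⟩ := P.exists_conj_mul B hw
    exact ⟨⟨s, hs, by rw [e, inv_mul_cancel_left]; exact hw⟩, Subtype.ext (by
      show x⁻¹ * (s * x * s⁻¹) = w
      rw [e, inv_mul_cancel_left])⟩
  have hker : f.ker = (P.conf.centS a x).subgroupOf (P.conf.famS a x) := by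
    ext s
    rw [MonoidHom.mem_ker, mem_subgroupOf, P.conf.mem_centS]
    refine ⟨fun h => ⟨s.2.1, ?_⟩, fun h => Subtype.ext ?_⟩
    · have e : x⁻¹ * ((s : G) * x * (s : G)⁻¹) = 1 := congrArg Subtype.val h
      rw [inv_mul_eq_one] at e
      exact (mul_inv_eq_iff_eq_mul.1 e.symm)
    · show x⁻¹ * ((s : G) * x * (s : G)⁻¹) = 1
      rw [h.2.eq, mul_inv_cancel_right, inv_mul_cancel]
  rw [Subgroup.card_eq_card_quotient_mul_card_subgroup f.ker,
    Nat.card_congr (QuotientGroup.quotientKerEquivOfSurjective f hsurj).toEquiv, P.card_W B.multi, hker,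
    Nat.card_congr (Subgroup.subgroupOfEquivOfLe (P.conf.centS_le_famS a x)).toEquiv]

/-- The family is the same for every involution of `Y`. -/
theorem famS_eq {y : G} (hy : y ∈ P.conf.kerS a b) (hy1 : y ≠ 1) :
    P.conf.famS a y = P.conf.famS a x := by
  classical
  have C := P.conf
  obtain ⟨By, hfix, hcent⟩ := P.centS_eq B hy hy1
  refine Subgroup.eq_of_le_of_card_ge (fun s hs => ?_) (le_of_eq ?_)
  swap
  · rw [P.card_famS By, P.card_famS B, hcent]
  obtain ⟨hsS, hsy⟩ := hs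
  set w := y⁻¹ * (s * y * s⁻¹) with hw
  have e : s * y * s⁻¹ = y * w := by rw [hw, mul_inv_cancel_left]
  have Bw : Block a (s • b) (y * w) := by
    refine ⟨P.multi_xw By hsy, ?_, ?_, fun h => B.hne (smul_left_cancel s (h.trans hsS.1.symm))⟩
    · rw [mul_smul, C.fix a w hsy, By.ha]
    · rw [← e]
      exact mem_fixSet_conj.2 (show b ∈ fixSet Ω y from By.hb)
  have hconj : ∀ t ∈ P.conf.kerS a b, s * t * s⁻¹ ∈ P.conf.kerS a (s • b) := fun t ht =>
    ⟨P.conf.Sa_normal hsS.1 ht.1, show (s * t * s⁻¹) • s • b = s • b by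
      rw [mul_smul, mul_smul, inv_smul_smul, ht.2]⟩
  -- projection of the conjugated kernel onto `Y`
  have hproj : ∀ t : ↥(P.conf.kerS a b), ∃ u : ↥(P.conf.kerS a b), ∃ v ∈ W a,
      s * (t : G) * s⁻¹ * v = u := fun t => by
    obtain ⟨v, hv, hvt⟩ := P.ker_xw By hsy Bw (hconj t t.2)
    exact ⟨⟨_, hvt⟩, v, hv, rfl⟩
  choose φ v hv hφ using hproj
  have hinj : Function.Injective φ := by
    intro t t' h
    have h1 : (φ t : G) = φ t' := congrArg Subtype.val h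
    rw [← hφ, ← hφ] at h1
    have hu : s * ((t' : G)⁻¹ * t) * s⁻¹ ∈ W a := by
      rw [show s * ((t' : G)⁻¹ * t) * s⁻¹ = (s * t' * s⁻¹)⁻¹ * (s * t * s⁻¹ * v t) * (v t)⁻¹ by group, h1,
        inv_mul_cancel_left]
      exact mul_mem (hv t') (inv_mem (hv t))
    by_contra hne
    have hu1 : s * ((t' : G)⁻¹ * t) * s⁻¹ ≠ 1 := fun h' => hne (Subtype.ext
      (inv_mul_eq_one.1 (conj_eq_one_iff.1 h')).symm)
    exact Bw.hne (C.uniq a _ hu hu1 _ (hconj _ ((P.conf.kerS a b).mul_mem (inv_mem t'.2) t.2)).2)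
  obtain ⟨t, ht⟩ := (Finite.injective_iff_surjective.1 hinj) ⟨x, P.mem_kerS_self B⟩
  have htx : s * (t : G) * s⁻¹ * v t = x := (hφ t).trans (congrArg Subtype.val ht)
  have hxv : x * v t = s * (t : G) * s⁻¹ := by
    rw [← htx, mul_assoc, C.sq a _ (hv t), mul_one]
  obtain ⟨r, hr, hrx⟩ := P.exists_conj_mul B (hv t)
  have hrf : r ∈ P.conf.famS a x := ⟨hr, by rw [hrx, inv_mul_cancel_left]; exact hv t⟩
  have hsb : x • (r⁻¹ * s) • b = (r⁻¹ * s) • b := by
    have h1 : (x * v t) • s • b = s • b := by rw [hxv]; exact (hconj _ t.2).2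
    have h2 : r • (r⁻¹ * s) • b ∈ fixSet Ω (r * x * r⁻¹) := by
      rw [hrx, smul_smul, mul_inv_cancel_left]; exact h1
    exact mem_fixSet_conj.1 h2
  have hrs : r⁻¹ * s ∈ P.conf.centS a x := P.conf.mem_centS.2 ⟨(P.conf.Sa a).mul_mem (inv_mem hr) hsS,
    P.commute_of_preserve B (P.mem_kerS_self B) B.multi.two
      (fun q hq => (P.conf.mem_centS.1 (P.ker_le_centS B hq)).2) ((P.conf.Sa a).mul_mem (inv_mem hr) hsS)
      hsb⟩
  have := mul_mem hrf (P.conf.centS_le_famS a x hrs)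
  rwa [mul_inv_cancel_left] at this

/-- The centralizer of `x` in `S` is transitive on the other points of the block. -/
theorem card_centS : Nat.card ↥(P.conf.centS a x) = Nat.card ↥(P.conf.kerS a b) * (2 ^ n) ^ i := by
  classical
  let Y0 := (P.conf.kerS a b).subgroupOf (P.conf.centS a x)
  have hle : P.conf.kerS a b ≤ P.conf.centS a x := fun y hy => P.ker_le_centS B hy
  rw [Subgroup.card_eq_card_quotient_mul_card_subgroup Y0, mul_comm,
    Nat.card_congr (Subgroup.subgroupOfEquivOfLe hle).toEquiv]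
  congr 1
  have hS : Nat.card ↥(fixSet Ω x \ {a}) = (2 ^ n) ^ i := by
    rw [Nat.card_coe_set_eq, Set.ncard_sdiff_singleton_of_mem (show a ∈ fixSet Ω x from B.ha),
      ← Nat.card_coe_set_eq, (P.loc x B.multi).card_pts, Nat.add_sub_cancel]
  rw [← hS]
  refine Nat.card_eq_of_bijective (fun c : ↥(P.conf.centS a x) ⧸ Y0 => Quotient.liftOn' c
    (fun s => (⟨(s : G) • b, smul_mem_fixSet (P.conf.mem_centS.1 s.2).2 B.hb,
      fun e => B.hne (smul_left_cancel (s : G) ((Set.mem_singleton_iff.1 e).trans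
        s.2.1.1.symm))⟩ : ↥(fixSet Ω x \ {a}))) fun s t h => ?_) ⟨?_, ?_⟩
  · rw [QuotientGroup.leftRel_apply] at h
    have h2 : ((s : G)⁻¹ * t) • b = b := h.2
    rw [mul_smul, inv_smul_eq_iff] at h2
    exact Subtype.ext h2.symm
  · intro c c' h
    induction c using Quotient.inductionOn' with | h s => ?_
    induction c' using Quotient.inductionOn' with | h t => ?_
    refine QuotientGroup.eq.2 ⟨(P.conf.Sa a).mul_mem (inv_mem s.2.1) t.2.1, ?_⟩
    show ((s : G)⁻¹ * t) • b = b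
    rw [mul_smul, inv_smul_eq_iff]
    exact (congrArg Subtype.val h : (s : G) • b = (t : G) • b).symm
  · rintro ⟨c, hc, hca⟩
    obtain ⟨p, hp, hpa, hp2, hpb⟩ := (P.loc x B.multi).trans_pts a B.ha b B.hb c hc B.hne hca
    exact ⟨((⟨p, P.conf.mem_centS.2 ⟨⟨hpa, hp2⟩, mem_centralizer_singleton_iff.1 hp⟩⟩ :
      ↥(P.conf.centS a x)) : ↥(P.conf.centS a x) ⧸ Y0), Subtype.ext hpb⟩

/-- The torus of a block. -/
theorem exists_torus : ∃ d : G, Odd (orderOf d) ∧ d • a = a ∧ d • b = b ∧ orderOf d = 2 ^ n - 1 ∧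
    (∀ y ∈ P.conf.kerS a b, Commute d y) ∧
    (∀ u ∈ W a, u ≠ 1 → ∀ v ∈ W a, v ≠ 1 → ∃ j : ℕ, d ^ j * u * (d ^ j)⁻¹ = v) ∧
    (∀ j : ℕ, ∀ u ∈ W a, u ≠ 1 → Commute (d ^ j) u → d ^ j = 1) := by
  classical
  have C := P.conf
  obtain ⟨d, hd, hdo, hda, hdb, hdt, -⟩ := (P.loc x B.multi).torus a B.ha b B.hb B.hne.symm
  have hdy : ∀ y ∈ P.conf.kerS a b, Commute d y := fun y hy => by
    have hle : genOn W (fixSet Ω x) ≤ centralizer ({y} : Set G) := iSup₂_le fun f hf v hv =>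
      mem_centralizer_singleton_iff.2 (C.central f v hv y (P.ker_fix B hy hf) hy.1.2).eq
    exact mem_centralizer_singleton_iff.1 (hle hd)
  have hconjW : ∀ (j : ℕ), ∀ v ∈ W a, d ^ j * v * (d ^ j)⁻¹ ∈ W a := fun j v hv => by
    have := C.conj (d ^ j) a v hv
    rwa [show d ^ j • a = a from mem_stabilizer_iff.1 (pow_mem (mem_stabilizer_iff.2 hda) j)] at this
  have hfpf : ∀ j : ℕ, ∀ u ∈ W a, u ≠ 1 → Commute (d ^ j) u → d ^ j = 1 := by
    intro j u hu hu1 hc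
    refine P.toEnv.eq_one_of_commute B.multi B.ha (hdo.of_dvd_nat (orderOf_pow_dvd j))
      ((hdy x (P.mem_kerS_self B)).pow_left j) fun v hv => ?_
    by_cases hv1 : v = 1
    · rw [hv1]; exact Commute.one_right _
    obtain ⟨l, hl⟩ := hdt u hu hu1 v hv hv1
    rw [← hl]
    have hcd : Commute (d ^ j) (d ^ l) := Commute.pow_pow_self d j l
    exact (hcd.mul_right hc).mul_right hcd.inv_right
  refine ⟨d, hdo, hda, hdb, ?_, hdy, hdt, hfpf⟩
  obtain ⟨u, hu, hu1⟩ := C.exists_W a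
  have hcard : Nat.card ↥(((W a : Subgroup G) : Set G) \ {1}) = 2 ^ n - 1 := by
    rw [Nat.card_coe_set_eq, Set.ncard_sdiff_singleton_of_mem (one_mem (W a)), ← Nat.card_coe_set_eq]
    change Nat.card ↥(W a) - 1 = _
    rw [P.card_W B.multi]
  rw [← hcard, ← Nat.card_fin (orderOf d)]
  refine Nat.card_eq_of_bijective (fun j : Fin (orderOf d) =>
    (⟨d ^ (j : ℕ) * u * (d ^ (j : ℕ))⁻¹, hconjW j u hu, fun e => hu1 (conj_eq_one_iff.1
      (Set.mem_singleton_iff.1 e))⟩ : ↥(((W a : Subgroup G) : Set G) \ {1}))) ⟨?_, ?_⟩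
  · intro j k h
    have e : d ^ (j : ℕ) * u * (d ^ (j : ℕ))⁻¹ = d ^ (k : ℕ) * u * (d ^ (k : ℕ))⁻¹ := congrArg Subtype.val h
    have key : ∀ p q : ℕ, p ≤ q → q < orderOf d → d ^ p * u * (d ^ p)⁻¹ = d ^ q * u * (d ^ q)⁻¹ → p = q := by
      intro p q hpq hq e
      obtain ⟨r, rfl⟩ := Nat.exists_eq_add_of_le hpq
      rw [pow_add, show d ^ p * d ^ r * u * (d ^ p * d ^ r)⁻¹ = d ^ p * (d ^ r * u * (d ^ r)⁻¹) * (d ^ p)⁻¹ by
        group, mul_left_inj, mul_right_inj, eq_comm, mul_inv_eq_iff_eq_mul] at e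
      have h0 := hfpf r u hu hu1 e
      rw [← orderOf_dvd_iff_pow_eq_one] at h0
      rcases Nat.eq_zero_or_pos r with h' | h'
      · omega
      · have := Nat.le_of_dvd h' h0; omega
    rcases le_total (j : ℕ) (k : ℕ) with hle | hle
    · exact Fin.ext (key _ _ hle k.2 e)
    · exact (Fin.ext (key _ _ hle j.2 e.symm)).symm
  · rintro ⟨v, hv, hv1⟩
    obtain ⟨l, hl⟩ := hdt u hu hu1 v hv hv1
    exact ⟨⟨l % orderOf d, Nat.mod_lt _ (orderOf_pos d)⟩, Subtype.ext (by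
      show d ^ (l % orderOf d) * u * (d ^ (l % orderOf d))⁻¹ = v
      rwa [pow_mod_orderOf])⟩

end Par

end Cfsg.Agent.DClassConf
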