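import Cfsg.Agent.Lib.DClassConf.Basic

/-!
# The number of points

If the centralizer of a moving involution `x` with `m ≥ 2` fixed points is transitive, at each of them,
on the nonidentity elements of `W`, then there are `m + m (q - 1) (m - 1)` points; so `m` is the same
for all such involutions.
-/

set_option autoImplicit false
set_option linter.style.haveILetI false
set_option linter.unusedSectionVars false

namespace Cfsg.Agent.DClassConf

open MulAction Subgroup
open Cfsg.Agent.Involutions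

universe u v

variable {G : Type u} [Group G] {Ω : Type v} [MulAction G Ω] {W : Ω → Subgroup G}

/-- An involution moving a point and fixing two. -/
structure Multi (Ω : Type v) {G : Type u} [Group G] [MulAction G Ω] (x : G) : Prop where
  two : orderOf x = 2
  fix_two : ∃ a b : Ω, a ≠ b ∧ x • a = a ∧ x • b = b
  moves : ∃ b : Ω, x • b ≠ b

/-- The centralizer of `x` is transitive on the nonidentity elements of `W a` at each fixed point. -/
def TransAt (W : Ω → Subgroup G) (x : G) : Prop :=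
  ∀ a : Ω, x • a = a → ∀ u ∈ W a, u ≠ 1 → ∀ v ∈ W a, v ≠ 1 →
    ∃ g : G, g * x * g⁻¹ = x ∧ g • a = a ∧ g * u * g⁻¹ = v

/-- The number of fixed points. -/
noncomputable def nfix (Ω : Type v) {G : Type u} [Group G] [MulAction G Ω] (x : G) : ℕ :=
  Nat.card {b : Ω // x • b = b}

theorem nfix_conj (g x : G) : nfix Ω (g * x * g⁻¹) = nfix Ω x := by
  refine (Nat.card_congr ((MulAction.toPerm g).subtypeEquiv fun b => ?_)).symm
  simp [smul_smul, mul_assoc]
  constructor
  · intro h; rw [mul_smul, h]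
  · intro h; rwa [mul_smul, smul_left_cancel_iff] at h

namespace Conf

variable (C : Conf W)
include C

theorem not_mem_of_multi {x : G} (hx : Multi Ω x) (a : Ω) : x ∉ W a := fun h => by
  obtain ⟨p, q, hpq, hp, hq⟩ := hx.fix_two
  exact hpq ((C.uniq a x h (Basic.ne_one hx.two) p hp).trans (C.uniq a x h (Basic.ne_one hx.two) q hq).symm)

theorem commute_W {x : G} (hx : orderOf x = 2) {a : Ω} (ha : x • a = a) {v : G} (hv : v ∈ W a) :
    Commute x v := (C.central a v hv x ha (SETwoClosed.twoEl_of_sq (Basic.inv_sq_one hx))).symm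

theorem two_mul_W {x : G} (hx : orderOf x = 2) {a : Ω} (ha : x • a = a) {v : G} (hv : v ∈ W a)
    (hxv : x * v ≠ 1) : orderOf (x * v) = 2 :=
  Basic.orderOf_two_iff.2 ⟨by rw [(C.commute_W hx ha hv).symm.mul_mul_mul_comm, Basic.inv_sq_one hx,
    C.sq a v hv, one_mul], hxv⟩

theorem card_W [Finite G] (a b : Ω) : Nat.card ↥(W a) = Nat.card ↥(W b) := by
  obtain ⟨g, hg⟩ := @MulAction.exists_smul_eq G Ω _ C.isPretransitive a b
  rw [← hg, C.W_smul, Subgroup.card_map_of_injective (MulAut.conj g).injective]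

variable [Finite G] [Finite Ω]

/-- Two fixed points are connected inside the centralizer. -/
theorem exists_centralizing {x : G} (hx : orderOf x = 2) {a b : Ω} (ha : x • a = a) (hb : x • b = b) :
    ∃ g : G, g * x * g⁻¹ = x ∧ g • a = b := by
  by_cases hab : a = b
  · exact ⟨1, by simp, by rw [one_smul, hab]⟩
  obtain ⟨z, hz, hz1⟩ := C.exists_W a
  obtain ⟨y, hy, hy1⟩ := C.exists_W b
  obtain ⟨g, hg, -, hgab⟩ := C.exists_conj hz hz1 hy hy1 hab
  refine ⟨g, ?_, hgab⟩
  have hc : g ∈ centralizer ({x} : Set G) := by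
    refine zpowers_le.2 (mul_mem ?_ ?_) hg
    · exact mem_centralizer_singleton_iff.2 (C.commute_W hx ha hz).symm.eq
    · exact mem_centralizer_singleton_iff.2 (C.commute_W hx hb hy).symm.eq
  rw [mem_centralizer_singleton_iff.1 hc, mul_inv_cancel_right]

/-- All products `x v` have the same number of fixed points. -/
theorem nfix_mul_eq {x : G} (hx : orderOf x = 2) (hT : TransAt W x) {a b : Ω} (ha : x • a = a)
    (hb : x • b = b) {v u : G} (hv : v ∈ W a) (hv1 : v ≠ 1) (hu : u ∈ W b) (hu1 : u ≠ 1) :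
    nfix Ω (x * v) = nfix Ω (x * u) := by
  obtain ⟨g, hgx, hgb⟩ := C.exists_centralizing hx ha hb
  have hv' := hgb ▸ C.conj g a v hv
  obtain ⟨k, hkx, -, hkv⟩ := hT b hb _ hv' (fun e => hv1 (conj_eq_one_iff.1 e)) u hu hu1
  rw [← hkv, ← nfix_conj (Ω := Ω) (k * g) (x * v)]
  congr 1
  conv_rhs => rw [← hkx, ← hgx]
  group

/-- Every point outside the fixed points of `x` belongs to exactly one product `x v`. -/
theorem card_moved {x : G} (hx : Multi Ω x) :
    Nat.card {b : Ω // x • b ≠ b} = Nat.card (Σ p : {p : Ω × G // x • p.1 = p.1 ∧ p.2 ∈ W p.1 ∧ p.2 ≠ 1},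
      {b : Ω // (x * p.1.2) • b = b ∧ b ≠ p.1.1}) := by
  refine (Nat.card_eq_of_bijective (α := Σ p : {p : Ω × G // x • p.1 = p.1 ∧ p.2 ∈ W p.1 ∧ p.2 ≠ 1},
      {b : Ω // (x * p.1.2) • b = b ∧ b ≠ p.1.1}) (β := {b : Ω // x • b ≠ b})
    (fun s => ⟨s.2.1, fun h => ?_⟩) ⟨?_, ?_⟩).symm
  · obtain ⟨⟨⟨f, v⟩, hf, hv, hv1⟩, b, hb, hbf⟩ := s
    exact hbf (C.uniq f v hv hv1 b (by
      have h1 : v • b = x • x • v • b := by
        rw [smul_smul x x, Basic.inv_sq_one hx.two, one_smul]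
      rw [h1, ← mul_smul x v b, hb, h]))
  · intro ⟨⟨⟨f, v⟩, hf, hv, hv1⟩, b, hb, hbf⟩ ⟨⟨⟨f', v'⟩, hf', hv', hv1'⟩, b', hb', hbf'⟩ he
    have e : b = b' := congrArg Subtype.val he
    subst e
    have hxb : x • b ≠ b := fun h => hbf (C.uniq f v hv hv1 b (by
      have h1 : v • b = x • x • v • b := by
        rw [smul_smul x x, Basic.inv_sq_one hx.two, one_smul]
      rw [h1, ← mul_smul x v b, hb, h]))
    obtain rfl := C.middle_unique hx.two hxb hf hv hf' hv' hb hb'
    obtain rfl := C.point_eq hv hv' hv1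
    rfl
  · rintro ⟨b, hb⟩
    obtain ⟨f, v, hf, hv, hv1, hvb⟩ := C.exists_middle hx.two (C.not_mem_of_multi hx) hb
    exact ⟨⟨⟨⟨f, v⟩, hf, hv, hv1⟩, ⟨b, hvb, fun e => hb (e ▸ hf)⟩⟩, rfl⟩

/-- The number of moved points. -/
theorem card_moved_eq {x : G} (hx : Multi Ω x) (hT : TransAt W x) {a : Ω} (ha : x • a = a) {v : G}
    (hv : v ∈ W a) (hv1 : v ≠ 1) :
    Nat.card {b : Ω // x • b ≠ b} =
      nfix Ω x * (Nat.card ↥(W a) - 1) * (nfix Ω (x * v) - 1) := by
  classical
  haveI := Fintype.ofFinite Ω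
  haveI := Fintype.ofFinite G
  rw [C.card_moved hx, Nat.card_sigma]
  have hterm : ∀ p : {p : Ω × G // x • p.1 = p.1 ∧ p.2 ∈ W p.1 ∧ p.2 ≠ 1},
      Nat.card {b : Ω // (x * p.1.2) • b = b ∧ b ≠ p.1.1} = nfix Ω (x * v) - 1 := by
    rintro ⟨⟨f, w⟩, hf, hw, hw1⟩
    rw [C.nfix_mul_eq hx.two hT ha hf hv hv1 hw hw1, nfix, Nat.card_eq_fintype_card,
      Nat.card_eq_fintype_card, Fintype.card_subtype, Fintype.card_subtype, ← Finset.filter_filter,
      Finset.filter_ne', Finset.card_erase_of_mem]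
    simp only [Finset.mem_filter, Finset.mem_univ, true_and]
    rw [mul_smul, C.fix f w hw, hf]
  rw [Finset.sum_congr rfl fun p _ => hterm p, Finset.sum_const, Finset.card_univ, smul_eq_mul,
    ← Nat.card_eq_fintype_card]
  congr 1
  let e : {p : Ω × G // x • p.1 = p.1 ∧ p.2 ∈ W p.1 ∧ p.2 ≠ 1} ≃
      Σ f : {f : Ω // x • f = f}, {w : G // w ∈ W f.1 ∧ w ≠ 1} :=
    { toFun := fun p => ⟨⟨p.1.1, p.2.1⟩, ⟨p.1.2, p.2.2⟩⟩
      invFun := fun s => ⟨(s.1.1, s.2.1), s.1.2, s.2.2⟩
      left_inv := fun _ => rfl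
      right_inv := fun _ => rfl }
  have hW : ∀ f : Ω, Nat.card {w : G // w ∈ W f ∧ w ≠ 1} = Nat.card ↥(W a) - 1 := by
    intro f
    rw [C.card_W a f, Nat.card_eq_fintype_card, Nat.card_eq_fintype_card, Fintype.card_subtype,
      ← Finset.filter_filter, Finset.filter_ne', Finset.card_erase_of_mem (by simp),
      ← Fintype.card_subtype]
  rw [Nat.card_congr e, Nat.card_sigma, Finset.sum_congr rfl fun f _ => hW f.1, Finset.sum_const,
    Finset.card_univ, smul_eq_mul, ← Nat.card_eq_fintype_card, nfix]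

theorem card_split (x : G) : Nat.card Ω = nfix Ω x + Nat.card {b : Ω // x • b ≠ b} := by
  classical
  rw [nfix, ← Nat.card_sum]
  exact Nat.card_congr (Equiv.sumCompl _).symm

/-- The products `x v` are again such involutions, with as many fixed points. -/
theorem nfix_mul {x : G} (hx : Multi Ω x) (hT : ∀ y : G, Multi Ω y → TransAt W y) {a : Ω}
    (ha : x • a = a) {v : G} (hv : v ∈ W a) (hv1 : v ≠ 1) :
    Multi Ω (x * v) ∧ nfix Ω (x * v) = nfix Ω x := by
  classical
  have hcm := C.card_moved_eq hx (hT x hx) ha hv hv1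
  have hpos : 0 < Nat.card {b : Ω // x • b ≠ b} := by
    obtain ⟨b, hb⟩ := hx.moves
    haveI : Nonempty {b : Ω // x • b ≠ b} := ⟨⟨b, hb⟩⟩
    exact Nat.card_pos
  have h2 : 2 ≤ nfix Ω (x * v) := by
    by_contra! h
    rw [show nfix Ω (x * v) - 1 = 0 by omega, mul_zero] at hcm
    omega
  have hxva : (x * v) • a = a := by rw [mul_smul, C.fix a v hv, ha]
  have hne : x * v ≠ 1 := fun e => C.not_mem_of_multi hx a (by
    rw [mul_eq_one_iff_eq_inv.1 e]; exact inv_mem hv)
  obtain ⟨b, hb, hba⟩ : ∃ b, (x * v) • b = b ∧ b ≠ a := by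
    by_contra! h
    haveI : Subsingleton {b : Ω // (x * v) • b = b} :=
      ⟨fun p q => Subtype.ext ((h p.1 p.2).trans (h q.1 q.2).symm)⟩
    have := Finite.card_le_one_iff_subsingleton.2 this
    rw [nfix] at h2
    omega
  have hxv : Multi Ω (x * v) := by
    refine ⟨C.two_mul_W hx.two ha hv hne, ⟨a, b, hba.symm, hxva, hb⟩, ?_⟩
    obtain ⟨p, q, hpq, hp, hq⟩ := hx.fix_two
    by_contra! h
    refine hpq ?_
    have key : ∀ c : Ω, x • c = c → c = a := fun c hc => C.uniq a v hv hv1 c (by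
      have h1 : v • c = x • x • v • c := by
        rw [smul_smul x x, Basic.inv_sq_one hx.two, one_smul]
      rw [h1, ← mul_smul x v c, h c, hc])
    exact (key p hp).trans (key q hq).symm
  refine ⟨hxv, ?_⟩
  obtain ⟨u, hu, hu1, huv⟩ : ∃ u ∈ W a, u ≠ 1 ∧ u ≠ v := by
    by_contra! h
    have hsub : ((W a : Subgroup G) : Set G) ⊆ {1, v} := fun u hu => by
      by_cases h1 : u = 1
      · exact Or.inl h1
      · exact Or.inr (h u hu h1)
    have h3 := Set.ncard_le_ncard hsub
    rw [← Nat.card_coe_set_eq] at h3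
    have := C.four a
    have := (h3.trans (Set.ncard_insert_le _ _)).trans_eq (by rw [Set.ncard_singleton])
    change 4 ≤ Nat.card ((W a : Subgroup G) : Set G) at *
    omega
  have hvv := C.sq a v hv
  have hvu : v * u ≠ 1 := fun e => huv (by
    rw [← inv_eq_of_mul_eq_one_right e, inv_eq_of_mul_eq_one_left hvv])
  have e1 := C.nfix_mul_eq hxv.two (hT _ hxv) hxva hxva hv hv1 hu hu1
  rw [mul_assoc, hvv, mul_one, mul_assoc] at e1
  rw [e1, C.nfix_mul_eq hx.two (hT x hx) ha ha (mul_mem hv hu) hvu hv hv1]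

/-- The number of points. -/
theorem card_points {x : G} (hx : Multi Ω x) (hT : ∀ y : G, Multi Ω y → TransAt W y) {a : Ω}
    (ha : x • a = a) :
    Nat.card Ω = nfix Ω x + nfix Ω x * (Nat.card ↥(W a) - 1) * (nfix Ω x - 1) := by
  obtain ⟨v, hv, hv1⟩ := C.exists_W a
  rw [C.card_split x, C.card_moved_eq hx (hT x hx) ha hv hv1, (C.nfix_mul hx hT ha hv hv1).2]

/-- All such involutions fix equally many points. -/
theorem nfix_eq {x y : G} (hx : Multi Ω x) (hy : Multi Ω y) (hT : ∀ y : G, Multi Ω y → TransAt W y) :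
    nfix Ω x = nfix Ω y := by
  obtain ⟨a, -, -, ha, -⟩ := hx.fix_two
  obtain ⟨b, -, -, hb, -⟩ := hy.fix_two
  have h1 := C.card_points hx hT ha
  rw [C.card_points hy hT hb, C.card_W b a] at h1
  have h4 := C.four a
  rcases lt_trichotomy (nfix Ω x) (nfix Ω y) with h | h | h
  · have : nfix Ω x * (Nat.card ↥(W a) - 1) * (nfix Ω x - 1) ≤
        nfix Ω y * (Nat.card ↥(W a) - 1) * (nfix Ω y - 1) :=
      Nat.mul_le_mul (Nat.mul_le_mul_right _ h.le) (by omega)
    omega
  · exact h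
  · have : nfix Ω y * (Nat.card ↥(W a) - 1) * (nfix Ω y - 1) ≤
        nfix Ω x * (Nat.card ↥(W a) - 1) * (nfix Ω x - 1) :=
      Nat.mul_le_mul (Nat.mul_le_mul_right _ h.le) (by omega)
    omega

end Conf

end Cfsg.Agent.DClassConf
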