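import Cfsg.Agent.Lib.DClassConf.Sylows

/-!
# A moving involution is conjugate to its products with the involutions of a fixed point

In the dihedral group of a moving involution `x` and an involution `y` of `W b`, `b` not fixed, the
product of `y` with the middle involution is conjugate to `x`; and the middle does not depend on `y`.
-/

set_option autoImplicit false
set_option linter.style.haveILetI false
set_option linter.unusedSectionVars false

namespace Cfsg.Agent.DClassConf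

open MulAction Subgroup
open Cfsg.Agent.Involutions

universe u v

variable {G : Type u} [Group G] {Ω : Type v} [MulAction G Ω] {W : Ω → Subgroup G}

theorem Multi.conj {x : G} (hx : Multi Ω x) (g : G) : Multi Ω (g * x * g⁻¹) := by
  obtain ⟨a, b, hab, ha, hb⟩ := hx.fix_two
  obtain ⟨c, hc⟩ := hx.moves
  refine ⟨by rw [Basic.orderOf_conj, hx.two], ⟨g • a, g • b, fun e => hab (smul_left_cancel g e), ?_, ?_⟩,
    ⟨g • c, ?_⟩⟩
  · rw [mul_smul, inv_smul_smul, mul_smul, ha]
  · rw [mul_smul, inv_smul_smul, mul_smul, hb]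
  · rw [mul_smul, inv_smul_smul, mul_smul]
    exact fun e => hc (smul_left_cancel g e)

theorem Multi.of_isConj {x y : G} (hx : Multi Ω x) (h : IsConj x y) : Multi Ω y := by
  obtain ⟨g, rfl⟩ := isConj_iff.1 h
  exact hx.conj g

namespace Conf

variable (C : Conf W) [Finite G]
include C

/-- The middle of `x` and `y ∈ W b`, with the conjugacy it carries. -/
theorem exists_middle_conj {x : G} (hx : orderOf x = 2) (hnW : ∀ a, x ∉ W a) {b : Ω} (hxb : x • b ≠ b)
    {y : G} (hy : y ∈ W b) (hy1 : y ≠ 1) :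
    ∃ (f : Ω) (v : G), x • f = f ∧ v ∈ W f ∧ v ≠ 1 ∧ (x * v) • b = b ∧ IsConj x (y * (x * v)) := by
  have hy2 := C.orderOf_W hy hy1
  have heven : Even (orderOf (x * y)) := Basic.even_orderOf_mul_of_not_isConj hx hy2 fun h => by
    obtain ⟨d, hd⟩ := isConj_iff.1 h.symm
    exact hnW (d • b) (hd ▸ C.conj d b y hy)
  obtain ⟨hw, hwx, hwy⟩ := Basic.middle_involution hx hy2 heven
  set w := (x * y) ^ (orderOf (x * y) / 2)
  have hwb : w • b = b := C.smul_of_commute hy hy1 hwy
  rcases mul_middle_conj hx hy2 heven with ⟨-, d, hd⟩ | ⟨⟨d, hd⟩, e, he⟩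
  · exfalso
    have hmem : y * w ∈ W (d • b) := hd ▸ C.conj d b y hy
    have h1 : y * w ≠ 1 := hd ▸ fun e => hy1 (conj_eq_one_iff.1 e)
    have hdb : d • b = b :=
      C.uniq b y hy hy1 _ (C.smul_of_commute hmem h1 ((Commute.refl y).mul_right hwy.symm))
    rw [hdb] at hmem
    have hwW : w ∈ W b := by
      have := mul_mem (inv_mem hy) hmem
      rwa [inv_mul_cancel_left] at this
    exact hxb (C.smul_of_commute hwW (Basic.ne_one hw) hwx.symm)
  · have hmem : x * w ∈ W (d • b) := hd ▸ C.conj d b y hy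
    have h1 : x * w ≠ 1 := hd ▸ fun e => hy1 (conj_eq_one_iff.1 e)
    have hxw : x * (x * w) = w := by rw [← mul_assoc, Basic.inv_sq_one hx, one_mul]
    refine ⟨d • b, x * w, C.smul_of_commute hmem h1 ((Commute.refl x).mul_right hwx.symm), hmem, h1,
      by rw [hxw]; exact hwb, ?_⟩
    rw [hxw]
    exact isConj_iff.2 ⟨e, he⟩

variable [Finite Ω]

theorem isConj_mul_pair {x : G} (hx : orderOf x = 2) (hnW : ∀ a, x ∉ W a) {b : Ω} (hxb : x • b ≠ b) :
    ∃ (f : Ω) (v : G), x • f = f ∧ v ∈ W f ∧ v ≠ 1 ∧ (x * v) • b = b ∧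
      ∀ u ∈ W f, u ≠ 1 → IsConj x (x * v * u) := by
  obtain ⟨y0, hy0, hy01⟩ := C.exists_W b
  obtain ⟨f, v, hf, hv, hv1, hb, -⟩ := C.exists_middle_conj hx hnW hxb hy0 hy01
  refine ⟨f, v, hf, hv, hv1, hb, fun u hu hu1 => ?_⟩
  have hne : x * v ≠ 1 := fun e => hnW f (by rw [mul_eq_one_iff_eq_inv.1 e]; exact inv_mem hv)
  have ht := C.two_mul_W hx hf hv hne
  have htf : (x * v) • f = f := by rw [mul_smul, C.fix f v hv, hf]
  obtain ⟨g, hgt, hgb⟩ := C.exists_centralizing ht htf hb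
  have hy := hgb ▸ C.conj g f u hu
  have hy1 : g * u * g⁻¹ ≠ 1 := fun e => hu1 (conj_eq_one_iff.1 e)
  obtain ⟨f', v', hf', hv', -, hb', hc⟩ := C.exists_middle_conj hx hnW hxb hy hy1
  obtain rfl := C.middle_unique hx hxb hf hv hf' hv' hb hb'
  refine hc.trans (isConj_iff.2 ⟨g, ?_⟩).symm
  rw [(C.commute_W ht hb hy).symm.eq]
  conv_rhs => rw [← hgt]
  group

/-- A moving involution is conjugate to its products with the involutions of each fixed point. -/
theorem isConj_mul_W {x : G} (hx : Multi Ω x) (hT : TransAt W x) {a : Ω} (ha : x • a = a) {w : G}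
    (hw : w ∈ W a) : IsConj x (x * w) := by
  by_cases hw1 : w = 1
  · rw [hw1, mul_one]
  obtain ⟨b, hb⟩ := hx.moves
  obtain ⟨f, v, hf, hv, hv1, -, hc⟩ := C.isConj_mul_pair hx.two (C.not_mem_of_multi hx) hb
  obtain ⟨u, hu, hu1, huv⟩ : ∃ u ∈ W f, u ≠ 1 ∧ u ≠ v := by
    by_contra! h
    have hsub : ((W f : Subgroup G) : Set G) ⊆ {1, v} := fun u hu => by
      by_cases h1 : u = 1
      · exact Or.inl h1
      · exact Or.inr (h u hu h1)
    have h3 := Set.ncard_le_ncard hsub
    rw [← Nat.card_coe_set_eq] at h3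
    have := C.four f
    have := (h3.trans (Set.ncard_insert_le _ _)).trans_eq (by rw [Set.ncard_singleton])
    change 4 ≤ Nat.card ((W f : Subgroup G) : Set G) at *
    omega
  have hvu : v * u ≠ 1 := fun e => huv (by
    rw [← inv_eq_of_mul_eq_one_right e, inv_eq_of_mul_eq_one_left (C.sq f v hv)])
  have h1 := hc u hu hu1
  rw [mul_assoc] at h1
  obtain ⟨g, hgx, hgf⟩ := C.exists_centralizing hx.two hf ha
  have hmem := hgf ▸ C.conj g f _ (mul_mem hv hu)
  obtain ⟨k, hkx, -, hk⟩ := hT a ha _ hmem (fun e => hvu (conj_eq_one_iff.1 e)) w hw hw1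
  refine h1.trans (isConj_iff.2 ⟨k * g, ?_⟩)
  rw [← hk]
  conv_rhs => rw [← hkx, ← hgx]
  group

/-- An involution fixing only one point lies in its `W`. -/
theorem mem_W_of_not_multi [FaithfulSMul G Ω] (hT : ∀ y : G, Multi Ω y → TransAt W y) {x : G}
    (hx : orderOf x = 2) (hn : ¬ Multi Ω x) : ∃ a, x ∈ W a := by
  by_contra! hnW
  obtain ⟨b, hb⟩ : ∃ b : Ω, x • b ≠ b := by
    by_contra! h
    exact Basic.ne_one hx (C.eq_one_of_fix_all h)
  obtain ⟨f, v, hf, hv, hv1, hxb, -⟩ := C.isConj_mul_pair hx hnW hb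
  have hne : x * v ≠ 1 := fun e => hnW f (by rw [mul_eq_one_iff_eq_inv.1 e]; exact inv_mem hv)
  have hfb : f ≠ b := fun e => hb (e ▸ hf)
  have htf : (x * v) • f = f := by rw [mul_smul, C.fix f v hv, hf]
  have ht : Multi Ω (x * v) := by
    refine ⟨C.two_mul_W hx hf hv hne, ⟨f, b, hfb, htf, hxb⟩, ?_⟩
    by_contra! h
    exact hne (C.eq_one_of_fix_all h)
  have hc := C.isConj_mul_W ht (hT _ ht) htf hv
  rw [mul_assoc, C.sq f v hv, mul_one] at hc
  exact hn (ht.of_isConj hc)

end Conf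

end Cfsg.Agent.DClassConf
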