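import Cfsg.Agent.Lib.DClassConf.Socle
import Cfsg.Agent.Lib.DClassConf.Middle
import Cfsg.Agent.Lib.Cores.Nilpotent

/-!
# Smaller configurations

In a faithful configuration whose simple socle has no multi-point involution, the socle is one of the
three families and no nontrivial 2-element of the whole group fixes two points: such an element would
centralise the torus and the centre of a Sylow subgroup of the socle.
-/

set_option autoImplicit false
set_option linter.style.haveILetI false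
set_option linter.unusedSectionVars false

namespace Cfsg.Agent.DClassConf

open MulAction Subgroup
open Cfsg.Agent.Involutions
open Cfsg.Agent.SETwoClosed (TwoEl twoEl_of_sq)
open Cfsg.Agent.CyclicSylowInter (KindTI TIData TITheorem KindFacts TISylow)

universe u

/-- The induction predicate. -/
def NoMultiBelow (N : ℕ) : Prop :=
  ∀ (G : Type u) [Group G] [Finite G] [IsSimpleGroup G] (Ω : Type u) [Finite Ω] [MulAction G Ω]
    (W : Ω → Subgroup G), Conf W → Nat.card G < N → ∀ x : G, ¬ Multi Ω x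

variable {G : Type u} [Group G] {Ω : Type u} [MulAction G Ω] {W : Ω → Subgroup G}

/-- What is known about a smaller configuration. -/
structure Data (W : Ω → Subgroup G) (n i : ℕ) : Prop where
  two_le : 2 ≤ n
  i_mem : i = 1 ∨ i = 2 ∨ i = 3
  odd_n : i = 2 → Odd n
  card_W : ∀ a : Ω, Nat.card ↥(W a) = 2 ^ n
  card_pts : Nat.card Ω = (2 ^ n) ^ i + 1
  card_fix : ∀ a : Ω, Nat.card {g : G // g • a = a ∧ TwoEl g} = (2 ^ n) ^ i
  eq_one : ∀ (h : G) (a b : Ω), a ≠ b → h • a = a → h • b = b → TwoEl h → h = 1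
  trans_pts : ∀ a b c : Ω, b ≠ a → c ≠ a → ∃ p : G, p • a = a ∧ TwoEl p ∧ p • b = c
  inv_W : ∀ (a : Ω) (p : G), p • a = a → p * p = 1 → p ∈ W a
  sq_W : ∀ (a : Ω) (p : G), p • a = a → TwoEl p → p * p ∈ W a
  center_sq : ∀ (a : Ω) (p : G), p • a = a → TwoEl p →
    (∀ r : G, r • a = a → TwoEl r → Commute p r) → p * p = 1
  torus : ∀ a b : Ω, a ≠ b → ∃ d ∈ socle W, Odd (orderOf d) ∧ d • a = a ∧ d • b = b ∧
    (∀ u ∈ W a, u ≠ 1 → ∀ v ∈ W a, v ≠ 1 → ∃ j : ℕ, d ^ j * u * (d ^ j)⁻¹ = v) ∧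
    (i = 3 → ∃ j : ℕ, d ^ j ≠ 1 ∧ ∀ w ∈ W a, Commute (d ^ j) w)

theorem Conf.faithful [IsSimpleGroup G] [Nonempty Ω] (C : Conf W) : FaithfulSMul G Ω := by
  obtain ⟨a⟩ := ‹Nonempty Ω›
  obtain ⟨z, hz, hz1⟩ := C.exists_W a
  have hK : (MulAction.toPermHom G Ω).ker = ⊥ := by
    refine (IsSimpleGroup.eq_bot_or_eq_top_of_normal _ (MonoidHom.normal_ker _)).resolve_right fun h => ?_
    obtain ⟨b, hb⟩ := C.exists_ne a
    exact hb (C.uniq a z hz hz1 b (Equiv.congr_fun (MonoidHom.mem_ker.1 (h.ge (mem_top z))) b))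
  refine ⟨fun {g h} e => ?_⟩
  exact (MonoidHom.ker_eq_bot_iff _).1 hK (Equiv.ext e)

/-- A power of a 2-element is an involution. -/
theorem exists_involution_pow [Finite G] {g : G} (h2 : TwoEl g) (h1 : g ≠ 1) :
    ∃ k : ℕ, orderOf (g ^ k) = 2 := SETwoClosed.involution_of_twoEl h2 h1

namespace Conf

variable (C : Conf W) [Finite G] [Finite Ω] [FaithfulSMul G Ω] [Nonempty Ω]
include C

/-- If a 2-element fixing `a` commutes with the torus and the centre of a Suzuki-like Sylow subgroup,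
it centralises that subgroup. -/
theorem commute_two {n i : ℕ} (hi : i = 2)
    (hq1 : ∀ a : Ω, Nat.card ↥(W a) = 2 ^ n)
    (hP : ∀ a : Ω, Nat.card {g : G // g ∈ socle W ∧ g • a = a ∧ TwoEl g} = (2 ^ n) ^ i)
    (hcs : ∀ (a : Ω) (x : ↥(socle W)), x ∈ {g : ↥(socle W) | g • a = a ∧ TwoEl g} →
      (∀ s ∈ {g : ↥(socle W) | g • a = a ∧ TwoEl g}, Commute x s) → x * x = 1)
    (hinvL : ∀ (a : Ω) (p : G), p ∈ socle W → p • a = a → p * p = 1 → p ∈ W a)
    (hsqL : ∀ (a : Ω) (y : G), y ∈ socle W → y • a = a → TwoEl y → y * y ∈ W a)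
    (hcommL : ∀ (a : Ω) (x y : G), x ∈ socle W → x • a = a → TwoEl x → y ∈ socle W → y • a = a → TwoEl y →
      x * y * x⁻¹ * y⁻¹ ∈ W a)
    {a : Ω} {d h : G} (hdL : d ∈ socle W) (hda : d • a = a)
    (hdtr : ∀ u ∈ W a, u ≠ 1 → ∀ v ∈ W a, v ≠ 1 → ∃ j : ℕ, d ^ j * u * (d ^ j)⁻¹ = v)
    (ha : h • a = a) (h2 : TwoEl h) (hhd : Commute h d) (hhW : ∀ w ∈ W a, Commute h w) :
    ∀ p ∈ socle W, p • a = a → TwoEl p → Commute h p := by
  have hLn : ∀ p, p ∈ socle W → ∀ g : G, g * p * g⁻¹ ∈ socle W := fun p hp g => C.socle_normal.conj_mem p hp g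
  let P : Subgroup G := socle W ⊓ C.Sa a
  have hmem : ∀ {p : G}, p ∈ P ↔ p ∈ socle W ∧ p • a = a ∧ TwoEl p := Iff.rfl
  have hconjP : ∀ {p : G} (g : G), p ∈ P → g • a = a → g * p * g⁻¹ ∈ P := fun {p} g hp hga =>
    ⟨hLn p hp.1 g, C.Sa_normal hga hp.2⟩
  -- squares determine the coset modulo `W a`
  have hWL' : W a ≤ P := fun w hw => ⟨W_le_socle a hw, C.W_le_Sa a hw⟩
  set cW : G → G := fun p => h * p * h⁻¹ * p⁻¹ with hcW
  have hsq_conj : ∀ p ∈ P, h * p * h⁻¹ * (h * p * h⁻¹) = p * p := fun p hp => by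
    rw [show h * p * h⁻¹ * (h * p * h⁻¹) = h * (p * p) * h⁻¹ by group,
      (hhW _ (hsqL a p hp.1 hp.2.1 hp.2.2)).eq, mul_inv_cancel_right]
  -- injectivity of squaring modulo `W a`
  have hinj : ∀ p ∈ P, ∀ p' ∈ P, p * p = p' * p' → p' * p⁻¹ ∈ W a := by
    classical
    haveI := Fintype.ofFinite G
    let WP := (W a).subgroupOf P
    have hwd : ∀ p : P, ∀ w : WP, ((p : G) * (w : P)) * ((p : G) * (w : P)) = (p : G) * p := fun p w => by
      have hc : Commute ((w : P) : G) (p : G) := C.central a _ w.2 p p.2.2.1 p.2.2.2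
      have hs : ((w : P) : G) * (w : P) = 1 := C.sq a _ w.2
      rw [hc.mul_mul_mul_comm, hs, mul_one]
    let f : P ⧸ WP → ↥(W a) := fun c => Quotient.liftOn' c
      (fun p => (⟨(p : G) * p, hsqL a p p.2.1 p.2.2.1 p.2.2.2⟩ : ↥(W a))) (fun x y hxy => by
        rw [QuotientGroup.leftRel_apply] at hxy
        refine Subtype.ext ?_
        have := hwd x ⟨x⁻¹ * y, hxy⟩
        simp only [Subgroup.coe_mul, InvMemClass.coe_inv, mul_inv_cancel_left] at this
        exact this.symm)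
    obtain ⟨p0, hp0⟩ : ∃ p0 : P, (p0 : G) * p0 ≠ 1 := by
      by_contra! hall
      have h1 : Nat.card {g : G // g ∈ socle W ∧ g • a = a ∧ TwoEl g} ≤ Nat.card ↥(W a) :=
        Nat.card_le_card_of_injective (fun g => ⟨g.1, hinvL a g.1 g.2.1 g.2.2.1 (hall ⟨g.1, g.2⟩)⟩)
          (fun g g' e => Subtype.ext (congrArg Subtype.val e :))
      rw [hP, hq1, hi] at h1
      have hn : n ≠ 0 := fun hn => by
        have := C.four a; rw [hq1, hn] at this; omega
      have : 2 ^ n < (2 ^ n) ^ 2 := lt_self_pow₀ (Nat.one_lt_two_pow hn) (by norm_num)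
      omega
    have hsurj : Function.Surjective f := fun ⟨w, hw⟩ => by
      by_cases hw1 : w = 1
      · exact ⟨(((1 : P) : P) : P ⧸ WP), Subtype.ext (by simp [f, hw1])⟩
      obtain ⟨j, hj⟩ := hdtr _ (hsqL a _ p0.2.1 p0.2.2.1 p0.2.2.2) hp0 w hw hw1
      have hdj : d ^ j • a = a := mem_stabilizer_iff.1 (pow_mem (mem_stabilizer_iff.2 hda) j)
      refine ⟨((⟨d ^ j * p0 * (d ^ j)⁻¹, hconjP (d ^ j) p0.2 hdj⟩ : P) : P ⧸ WP), Subtype.ext ?_⟩
      show d ^ j * p0 * (d ^ j)⁻¹ * (d ^ j * p0 * (d ^ j)⁻¹) = w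
      rw [← hj]; group
    have hcard : Nat.card (P ⧸ WP) = Nat.card ↥(W a) := by
      have h1 := Subgroup.card_eq_card_quotient_mul_card_subgroup WP
      rw [Nat.card_congr (Subgroup.subgroupOfEquivOfLe hWL').toEquiv, hq1] at h1
      have h3 : Nat.card P = 2 ^ n * 2 ^ n := by rw [← _root_.sq]; have h5 := hP a; rw [hi] at h5; exact h5
      rw [h3] at h1
      rw [hq1]
      exact (mul_right_cancel₀ (by positivity) h1).symm
    intro p hp p' hp' e
    have hb := (Nat.bijective_iff_surjective_and_card f).2 ⟨hsurj, hcard⟩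
    have h1 := hb.1 (a₁ := ((⟨p, hp⟩ : P) : P ⧸ WP)) (a₂ := ((⟨p', hp'⟩ : P) : P ⧸ WP)) (Subtype.ext e)
    rw [QuotientGroup.eq] at h1
    have h3 : p⁻¹ * p' ∈ W a := h1
    have h4 : Commute (p⁻¹ * p') p := C.central a _ h3 p hp.2.1 hp.2.2
    rwa [show p' * p⁻¹ = p * (p⁻¹ * p') * p⁻¹ by group, ← h4.eq, mul_inv_cancel_right]
  have hcmem : ∀ p ∈ P, cW p ∈ W a := fun p hp => hinj p hp _ (hconjP h hp ha) (hsq_conj p hp).symm
  have hmul : ∀ p ∈ P, ∀ p' ∈ P, cW (p * p') = cW p * cW p' := fun p hp p' hp' => by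
    have hc : Commute p (cW p') := (C.central a _ (hcmem p' hp') p hp.2.1 hp.2.2).symm
    simp only [hcW] at hc ⊢
    rw [show h * (p * p') * h⁻¹ * (p * p')⁻¹ = h * p * h⁻¹ * (h * p' * h⁻¹ * p'⁻¹) * p⁻¹ by group,
      mul_assoc, ← hc.inv_left.eq, ← mul_assoc]
  have hdconj : ∀ (j : ℕ) (p : G), cW (d ^ j * p * (d ^ j)⁻¹) = d ^ j * cW p * (d ^ j)⁻¹ := fun j p => by
    simp only [hcW]
    have hc : Commute h (d ^ j) := hhd.pow_right j
    rw [show h * (d ^ j * p * (d ^ j)⁻¹) * h⁻¹ = (h * d ^ j) * p * ((d ^ j)⁻¹ * h⁻¹) by group, hc.eq,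
      show (d ^ j)⁻¹ * h⁻¹ = h⁻¹ * (d ^ j)⁻¹ by rw [← mul_inv_rev, hc.eq, mul_inv_rev]]
    group
  have hfac : ∀ p ∈ P, ∀ p' ∈ P, p * p = p' * p' → cW p' = cW p := fun p hp p' hp' e => by
    have hw := hinj p hp p' hp' e
    have h1 : cW (p' * p⁻¹) = 1 := by
      simp only [hcW]; rw [(hhW _ hw).eq, mul_inv_cancel_right, mul_inv_cancel]
    have h2' := hmul _ (mul_mem hp' (inv_mem hp) : p' * p⁻¹ ∈ P) p hp
    rwa [inv_mul_cancel_right, h1, one_mul] at h2'
  intro p hpL hpa hp2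
  by_contra hne
  have hp : p ∈ P := ⟨hpL, hpa, hp2⟩
  have hc1 : cW p ≠ 1 := fun e => hne (mul_inv_eq_iff_eq_mul.1 (mul_inv_eq_one.1 e))
  have hpp : p * p ≠ 1 := fun e => hne (hhW p (hinvL a p hpL hpa e))
  obtain ⟨k, hk⟩ := hdtr _ (hsqL a p hpL hpa hp2) hpp _ (hcmem p hp) hc1
  -- hence `cW` is squaring followed by conjugation with `d ^ k`
  have hall : ∀ r ∈ P, cW r = d ^ k * (r * r) * (d ^ k)⁻¹ := fun r hr => by
    by_cases hr1 : r * r = 1
    · rw [hr1, mul_one, mul_inv_cancel]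
      simp only [hcW]
      rw [(hhW _ (hinvL a r hr.1 hr.2.1 hr1)).eq, mul_inv_cancel_right, mul_inv_cancel]
    obtain ⟨j, hj⟩ := hdtr _ (hsqL a p hpL hpa hp2) hpp _ (hsqL a r hr.1 hr.2.1 hr.2.2) hr1
    have hdj : d ^ j • a = a := mem_stabilizer_iff.1 (pow_mem (mem_stabilizer_iff.2 hda) j)
    rw [hfac _ (hconjP (d ^ j) hp hdj) r hr (by rw [← hj]; group), hdconj, ← hk, ← hj]
    rw [show d ^ j * (d ^ k * (p * p) * (d ^ k)⁻¹) * (d ^ j)⁻¹ = (d ^ j * d ^ k) * (p * p) * (d ^ j * d ^ k)⁻¹ by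
      group, show d ^ k * (d ^ j * (p * p) * (d ^ j)⁻¹) * (d ^ k)⁻¹ =
        (d ^ k * d ^ j) * (p * p) * (d ^ k * d ^ j)⁻¹ by group, ← pow_add, ← pow_add, add_comm]
  have hab : ∀ r ∈ P, ∀ r' ∈ P, Commute r r' := fun r hr r' hr' => by
    have h1 := hmul r hr r' hr'
    rw [hall _ (mul_mem hr hr'), hall r hr, hall r' hr', show d ^ k * (r * r) * (d ^ k)⁻¹ *
      (d ^ k * (r' * r') * (d ^ k)⁻¹) = d ^ k * (r * r * (r' * r')) * (d ^ k)⁻¹ by group,
      mul_left_inj, mul_right_inj] at h1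
    have h3 : r' * r = r * r' := by
      have := congrArg (fun t => r⁻¹ * t * r'⁻¹) h1
      simpa [mul_assoc] using this
    exact h3.symm
  obtain ⟨l, hl⟩ := hp2
  exact hpp (congrArg Subtype.val (hcs a ⟨p, hpL⟩ ⟨hpa, l, Subtype.ext (by simpa using hl)⟩
    fun s hs => Subtype.ext (hab p hp (s : G) ⟨s.2, hs.1, hs.2.imp fun l hl => by
      simpa using congrArg Subtype.val hl⟩).eq))

/-- The same for a unitary Sylow subgroup, by irreducibility and a fixed-point-free power. -/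
theorem commute_three (hinvL : ∀ (a : Ω) (p : G), p ∈ socle W → p • a = a → p * p = 1 → p ∈ W a)
    (hsqL : ∀ (a : Ω) (y : G), y ∈ socle W → y • a = a → TwoEl y → y * y ∈ W a)
    (hcommL : ∀ (a : Ω) (x y : G), x ∈ socle W → x • a = a → TwoEl x → y ∈ socle W → y • a = a → TwoEl y →
      x * y * x⁻¹ * y⁻¹ ∈ W a)
    {a : Ω} {d h : G} {j : ℕ} (hdL : d ∈ socle W) (hda : d • a = a)
    (hirr : ∀ H : Subgroup G, (∀ h ∈ H, h ∈ socle W ∧ h • a = a ∧ TwoEl h) → W a ≤ H →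
      (∀ h ∈ H, d * h * d⁻¹ ∈ H) → (∃ h ∈ H, h * h ≠ 1) → ∀ p ∈ socle W, p • a = a → TwoEl p → p ∈ H)
    (hjc : ∀ w ∈ W a, Commute (d ^ j) w)
    (hjfpf : ∀ p ∈ socle W, p • a = a → TwoEl p → d ^ j * p * (d ^ j)⁻¹ * p⁻¹ ∈ W a → p ∈ W a)
    (ha : h • a = a) (h2 : TwoEl h) (hhd : Commute h d) (hhW : ∀ w ∈ W a, Commute h w)
    (hne : ¬ ∀ g : G, g ∈ socle W → g • a = a → TwoEl g → g ∈ W a) :
    ∀ p ∈ socle W, p • a = a → TwoEl p → Commute h p := by
  classical
  haveI := Fintype.ofFinite G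
  haveI := Fact.mk Nat.prime_two
  have hWL : W a ≤ socle W := W_le_socle a
  let P : Subgroup G := socle W ⊓ C.Sa a
  have hLn : ∀ p, p ∈ socle W → ∀ g : G, g * p * g⁻¹ ∈ socle W := fun p hp g => C.socle_normal.conj_mem p hp g
  let X : Subgroup G := C.Sa a
  let WX : Subgroup ↥X := (W a).subgroupOf X
  haveI : WX.Normal := ⟨fun w hw x => by
    show (x : G) * w * (x : G)⁻¹ ∈ W a
    have hc : Commute ((w : ↥X) : G) (x : G) := C.central a _ hw x x.2.1 x.2.2
    rw [← hc.eq, mul_inv_cancel_right]; exact hw⟩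
  -- a fixed coset
  haveI : Group.IsNilpotent ↥X := (C.isPGroup_Sa a).isNilpotent
  let N : Subgroup (↥X ⧸ WX) := ((socle W).subgroupOf X).map (QuotientGroup.mk' WX)
  haveI := C.socle_normal
  haveI : N.Normal := Subgroup.Normal.map inferInstance _ (QuotientGroup.mk'_surjective WX)
  have hNne : N ≠ ⊥ := by
    intro e
    refine hne fun g hgL hga hg2 => ?_
    have : ((⟨g, hga, hg2⟩ : ↥X) : ↥X ⧸ WX) ∈ N := ⟨⟨g, hga, hg2⟩, hgL, rfl⟩
    rw [e, mem_bot, QuotientGroup.eq_one_iff] at this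
    exact this
  obtain ⟨c, ⟨⟨q, hqL, rfl⟩, hcc⟩, hc1⟩ :=
    ((Subgroup.bot_or_exists_ne_one (N ⊓ center (↥X ⧸ WX))).resolve_left (Cores.inf_center_ne_bot hNne))
  -- the fixed subgroup
  have hfixmul : ∀ x y : G, x ∈ P → y ∈ P → h * x * h⁻¹ * x⁻¹ ∈ W a → h * y * h⁻¹ * y⁻¹ ∈ W a →
      h * (x * y) * h⁻¹ * (x * y)⁻¹ = h * x * h⁻¹ * x⁻¹ * (h * y * h⁻¹ * y⁻¹) := fun x y hx _ _ hy => by
    rw [show h * (x * y) * h⁻¹ * (x * y)⁻¹ = h * x * h⁻¹ * (h * y * h⁻¹ * y⁻¹) * x⁻¹ by group,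
      mul_assoc, (C.central a _ hy x hx.2.1 hx.2.2).inv_right.eq, ← mul_assoc]
  let H0 : Subgroup G :=
    { carrier := {p | p ∈ P ∧ h * p * h⁻¹ * p⁻¹ ∈ W a}
      one_mem' := ⟨one_mem _, by rw [mul_one, mul_inv_cancel, inv_one, mul_one]; exact one_mem _⟩
      mul_mem' := fun {x y} hx hy => ⟨mul_mem hx.1 hy.1, by
        rw [hfixmul x y hx.1 hy.1 hx.2 hy.2]; exact mul_mem hx.2 hy.2⟩
      inv_mem' := fun {x} hx => ⟨inv_mem hx.1, by
        have hc := (C.central a _ (inv_mem hx.2) x⁻¹ (inv_mem hx.1).2.1 (inv_mem hx.1).2.2)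
        rw [show h * x⁻¹ * h⁻¹ * x⁻¹⁻¹ = x⁻¹ * (h * x * h⁻¹ * x⁻¹)⁻¹ * x by group, ← hc.eq, mul_assoc,
          inv_mul_cancel, mul_one]
        exact inv_mem hx.2⟩ }
  have hWP : W a ≤ H0 := fun w hw => ⟨⟨W_le_socle a hw, C.W_le_Sa a hw⟩, by
    rw [(hhW w hw).eq, mul_inv_cancel_right, mul_inv_cancel]; exact one_mem _⟩
  have hdconj : ∀ (l : ℕ) (p : G), h * (d ^ l * p * (d ^ l)⁻¹) * h⁻¹ * (d ^ l * p * (d ^ l)⁻¹)⁻¹ =
      d ^ l * (h * p * h⁻¹ * p⁻¹) * (d ^ l)⁻¹ := fun l p => by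
    have hc : Commute h (d ^ l) := hhd.pow_right l
    rw [show h * (d ^ l * p * (d ^ l)⁻¹) * h⁻¹ = (h * d ^ l) * p * ((d ^ l)⁻¹ * h⁻¹) by group, hc.eq,
      show (d ^ l)⁻¹ * h⁻¹ = h⁻¹ * (d ^ l)⁻¹ by rw [← mul_inv_rev, hc.eq, mul_inv_rev]]
    group
  have hdfix : ∀ (l : ℕ), d ^ l • a = a := fun l =>
    mem_stabilizer_iff.1 (pow_mem (mem_stabilizer_iff.2 hda) l)
  have hconjP : ∀ (l : ℕ) {p : G}, p ∈ P → d ^ l * p * (d ^ l)⁻¹ ∈ P := fun l p hp =>
    ⟨hLn p hp.1 _, C.Sa_normal (hdfix l) hp.2⟩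
  have htop : ∀ p ∈ P, h * p * h⁻¹ * p⁻¹ ∈ W a := fun p hp =>
    (hirr H0 (fun x hx => hx.1) hWP (fun x hx => by
        have e := hdconj 1 x
        simp only [pow_one] at e
        refine ⟨by simpa using hconjP 1 hx.1, ?_⟩
        rw [e]
        have := C.conj d a _ hx.2
        rwa [hda] at this)
      ⟨q, ⟨⟨hqL, q.2⟩, by
          have hh : (⟨h, ha, h2⟩ : ↥X) ∈ (⊤ : Subgroup ↥X) := mem_top _
          have e := mem_center_iff.1 hcc ((⟨h, ha, h2⟩ : ↥X) : ↥X ⧸ WX)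
          rw [QuotientGroup.mk'_apply, ← QuotientGroup.mk_mul, ← QuotientGroup.mk_mul, QuotientGroup.eq] at e
          have e' : (h * q)⁻¹ * (q * h) ∈ W a := e
          have hqi : (q : G)⁻¹ • a = a := by rw [inv_smul_eq_iff, q.2.1]
          have hc := C.central a _ (inv_mem e') (q : G) q.2.1 q.2.2
          have e2 := C.conj ((q : G) * h) a _ (inv_mem e')
          rw [mul_smul, ha, q.2.1] at e2
          rw [show h * q * h⁻¹ * (q : G)⁻¹ =
            (q * h) * ((h * q)⁻¹ * (q * h))⁻¹ * ((q : G) * h)⁻¹ by group]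
          exact e2⟩, fun e => hc1 (by
          rw [QuotientGroup.mk'_apply, QuotientGroup.eq_one_iff]
          exact hinvL a _ hqL q.2.1 e)⟩
      p hp.1 hp.2.1 hp.2.2).2
  let WP := (W a).subgroupOf P
  haveI : WP.Normal := ⟨fun w hw x => by
    show (x : G) * w * (x : G)⁻¹ ∈ W a
    have hc : Commute ((w : ↥P) : G) (x : G) := C.central a _ hw x x.2.2.1 x.2.2.2
    rw [← hc.eq, mul_inv_cancel_right]; exact hw⟩
  let ψ : ↥P →* ↥P ⧸ WP := MonoidHom.mk'
    (fun x => ((⟨d ^ j * x * (d ^ j)⁻¹ * (x : G)⁻¹, mul_mem (hconjP j x.2) (inv_mem x.2)⟩ : ↥P) : ↥P ⧸ WP))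
    fun x y => by
      rw [← QuotientGroup.mk_mul, QuotientGroup.eq]
      show (d ^ j * (x * y : G) * (d ^ j)⁻¹ * (x * y : G)⁻¹)⁻¹ *
        (d ^ j * x * (d ^ j)⁻¹ * (x : G)⁻¹ * (d ^ j * y * (d ^ j)⁻¹ * (y : G)⁻¹)) ∈ W a
      set u := d ^ j * x * (d ^ j)⁻¹
      set v := d ^ j * y * (d ^ j)⁻¹ * (y : G)⁻¹
      have hu : u ∈ P := hconjP j x.2
      have hv : v ∈ P := mul_mem (hconjP j y.2) (inv_mem y.2)
      rw [show (d ^ j * (x * y : G) * (d ^ j)⁻¹ * (x * y : G)⁻¹)⁻¹ * (u * (x : G)⁻¹ * v) =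
        (x : G) * v⁻¹ * (x : G)⁻¹ * v⁻¹⁻¹ by simp only [u, v]; group]
      exact hcommL a _ _ x.2.1 x.2.2.1 x.2.2.2 (inv_mem hv.1) (inv_mem hv).2.1 (inv_mem hv).2.2
  have hker : ψ.ker = WP := by
    ext x
    rw [MonoidHom.mem_ker, MonoidHom.mk'_apply, QuotientGroup.eq_one_iff]
    refine ⟨fun hx => hjfpf x x.2.1 x.2.2.1 x.2.2.2 hx, fun hx => ?_⟩
    show d ^ j * (x : G) * (d ^ j)⁻¹ * (x : G)⁻¹ ∈ W a
    have hc : Commute (d ^ j) (x : G) := hjc _ hx
    rw [hc.eq, mul_inv_cancel_right, mul_inv_cancel]; exact one_mem _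
  have hsurj : ψ.range = ⊤ := Subgroup.eq_top_of_card_eq _ (by
    rw [← Subgroup.index_ker, hker, Subgroup.index_eq_card])
  intro p hpL hpa hp2
  obtain ⟨x, hx⟩ := hsurj.ge (mem_top ((⟨p, hpL, hpa, hp2⟩ : ↥P) : ↥P ⧸ WP))
  rw [MonoidHom.mk'_apply, QuotientGroup.eq] at hx
  set u := d ^ j * (x : G) * (d ^ j)⁻¹ * (x : G)⁻¹
  have hu : u ∈ P := mul_mem (hconjP j x.2) (inv_mem x.2)
  have hw : u⁻¹ * p ∈ W a := hx
  -- the commutator with `h` is trivial on `u`
  have hc0 : h * u * h⁻¹ * u⁻¹ = 1 := by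
    rw [hfixmul _ _ (hconjP j x.2) (inv_mem x.2) (htop _ (hconjP j x.2)) (htop _ (inv_mem x.2)), hdconj,
      (hjc _ (htop _ x.2)).eq, mul_inv_cancel_right]
    have hc := C.central a _ (htop _ x.2) x x.2.2.1 x.2.2.2
    rw [show h * (x : G)⁻¹ * h⁻¹ * (x : G)⁻¹⁻¹ = (x : G)⁻¹ * (h * x * h⁻¹ * (x : G)⁻¹)⁻¹ * x by group,
      ← hc.inv_left.inv_right.eq, inv_mul_cancel_right, mul_inv_cancel]
  have h1 : Commute h u := mul_inv_eq_iff_eq_mul.1 (mul_inv_eq_one.1 hc0)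
  simpa using h1.mul_right (hhW _ hw)

end Conf

namespace Conf

variable (C : Conf W) [Finite G] [Finite Ω] [FaithfulSMul G Ω] [Nonempty Ω]
include C

/-- The socle is one of the three families. -/
theorem socle_data (hT : TITheorem.{u}) (hF : KindFacts.{u}) {N : ℕ} (hN : NoMultiBelow.{u} N)
    (hlt : Nat.card G < N) :
    (∀ x : ↥(socle W), ¬ Multi Ω x) ∧ ∃ n i, ∀ a : Ω,
      TIData ((C.restrict _ W_le_socle).syl a) n i := by
  haveI := C.socle_simple
  have hne := C.socle_not_comm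
  set CL := C.restrict _ W_le_socle with hCL
  have hno := hN ↥(socle W) Ω _ CL ((Subgroup.card_le_card_group _).trans_lt hlt)
  refine ⟨hno, ?_⟩
  have hk : KindTI ↥(socle W) := hT _ hne (CL.cycInt hno) (CL.tiSylow hno)
  obtain ⟨-, -, hd⟩ := hF.1 _ hk
  obtain ⟨a⟩ := ‹Nonempty Ω›
  obtain ⟨n, i, d⟩ := hd (CL.syl a)
  refine ⟨n, i, fun b => ?_⟩
  obtain ⟨n', i', d'⟩ := hd (CL.syl b)
  haveI := Fact.mk Nat.prime_two
  obtain ⟨g, hg⟩ := MulAction.exists_smul_eq ↥(socle W) (CL.syl a) (CL.syl b)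
  have hcard : Nat.card ↥(CL.syl a : Subgroup ↥(socle W)) = Nat.card ↥(CL.syl b : Subgroup ↥(socle W)) := by
    exact (Nat.card_congr ((CL.syl a).equiv (CL.syl b)).toEquiv)
  have hinv : {x : ↥(socle W) | x ∈ (CL.syl b : Subgroup ↥(socle W)) ∧ orderOf x = 2} =
      MulAut.conj g '' {x | x ∈ (CL.syl a : Subgroup ↥(socle W)) ∧ orderOf x = 2} := by
    ext x
    constructor
    · rintro ⟨hx, hx2⟩
      rw [← hg, Sylow.coe_subgroup_smul] at hx
      obtain ⟨y, hy, rfl⟩ := hx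
      refine ⟨y, ⟨hy, ?_⟩, rfl⟩
      rwa [MulDistribMulAction.toMonoidEnd_apply, MulDistribMulAction.toMonoidHom_apply,
        MulAut.smul_def, MulEquiv.orderOf_eq] at hx2
    · rintro ⟨y, ⟨hy, hy2⟩, rfl⟩
      exact ⟨by rw [← hg, Sylow.coe_subgroup_smul]; exact Subgroup.smul_mem_pointwise_smul _ _ _ hy,
        by rw [MulEquiv.orderOf_eq, hy2]⟩
  have hn : n = n' := by
    have h := d'.ncard_inv
    rw [hinv, Set.ncard_image_of_injective _ (MulAut.conj g).injective, d.ncard_inv] at h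
    have := Nat.one_le_two_pow (n := n)
    have := Nat.one_le_two_pow (n := n')
    exact Nat.pow_right_injective le_rfl (show 2 ^ n = 2 ^ n' by omega)
  have hi : i = i' := by
    have h := d'.card_sylow
    rw [← hcard, d.card_sylow, ← hn] at h
    exact Nat.pow_right_injective (Nat.le_self_pow (by have := d.two_le; omega) 2) h
  rwa [← hn, ← hi] at d'

theorem data (hT : TITheorem.{u}) (hF : KindFacts.{u}) {N : ℕ} (hN : NoMultiBelow.{u} N)
    (hlt : Nat.card G < N) : ∃ n i, Data W n i := by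
  haveI := C.socle_simple
  haveI := C.socle_normal
  haveI := Fact.mk Nat.prime_two
  obtain ⟨hno, n, i, hd⟩ := C.socle_data hT hF hN hlt
  set L := socle W
  set CL := C.restrict _ W_le_socle with hCL
  haveI : IsPretransitive ↥L Ω := CL.isPretransitive
  -- no element of the socle fixing two points is a 2-element
  have hL1 : ∀ (h : G), h ∈ L → ∀ a b : Ω, a ≠ b → h • a = a → h • b = b → TwoEl h → h = 1 := by
    intro h hh a b hab ha hb h2
    by_contra h1
    obtain ⟨k, hk⟩ := exists_involution_pow h2 h1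
    refine hno ⟨h ^ k, pow_mem hh k⟩ ⟨by rw [← orderOf_coe]; exact hk, ⟨a, b, hab, ?_, ?_⟩, ?_⟩
    · exact MulAction.mem_stabilizer_iff.1 (pow_mem (mem_stabilizer_iff.2 ha) k)
    · exact MulAction.mem_stabilizer_iff.1 (pow_mem (mem_stabilizer_iff.2 hb) k)
    · by_contra! hall
      exact Basic.ne_one hk (C.eq_one_of_fix_all hall)
  -- regularity
  have hreg : ∀ a b c : Ω, b ≠ a → c ≠ a → ∃ p : G, p ∈ L ∧ p • a = a ∧ TwoEl p ∧ p • b = c := by
    intro a b c hb hc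
    obtain ⟨s, hs, -⟩ := (hd a).regular (CL.syl b) (CL.syl c)
      (fun e => hb (CL.Sa_injective (congrArg Sylow.toSubgroup e)))
      (fun e => hc (CL.Sa_injective (congrArg Sylow.toSubgroup e)))
    obtain ⟨hsa, k, hk⟩ := s.2
    refine ⟨_, (s : ↥L).2, hsa, ⟨k, by simpa using congrArg Subtype.val hk⟩, ?_⟩
    refine CL.Sa_injective ?_
    have h1 := congrArg Sylow.toSubgroup hs
    rw [← coe_syl CL c, ← h1, Sylow.coe_subgroup_smul]
    ext x
    rw [mem_pointwise_smul_iff_inv_smul_mem]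
    show x ∈ CL.Sa ((s : ↥L) • b) ↔ (MulAut.conj (s : ↥L))⁻¹ • x ∈ CL.Sa b
    constructor
    · intro hx
      have := CL.conj_mem_Sa (s : ↥L)⁻¹ hx
      rw [inv_smul_smul] at this
      simpa [MulAut.smul_def] using this
    · intro hx
      have := CL.conj_mem_Sa (s : ↥L) hx
      simpa [MulAut.smul_def, mul_assoc] using this
  have hinvL : ∀ (a : Ω) (p : G), p ∈ L → p • a = a → p * p = 1 → p ∈ W a := by
    intro a p hpL hpa hpp
    by_cases hp1 : p = 1
    · exact hp1 ▸ one_mem _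
    have hp2 : orderOf (⟨p, hpL⟩ : ↥L) = 2 := by
      rw [← orderOf_coe]; exact Basic.orderOf_two_iff.2 ⟨hpp, hp1⟩
    obtain ⟨z, hz, hz1⟩ := CL.exists_W a
    obtain ⟨r, hr, hrz⟩ := (hd a).trans z ⟨p, hpL⟩ (CL.W_le_Sa a hz) ⟨hpa, twoEl_of_sq (Subtype.ext hpp)⟩
      (CL.orderOf_W hz hz1) hp2
    have hmem := C.conj (r : G) a (z : G) hz
    rw [show (r : G) * z * (r : G)⁻¹ = p from congrArg Subtype.val hrz] at hmem
    exact C.mem_of_fix hmem hpa
  have hsqL : ∀ (a : Ω) (y : G), y ∈ L → y • a = a → TwoEl y → y * y ∈ W a := by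
    intro a y hyL hya ⟨l, hl⟩
    exact hinvL a _ (mul_mem hyL hyL) (by rw [mul_smul, hya, hya]) (by
      simpa using congrArg Subtype.val
        ((hd a).sq_sq ⟨y, hyL⟩ ⟨hya, l, Subtype.ext (by simpa using hl)⟩))
  have hcommL : ∀ (a : Ω) (x y : G), x ∈ L → x • a = a → TwoEl x → y ∈ L → y • a = a → TwoEl y →
      x * y * x⁻¹ * y⁻¹ ∈ W a := by
    intro a x y hxL hxa hx2 hyL hya hy2
    have hyi : y⁻¹ • a = a := by rw [inv_smul_eq_iff, hya]
    have hxi : x⁻¹ • a = a := by rw [inv_smul_eq_iff, hxa]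
    have h1 := hsqL a _ (inv_mem hxL) hxi hx2.inv
    rw [show x * y * x⁻¹ * y⁻¹ = (x * y) * (x * y) * (y⁻¹ * (x⁻¹ * x⁻¹) * y) * (y⁻¹ * y⁻¹) by group,
      (C.central a _ h1 y hya hy2).inv_right.symm.eq, inv_mul_cancel_right]
    exact mul_mem (mul_mem (hsqL a _ (mul_mem hxL hyL) (by rw [mul_smul, hya, hxa])
      (C.closed a x y hxa hya hx2 hy2)) h1) (hsqL a _ (inv_mem hyL) hyi hy2.inv)
  -- the torus at two points
  have htor : ∀ a b : Ω, a ≠ b → ∃ d ∈ L, Odd (orderOf d) ∧ d • a = a ∧ d • b = b ∧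
      (∀ u ∈ W a, u ≠ 1 → ∀ v ∈ W a, v ≠ 1 → ∃ j : ℕ, d ^ j * u * (d ^ j)⁻¹ = v) ∧
      (i = 3 → (∀ H : Subgroup G, (∀ h ∈ H, h ∈ L ∧ h • a = a ∧ TwoEl h) → W a ≤ H →
          (∀ h ∈ H, d * h * d⁻¹ ∈ H) → (∃ h ∈ H, h * h ≠ 1) →
          ∀ p ∈ L, p • a = a → TwoEl p → p ∈ H) ∧
        ∃ j : ℕ, d ^ j ≠ 1 ∧ (∀ w ∈ W a, Commute (d ^ j) w) ∧
          ∀ p ∈ L, p • a = a → TwoEl p → d ^ j * p * (d ^ j)⁻¹ * p⁻¹ ∈ W a → p ∈ W a) := by
    intro a b hab
    obtain ⟨τ, hτN, hτodd, hτtr, hτ3⟩ := (hd a).torus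
    obtain ⟨z, hz, hz1⟩ := CL.exists_W a
    have hτa : τ • a = a := by
      have h1 : τ * z * τ⁻¹ ∈ (CL.syl a : Subgroup ↥L) := (mem_normalizer_iff.1 hτN z).1 (CL.W_le_Sa a hz)
      exact (CL.uniq _ _ (CL.conj τ a z hz) (fun e => hz1 (conj_eq_one_iff.1 e)) a h1.1).symm
    obtain ⟨p, hpL, hpa, hp2, hpb⟩ := hreg a b (τ • b) hab.symm
      (fun e => hab (smul_left_cancel τ (e.trans hτa.symm)).symm)
    have hpW : ∀ w ∈ W a, Commute p w := fun w hw => (C.central a w hw p hpa hp2).symm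
    set d : G := p⁻¹ * (τ : G)
    have hdL : d ∈ L := mul_mem (inv_mem hpL) τ.2
    have hda : d • a = a := by
      rw [mul_smul, show (τ : G) • a = a from hτa, inv_smul_eq_iff, hpa]
    have hdb : d • b = b := by
      rw [mul_smul, show (τ : G) • b = τ • b from rfl, ← hpb, inv_smul_smul]
    have hdodd : Odd (orderOf d) := by
      by_contra he
      rw [Nat.not_odd_iff_even] at he
      obtain ⟨k, hk⟩ := he
      have hk0 : 0 < k := by have := orderOf_pos d; omega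
      have h2 : orderOf (d ^ k) = 2 := by
        rw [orderOf_pow' d hk0.ne', hk, Nat.gcd_eq_right (Dvd.intro 2 (by ring))]
        exact Nat.div_eq_of_eq_mul_left hk0 (by omega)
      exact Basic.ne_one h2 (hL1 _ (pow_mem hdL k) a b hab
        (mem_stabilizer_iff.1 (pow_mem (mem_stabilizer_iff.2 hda) k))
        (mem_stabilizer_iff.1 (pow_mem (mem_stabilizer_iff.2 hdb) k))
        (twoEl_of_sq (Basic.inv_sq_one h2)))
    -- powers of `d` and of `τ` differ by an element of the Sylow subgroup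
    have hpow : ∀ j : ℕ, ∃ r : G, r ∈ L ∧ r • a = a ∧ TwoEl r ∧ d ^ j = r * (τ : G) ^ j := by
      intro j
      induction j with
      | zero => exact ⟨1, one_mem _, one_smul _ _, SETwoClosed.twoEl_one, by simp⟩
      | succ j ih =>
        obtain ⟨r, hrL, hra, hr2, hr⟩ := ih
        have h := C.Sa_normal (show ((τ : G) ^ j) • a = a from
          mem_stabilizer_iff.1 (pow_mem (mem_stabilizer_iff.2 hτa) j)) (inv_mem (⟨hpa, hp2⟩ : p ∈ C.Sa a))
        have hm := mul_mem (⟨hra, hr2⟩ : r ∈ C.Sa a) h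
        exact ⟨_, mul_mem hrL (mul_mem (mul_mem (pow_mem τ.2 j) (inv_mem hpL)) (inv_mem (pow_mem τ.2 j))),
          hm.1, hm.2, by rw [pow_succ, hr, pow_succ]; simp only [d]; group⟩
    have hWc : ∀ (j : ℕ) (w : G), w ∈ W a → d ^ j * w * (d ^ j)⁻¹ = (τ : G) ^ j * w * ((τ : G) ^ j)⁻¹ := by
      intro j w hw
      obtain ⟨r, -, hra, hr2, hr⟩ := hpow j
      have hmem := C.conj ((τ : G) ^ j) a w hw
      rw [show ((τ : G) ^ j) • a = a from
        mem_stabilizer_iff.1 (pow_mem (mem_stabilizer_iff.2 hτa) j)] at hmem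
      have hc : Commute r _ := (C.central a _ hmem r hra hr2).symm
      rw [hr, show r * (τ : G) ^ j * w * (r * (τ : G) ^ j)⁻¹ =
        r * ((τ : G) ^ j * w * ((τ : G) ^ j)⁻¹) * r⁻¹ by group, hc.eq, mul_inv_cancel_right]
    refine ⟨d, hdL, hdodd, hda, hdb, fun u hu hu1 v hv hv1 => ?_, fun hi => ?_⟩
    · obtain ⟨j, hj⟩ := hτtr ⟨u, W_le_socle a hu⟩ ⟨v, W_le_socle a hv⟩ (CL.W_le_Sa a hu)
        (CL.W_le_Sa a hv) (CL.orderOf_W hu fun e => hu1 (congrArg Subtype.val e))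
        (CL.orderOf_W hv fun e => hv1 (congrArg Subtype.val e))
      exact ⟨j, by rw [hWc j u hu]; simpa using congrArg Subtype.val hj⟩
    · obtain ⟨hirr, ⟨j, hj1, hjc⟩, hfpf⟩ := hτ3 hi
      refine ⟨fun H hH hWH hdH hex q hqL hqa hq2 => ?_, j, fun e => ?_, fun w hw => ?_, fun q hqL hqa hq2 hq => ?_⟩
      · have := hirr (H.subgroupOf L) (fun x hx => by
            obtain ⟨-, hxa, k, hk⟩ := hH _ hx
            exact ⟨hxa, k, Subtype.ext (by simpa using hk)⟩)
          (fun x hx hxx => hWH (hinvL a x x.2 hx.1 (congrArg Subtype.val hxx))) (fun x hx => ?_) ?_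
        · obtain ⟨k, hk⟩ := hq2
          exact this.ge (show (⟨q, hqL⟩ : ↥L) ∈ (CL.syl a : Subgroup ↥L) from
            ⟨hqa, k, Subtype.ext (by simpa using hk)⟩)
        · rw [mem_subgroupOf] at hx ⊢
          have h1 := hdH _ hx
          -- `p` normalises `H`, which contains all squares
          obtain ⟨-, h1a, h12⟩ := hH _ h1
          set h' := d * (x : G) * d⁻¹ with hh'
          obtain ⟨k, hk⟩ := h12
          have hh'L : h' ∈ L := (hH _ h1).1
          have hph : TwoEl (p * h') := C.closed a p h' hpa h1a hp2 (hH _ h1).2.2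
          have hph' : (p * h') • a = a := by rw [mul_smul, h1a, hpa]
          have hpi : TwoEl p⁻¹ ∧ p⁻¹ • a = a := ⟨hp2.inv, by rw [inv_smul_eq_iff, hpa]⟩
          rw [show ((τ * x * τ⁻¹ : ↥L) : G) = (p * h') * (p * h') * h'⁻¹ * (p⁻¹ * p⁻¹) by
            push_cast
            simp only [hh', d]
            group]
          exact mul_mem (mul_mem (hWH (hsqL a _ (mul_mem hpL hh'L) hph' hph)) (inv_mem h1))
            (hWH (hsqL a _ (inv_mem hpL) hpi.2 hpi.1))
        · obtain ⟨h, hh, hh2⟩ := hex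
          exact ⟨⟨h, (hH h hh).1⟩, hh, fun e => hh2 (congrArg Subtype.val e)⟩
      · obtain ⟨r, hrL, hra, hr2, hr⟩ := hpow j
        rw [hr, mul_eq_one_iff_eq_inv] at e
        refine hj1 (Subtype.ext ?_)
        have hodd : Odd (orderOf r) := by
          rw [e, orderOf_inv, ← orderOf_coe] at *
          exact (hτodd.of_dvd_nat (orderOf_pow_dvd j))
        rw [hr2.eq_one_of_odd hodd, eq_comm, inv_eq_one] at e
        simpa using e
      · have h := hWc j w hw
        by_cases hw1 : w = 1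
        · rw [hw1]; exact Commute.one_right _
        have hc := congrArg Subtype.val (hjc ⟨w, W_le_socle a hw⟩ (CL.W_le_Sa a hw)
          (CL.orderOf_W hw fun e => hw1 (congrArg Subtype.val e))).eq
        push_cast at hc
        rw [hc, mul_inv_cancel_right] at h
        exact (mul_inv_eq_iff_eq_mul.1 h)
      · -- a coset fixed by the power is fixed pointwise
        obtain ⟨r, hrL, hra, hr2, hr⟩ := hpow j
        obtain ⟨k, hk⟩ := hq2
        have hτjW : ∀ w ∈ W a, Commute ((τ : G) ^ j) w := fun w hw => by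
          by_cases hw1 : w = 1
          · rw [hw1]; exact Commute.one_right _
          have hc := congrArg Subtype.val (hjc ⟨w, W_le_socle a hw⟩ (CL.W_le_Sa a hw)
            (CL.orderOf_W hw fun e => hw1 (congrArg Subtype.val e))).eq
          push_cast at hc
          exact hc
        set t := (τ : G) ^ j
        have htmem : t * q * t⁻¹ * q⁻¹ ∈ W a := by
          have hta : t • a = a := mem_stabilizer_iff.1 (pow_mem (mem_stabilizer_iff.2 hτa) j)
          have hq'S : t * q * t⁻¹ ∈ C.Sa a := C.Sa_normal hta ⟨hqa, k, hk⟩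
          have hq'L : t * q * t⁻¹ ∈ L := mul_mem (mul_mem (pow_mem τ.2 j) hqL) (inv_mem (pow_mem τ.2 j))
          have hc := hcommL a r _ hrL hra hr2 hq'L hq'S.1 hq'S.2
          rw [hr, show r * t * q * (r * t)⁻¹ * q⁻¹ =
            r * (t * q * t⁻¹) * r⁻¹ * (t * q * t⁻¹)⁻¹ * (t * q * t⁻¹ * q⁻¹) by group] at hq
          exact (mul_mem_cancel_left hc).1 hq
        have hfix : Commute t q := by
          have hdvd : ∀ l : ℕ, t ^ l * q * (t ^ l)⁻¹ = (t * q * t⁻¹ * q⁻¹) ^ l * q := by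
            intro l
            induction l with
            | zero => simp
            | succ l ih =>
              have hc : Commute t ((t * q * t⁻¹ * q⁻¹) ^ l) := (hτjW _ htmem).pow_right l
              rw [pow_succ' t, show t * t ^ l * q * (t * t ^ l)⁻¹ = t * (t ^ l * q * (t ^ l)⁻¹) * t⁻¹ by
                group, ih, ← mul_assoc t, hc.eq, pow_succ]
              group
          have h1 := hdvd (orderOf t)
          rw [pow_orderOf_eq_one, one_mul, inv_one, mul_one, eq_comm, mul_eq_right] at h1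
          have h2 := orderOf_dvd_of_pow_eq_one h1
          have hw := (t * q * t⁻¹ * q⁻¹)
          have hodd : Odd (orderOf t) := by
            refine hτodd.of_dvd_nat ?_
            rw [← orderOf_coe]; exact orderOf_pow_dvd j
          have h3 := SETwoClosed.TwoEl.eq_one_of_odd (C.twoEl_W htmem) (hodd.of_dvd_nat h2)
          rw [mul_inv_eq_one, mul_inv_eq_iff_eq_mul] at h3
          exact h3
        have hqq := hfpf j hj1 hjc ⟨q, hqL⟩ ⟨hqa, k, Subtype.ext (by simpa using hk)⟩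
          (Subtype.ext (by simpa using hfix.eq))
        exact hinvL a q hqL hqa (congrArg Subtype.val hqq)
  have hq1 : ∀ a : Ω, Nat.card ↥(W a) = 2 ^ n := by
    intro a
    have h := (hd a).ncard_inv
    have heq : {x : ↥L | x ∈ (CL.syl a : Subgroup ↥L) ∧ orderOf x = 2} =
        Subtype.val ⁻¹' (((W a : Subgroup G) : Set G) \ {1}) := by
      ext x
      constructor
      · rintro ⟨hx, hx2⟩
        refine ⟨hinvL a x x.2 hx.1 (congrArg Subtype.val (Basic.inv_sq_one hx2)), fun e => ?_⟩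
        exact Basic.ne_one hx2 (Subtype.ext e)
      · rintro ⟨hx, hx1⟩
        exact ⟨CL.W_le_Sa a hx, CL.orderOf_W hx fun e => hx1 (congrArg Subtype.val e)⟩
    rw [heq, Set.ncard_preimage_of_injective_subset_range Subtype.val_injective (fun w hw => by
        rw [Subtype.range_coe_subtype]; exact W_le_socle a hw.1),
      Set.ncard_sdiff_singleton_of_mem (one_mem (W a))] at h
    have h4 := C.four a
    have := Nat.one_le_two_pow (n := n)
    rw [← Nat.card_coe_set_eq] at h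
    change Nat.card ↥(W a) - 1 = _ at h
    omega
  have hP : ∀ a : Ω, Nat.card {g : G // g ∈ L ∧ g • a = a ∧ TwoEl g} = (2 ^ n) ^ i := by
    intro a
    rw [← (hd a).card_sylow]
    refine Nat.card_congr
      { toFun := fun g => ⟨⟨g.1, g.2.1⟩, g.2.2.1, g.2.2.2.imp fun k hk => Subtype.ext (by simpa using hk)⟩
        invFun := fun g => ⟨g.1.1, g.1.2, g.2.1, g.2.2.imp fun k hk => by simpa using congrArg Subtype.val hk⟩
        left_inv := fun _ => rfl
        right_inv := fun _ => rfl }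
  -- no 2-element fixes two points
  have heq1 : ∀ (h : G) (a b : Ω), a ≠ b → h • a = a → h • b = b → TwoEl h → h = 1 := by
    intro h a b hab ha hb h2
    obtain ⟨d, hdL, -, hda, hdb, hdtr, hd3⟩ := htor a b hab
    have hhi : h⁻¹ • a = a := by rw [inv_smul_eq_iff, ha]
    have hhd : Commute h d := by
      have hc2 : TwoEl (h * (d * h⁻¹ * d⁻¹)) :=
        C.closed a h _ ha (by rw [mul_smul, mul_smul, inv_smul_eq_iff.2 hda.symm, hhi, hda]) h2
          (h2.inv.conj d)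
      have hcL : h * (d * h⁻¹ * d⁻¹) ∈ L := by
        have h1 := C.socle_normal.conj_mem d hdL h
        rw [show h * (d * h⁻¹ * d⁻¹) = h * d * h⁻¹ * d⁻¹ by group]
        exact mul_mem h1 (inv_mem hdL)
      have := hL1 _ hcL a b hab
        (by rw [mul_smul, mul_smul, mul_smul, inv_smul_eq_iff.2 hda.symm, hhi, hda, ha])
        (by rw [mul_smul, mul_smul, mul_smul, inv_smul_eq_iff.2 hdb.symm, inv_smul_eq_iff.2 hb.symm,
          hdb, hb]) hc2
      rw [show h * (d * h⁻¹ * d⁻¹) = h * d * h⁻¹ * d⁻¹ by group, mul_inv_eq_one,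
        mul_inv_eq_iff_eq_mul] at this
      exact this
    have hhW : ∀ w ∈ W a, Commute h w := fun w hw => (C.central a w hw h ha h2).symm
    suffices hall : ∀ p ∈ L, p • a = a → TwoEl p → Commute h p by
      refine C.eq_one_of_fix_all fun c => ?_
      by_cases hca : c = a
      · rw [hca, ha]
      obtain ⟨p, hpL, hpa, hp2, rfl⟩ := hreg a b c hab.symm hca
      rw [smul_smul, (hall p hpL hpa hp2).eq, mul_smul, hb]
    obtain hi | hi | hi := (hd a).i_mem
    · -- the Sylow subgroup is elementary abelian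
      intro p hpL hpa hp2
      refine hhW p ?_
      classical
      have hsub : ∀ w : W a, (w : G) ∈ L ∧ (w : G) • a = a ∧ TwoEl (w : G) :=
        fun w => ⟨W_le_socle a w.2, C.fix a _ w.2, C.twoEl_W w.2⟩
      let f : ↥(W a) → {g : G // g ∈ L ∧ g • a = a ∧ TwoEl g} := fun w => ⟨w, hsub w⟩
      have hf : Function.Bijective f := by
        refine (Nat.bijective_iff_injective_and_card f).2
          ⟨fun v w e => Subtype.ext (congrArg Subtype.val e :), ?_⟩
        rw [hq1, hP, hi, pow_one]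
      obtain ⟨w, hw⟩ := hf.2 ⟨p, hpL, hpa, hp2⟩
      have e : (w : G) = p := congrArg Subtype.val hw
      exact e ▸ w.2
    · -- `p ↦ [h, p]` factors through squaring
      exact C.commute_two hi hq1 hP (fun a => (hd a).center_sq) hinvL hsqL hcommL hdL hda hdtr ha h2
        hhd hhW
    · obtain ⟨hirr, j, -, hjc, hjfpf⟩ := hd3 hi
      exact C.commute_three hinvL hsqL hcommL hdL hda hirr hjc hjfpf ha h2 hhd hhW
        (fun he => absurd (hP a) (by
          rw [hi]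
          intro e
          have h1 : Nat.card {g : G // g ∈ L ∧ g • a = a ∧ TwoEl g} ≤ Nat.card ↥(W a) :=
            Nat.card_le_card_of_injective (fun g => ⟨g.1, he g.1 g.2.1 g.2.2.1 g.2.2.2⟩)
              (fun g g' e => Subtype.ext (congrArg Subtype.val e :))
          rw [e, hq1] at h1
          have h2n : 2 ≤ 2 ^ n := le_self_pow₀ one_le_two (by have := (hd a).two_le; omega) |>.trans' le_rfl
          have : 2 ^ n < (2 ^ n) ^ 3 := lt_self_pow₀ (by omega) (by norm_num)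
          omega))
  have hSaL : ∀ (a : Ω) (g : G), g • a = a → TwoEl g → g ∈ L := by
    intro a g hga hg2
    obtain ⟨b, hb⟩ := C.exists_ne a
    obtain ⟨p, hpL, hpa, hp2, hpb⟩ := hreg a b (g • b) hb fun e => hb (smul_left_cancel g (e.trans hga.symm))
    have := heq1 (p⁻¹ * g) a b hb.symm (by rw [mul_smul, hga, inv_smul_eq_iff, hpa])
      (by rw [mul_smul, ← hpb, inv_smul_smul]) (C.closed a _ g (by rw [inv_smul_eq_iff, hpa]) hga hp2.inv hg2)
    rw [inv_mul_eq_one] at this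
    exact this ▸ hpL
  refine ⟨n, i, (hd (Classical.arbitrary Ω)).two_le, (hd (Classical.arbitrary Ω)).i_mem,
    (hd (Classical.arbitrary Ω)).suzuki_odd, hq1, ?_, fun a => ?_, heq1, fun a b c hb hc => ?_, ?_, ?_, ?_,
    fun a b hab => ?_⟩
  · -- the number of points
    obtain ⟨a⟩ := ‹Nonempty Ω›
    obtain ⟨b, hb⟩ := C.exists_ne a
    rw [← hP a]
    classical
    haveI := Fintype.ofFinite Ω
    have hbij : Nat.card {g : G // g ∈ L ∧ g • a = a ∧ TwoEl g} = Nat.card {c : Ω // c ≠ a} := by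
      refine Nat.card_eq_of_bijective (fun g => ⟨g.1 • b, fun e =>
        hb (smul_left_cancel g.1 (e.trans g.2.2.1.symm))⟩) ⟨fun g g' e => Subtype.ext ?_, fun c => ?_⟩
      · have e' : g.1 • b = g'.1 • b := congrArg Subtype.val e
        have := heq1 (g'.1⁻¹ * g.1) a b hb.symm
          (by rw [mul_smul, g.2.2.1, inv_smul_eq_iff, g'.2.2.1]) (by rw [mul_smul, e', inv_smul_smul])
          (C.closed a _ _ (by rw [inv_smul_eq_iff, g'.2.2.1]) g.2.2.1 g'.2.2.2.inv g.2.2.2)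
        rwa [inv_mul_eq_one, eq_comm] at this
      · obtain ⟨p, hpL, hpa, hp2, hpb⟩ := hreg a b c.1 hb c.2
        exact ⟨⟨p, hpL, hpa, hp2⟩, Subtype.ext hpb⟩
    rw [hbij, Nat.card_eq_fintype_card, Nat.card_eq_fintype_card, Fintype.card_subtype,
      Finset.filter_ne', Finset.card_erase_of_mem (Finset.mem_univ a), Finset.card_univ]
    have : 0 < Fintype.card Ω := Fintype.card_pos_iff.2 ⟨a⟩
    omega
  · rw [← hP a]
    exact Nat.card_congr (Equiv.subtypeEquivRight fun g =>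
      ⟨fun h => ⟨hSaL a g h.1 h.2, h⟩, fun h => h.2⟩)
  · obtain ⟨p, -, h⟩ := hreg a b c hb hc
    exact ⟨p, h⟩
  · exact fun a p hpa hpp => hinvL a p (hSaL a p hpa (twoEl_of_sq hpp)) hpa hpp
  · exact fun a p hpa hp2 => hsqL a p (hSaL a p hpa hp2) hpa hp2
  · intro a p hpa hp2 hc
    obtain ⟨k, hk⟩ := hp2
    have := (hd a).center_sq ⟨p, hSaL a p hpa ⟨k, hk⟩⟩ ⟨hpa, k, Subtype.ext (by simpa using hk)⟩
      (fun s hs => Subtype.ext (hc (s : G) hs.1 (hs.2.imp fun l hl => by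
        simpa using congrArg Subtype.val hl)).eq)
    simpa using congrArg Subtype.val this
  · obtain ⟨d, hdL, hdo, hda, hdb, hdtr, hd3⟩ := htor a b hab
    refine ⟨d, hdL, hdo, hda, hdb, hdtr, fun hi => ?_⟩
    obtain ⟨-, j, h1, h2, -⟩ := hd3 hi
    exact ⟨j, h1, h2⟩

end Conf

end Cfsg.Agent.DClassConf
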