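import Cfsg.Agent.Lib.DClassConf.Squares
import Cfsg.Agent.Lib.Involutions.ThompsonTransfer

/-!
# The linear case

For `i = 1` a second family lies in the group `R` of the first.  Squaring on `N = [R, d] W` then shows
that `Y` has order 2 and that the multi-point involutions of `S` form a coset `x N`, so that Thompson
transfer gives a subgroup of index 2.
-/

set_option autoImplicit false
set_option linter.style.haveILetI false
set_option linter.unusedSectionVars false

namespace Cfsg.Agent.DClassConf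

open MulAction Subgroup
open Cfsg.Agent.Involutions
open Cfsg.Agent.SETwoClosed (TwoEl twoEl_of_sq)

universe u

variable {G : Type u} [Group G] {Ω : Type u} [MulAction G Ω] {W : Ω → Subgroup G}

namespace Par

variable [IsSimpleGroup G] [Finite G] [Finite Ω] {n i : ℕ} (P : Par W n i)
include P

variable {a b : Ω} {x : G} (B : Block a b x)
include B

theorem exists_mul_W_of_centS (hi : i = 1) {c : G} (hc : c ∈ P.conf.centS a x) :
    ∃ v ∈ W a, c * v ∈ P.conf.kerS a b := by
  obtain ⟨hcS, hcx⟩ := P.conf.mem_centS.1 hc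
  obtain ⟨v, hv, hvb⟩ := P.exists_W_smul B hi (smul_mem_fixSet hcx B.hb)
    (fun e => B.hne (smul_left_cancel c (e.trans hcS.1.symm)))
  refine ⟨v, hv, (P.conf.Sa a).mul_mem hcS (P.conf.W_le_Sa a hv), ?_⟩
  show (c * v) • b = b
  rw [← (P.conf.central a v hv c hcS.1 hcS.2).eq, mul_smul, ← hvb, smul_smul, P.conf.sq a v hv, one_smul]

theorem centS_sq (hi : i = 1) {c : G} (hc : c ∈ P.conf.centS a x) : c * c = 1 := by
  obtain ⟨v, hv, hy⟩ := P.exists_mul_W_of_centS B hi hc
  obtain ⟨hcS, -⟩ := P.conf.mem_centS.1 hc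
  have := P.ker_sq B hy
  rwa [(P.conf.central a v hv c hcS.1 hcS.2).mul_mul_mul_comm, P.conf.sq a v hv, mul_one] at this

/-- A conjugating element of `S` sending `x` into `C_S(x)` lies in `R`. -/
theorem mem_famS_of_conj (hi : i = 1) {s : G} (hs : s ∈ P.conf.Sa a)
    (h : s * x * s⁻¹ ∈ P.conf.centS a x) : s ∈ P.conf.famS a x := by
  have C := P.conf
  set x' := s * x * s⁻¹
  obtain ⟨v, hv, hy⟩ := P.exists_mul_W_of_centS B hi h
  have hx'm : Multi Ω x' := B.multi.conj s
  have hne : x' * v ≠ 1 := fun e => C.not_mem_of_multi hx'm a (by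
    rw [mul_eq_one_iff_eq_inv.1 e]; exact inv_mem hv)
  obtain ⟨By, hfix, hcent⟩ := P.centS_eq B hy hne
  obtain ⟨r, hr, hry⟩ := P.exists_conj_mul By hv
  have hrx' : r * (x' * v) * r⁻¹ = x' := by rw [hry, mul_assoc, C.sq a v hv, mul_one]
  have hrf : r ∈ P.conf.famS a x := by
    rw [← P.famS_eq B hy hne]
    exact ⟨hr, by rw [hry, inv_mul_cancel_left]; exact hv⟩
  have hrs : (r⁻¹ * s) ∈ P.conf.centS a x := P.conf.mem_centS.2 ⟨(P.conf.Sa a).mul_mem (inv_mem hr) hs,
    P.commute_of_preserve B (P.mem_kerS_self B) B.multi.two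
      (fun q hq => (P.conf.mem_centS.1 (P.ker_le_centS B hq)).2) ((P.conf.Sa a).mul_mem (inv_mem hr) hs) (by
      refine hfix.le ?_
      have h2 : s • b ∈ fixSet Ω (r * (x' * v) * r⁻¹) := by
        rw [hrx']; exact mem_fixSet_conj.2 (show b ∈ fixSet Ω x from B.hb)
      rw [← smul_inv_smul r (s • b), mem_fixSet_conj] at h2
      rwa [mul_smul])⟩
  have := (P.conf.famS a x).mul_mem hrf (P.conf.centS_le_famS a x hrs)
  rwa [mul_inv_cancel_left] at this

theorem card_points_one (hi : i = 1) : Nat.card Ω = (2 ^ n) ^ 3 + 1 := by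
  have h := P.conf.card_points B.multi (fun y hy => P.toEnv.transAt hy) B.ha
  rw [P.nfix_eq B.multi, P.card_W B.multi, hi, pow_one, Nat.add_sub_cancel] at h
  have h1 := Nat.one_le_two_pow (n := n)
  obtain ⟨q, hq⟩ := Nat.exists_eq_add_of_le h1
  rw [h, hq, Nat.add_sub_cancel_left]
  ring

/-- The points whose kernel meets `x W` in a block. -/
theorem ncard_covered_translates (hi : i = 1) :
    {c : Ω | c ≠ a ∧ ∃ v ∈ W a, (x * v) • c = c}.ncard = 2 ^ n * 2 ^ n := by
  classical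
  rw [← Nat.card_coe_set_eq]
  have hS : ∀ v : ↥(W a), Nat.card ↥(fixSet Ω (x * (v : G)) \ {a}) = 2 ^ n := fun v => by
    rw [Nat.card_coe_set_eq, Set.ncard_sdiff_singleton_of_mem
      (show a ∈ fixSet Ω (x * (v : G)) from by
        show (x * (v : G)) • a = a
        rw [mul_smul, P.conf.fix a _ v.2, B.ha]),
      ← Nat.card_coe_set_eq, card_fixSet, P.nfix_eq (P.multi_xw B v.2), hi, pow_one, Nat.add_sub_cancel]
  haveI := Fintype.ofFinite ↥(W a)
  calc _ = Nat.card (Σ v : ↥(W a), ↥(fixSet Ω (x * (v : G)) \ {a})) := by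
        refine (Nat.card_eq_of_bijective (fun p : Σ v : ↥(W a), ↥(fixSet Ω (x * (v : G)) \ {a}) =>
          (⟨p.2.1, p.2.2.2, p.1, p.1.2, p.2.2.1⟩ : {c : Ω // c ≠ a ∧ ∃ v ∈ W a, (x * v) • c = c}))
          ⟨?_, ?_⟩).symm
        · rintro ⟨⟨v, hv⟩, c, hc, hca⟩ ⟨⟨v', hv'⟩, c', hc', hca'⟩ e
          obtain rfl : c = c' := congrArg Subtype.val e
          obtain rfl : v = v' := by
            by_contra hne
            have Bv : Block a c (x * v) :=
              ⟨P.multi_xw B hv, by rw [mul_smul, P.conf.fix a v hv, B.ha], hc, hca⟩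
            refine hca (P.fix_xw_inter Bv (w := v⁻¹ * v') (mul_mem (inv_mem hv) hv') (fun h => hne ?_) hc ?_)
            · exact inv_mul_eq_one.1 h
            · rwa [mul_assoc, mul_inv_cancel_left]
          rfl
        · rintro ⟨c, hca, v, hv, hc⟩
          exact ⟨⟨⟨v, hv⟩, c, hc, hca⟩, rfl⟩
    _ = _ := by
        rw [Nat.card_sigma, Finset.sum_congr rfl fun v _ => hS v, Finset.sum_const, Finset.card_univ,
          smul_eq_mul, ← Nat.card_eq_fintype_card, P.card_W B.multi]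

/-- `S` acts semiregularly on the points without a kernel. -/
theorem card_Sa_dvd_free (T : Set Ω) (hT : ∀ s ∈ P.conf.Sa a, ∀ c ∈ T, s • c ∈ T)
    (hfree : ∀ c ∈ T, ∀ s ∈ P.conf.Sa a, s • c = c → s = 1) :
    Nat.card ↥(P.conf.Sa a) ∣ T.ncard := by
  classical
  let A : SubMulAction ↥(P.conf.Sa a) Ω := ⟨T, fun s {c} hc => hT s s.2 c hc⟩
  haveI : Fintype (MulAction.orbitRel.Quotient ↥(P.conf.Sa a) ↥A) := Fintype.ofFinite _
  have h2 := Nat.card_congr (MulAction.selfEquivSigmaOrbits' ↥(P.conf.Sa a) ↥A)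
  rw [← Nat.card_coe_set_eq, show Nat.card ↥T = Nat.card ↥A from rfl, h2, Nat.card_sigma]
  refine Finset.dvd_sum fun ω _ => ?_
  induction ω using Quotient.inductionOn' with
  | h c =>
    rw [MulAction.orbitRel.Quotient.orbit_mk, Nat.card_congr (MulAction.orbitEquivQuotientStabilizer _ c)]
    have hst : MulAction.stabilizer ↥(P.conf.Sa a) c = ⊥ := by
      rw [eq_bot_iff]
      intro s hs
      exact Subtype.ext (hfree c.1 c.2 s s.2 (congrArg Subtype.val hs))
    rw [hst]
    exact dvd_of_eq (Nat.card_congr QuotientGroup.quotientBot.toEquiv).symm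

/-- If `R ≠ S` a conjugate of `x` gives a second family in `R`. -/
theorem exists_second_of_ne (hi : i = 1) (hR : P.conf.famS a x ≠ P.conf.Sa a) :
    ∃ (b' : Ω) (x' : G), Block a b' x' ∧
    P.conf.famS a x' = P.conf.famS a x ∧ x' ∉ P.conf.centS a x := by
  classical
  have C := P.conf
  haveI : Nonempty Ω := ⟨a⟩
  haveI := P.conf.faithful
  set R := P.conf.famS a x
  · -- conjugate by an element of `S` normalising `R`
    haveI : Group.IsNilpotent ↥(P.conf.Sa a) := by
      haveI := Fact.mk Nat.prime_two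
      exact (P.conf.isPGroup_Sa a).isNilpotent
    obtain ⟨s, hs, hsR⟩ : ∃ s ∈ normalizer (R.subgroupOf (P.conf.Sa a) : Set ↥(P.conf.Sa a)),
        s ∉ R.subgroupOf (P.conf.Sa a) := by
      by_contra! h
      refine hR (le_antisymm (fun r hr => hr.1) fun r hr => ?_)
      have := normalizerCondition_iff_only_full_group_self_normalizing.1
        Group.normalizerCondition_of_isNilpotent _ (le_antisymm h le_normalizer)
      exact this.ge (mem_top (⟨r, hr⟩ : ↥(P.conf.Sa a)))
    refine ⟨(s : G) • b, (s : G) * x * (s : G)⁻¹, ⟨B.multi.conj _, ?_, ?_,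
      fun e => B.hne (smul_left_cancel (s : G) (e.trans s.2.1.symm))⟩, ?_, fun h => hsR (P.mem_famS_of_conj B hi s.2 h)⟩
    · rw [mul_smul, mul_smul, inv_smul_eq_iff.2 s.2.1.symm, B.ha, s.2.1]
    · exact mem_fixSet_conj.2 (show b ∈ fixSet Ω x from B.hb)
    · ext r
      have hsi : (s : G)⁻¹ ∈ P.conf.Sa a := inv_mem s.2
      have key : r ∈ P.conf.famS a ((s : G) * x * (s : G)⁻¹) ↔ (s : G)⁻¹ * r * s ∈ R := by
        simp only [R, P.conf.mem_famS]
        refine and_congr ⟨fun h => mul_mem (mul_mem hsi h) s.2, fun h => ?_⟩ ?_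
        · have := (P.conf.Sa a).mul_mem ((P.conf.Sa a).mul_mem s.2 h) hsi
          simpa [mul_assoc] using this
        · have e : ((s : G) * x * (s : G)⁻¹)⁻¹ * (r * ((s : G) * x * (s : G)⁻¹) * r⁻¹) =
              (s : G) * (x⁻¹ * ((s : G)⁻¹ * r * s * x * ((s : G)⁻¹ * r * s)⁻¹)) * (s : G)⁻¹ := by group
          rw [e]
          refine ⟨fun h => ?_, fun h => smul_W_eq_of_smul C h s.2.1⟩
          have := smul_W_eq_of_smul C h hsi.1
          simpa [mul_assoc] using this
      rw [key]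
      constructor
      · intro h
        have hrS : r ∈ P.conf.Sa a := by
          have := (P.conf.Sa a).mul_mem ((P.conf.Sa a).mul_mem s.2 h.1) hsi
          simpa [mul_assoc] using this
        have := (mem_normalizer_iff.1 hs ⟨(s : G)⁻¹ * r * s, h.1⟩).1 h
        simpa [mem_subgroupOf, mul_assoc] using this
      · intro h
        exact (mem_normalizer_iff''.1 hs ⟨r, h.1⟩).1 h

/-- Some family has a second one in its `R`. -/
theorem exists_second (hi : i = 1) : ∃ (b₀ : Ω) (x₀ : G) (b' : Ω) (x' : G), Block a b₀ x₀ ∧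
    Block a b' x' ∧ P.conf.famS a x' = P.conf.famS a x₀ ∧ x' ∉ P.conf.centS a x₀ := by
  classical
  have C := P.conf
  haveI : Nonempty Ω := ⟨a⟩
  haveI := P.conf.faithful
  set R := P.conf.famS a x
  by_cases hR : R = P.conf.Sa a
  swap
  · obtain ⟨b', x', h1, h2, h3⟩ := P.exists_second_of_ne B hi hR
    exact ⟨b, x, b', x', B, h1, h2, h3⟩
  -- otherwise count the points
  obtain ⟨z, hz, hzC⟩ : ∃ z, Multi Ω z ∧ z ∈ P.conf.Sa a ∧ z ∉ P.conf.centS a x := by
    by_contra! h
    set T : Set Ω := {c | c ≠ a ∧ ∀ v ∈ W a, (x * v) • c ≠ c}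
    have hkerT : ∀ c ∈ T, ∀ s ∈ P.conf.Sa a, s • c = c → s = 1 := by
      intro c hc s hs hsc
      by_contra hs1
      obtain ⟨l, hl⟩ := exists_involution_pow hs.2 hs1
      have hlS := (P.conf.Sa a).pow_mem hs l
      have hm := P.multi_of_fix_two hl hc.1 hlS.1
        (mem_stabilizer_iff.1 (pow_mem (mem_stabilizer_iff.2 hsc) l))
      have hC' := h _ hm hlS
      obtain ⟨v, hv, hy⟩ := P.exists_mul_W_of_centS B hi hC'
      have hne : s ^ l * v ≠ 1 := fun e => C.not_mem_of_multi hm a (by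
        rw [mul_eq_one_iff_eq_inv.1 e]; exact inv_mem hv)
      obtain ⟨By, hfix, -⟩ := P.centS_eq B hy hne
      obtain ⟨r, hr, hry⟩ := P.exists_conj_mul By hv
      have hcl : (s ^ l) • c = c := mem_stabilizer_iff.1 (pow_mem (mem_stabilizer_iff.2 hsc) l)
      have h1 : c ∈ fixSet Ω (r * (s ^ l * v) * r⁻¹) := by
        rw [hry, mul_assoc, C.sq a v hv, mul_one]; exact hcl
      rw [← smul_inv_smul r c, mem_fixSet_conj, hfix] at h1
      have hrf : r ∈ R := by rw [hR]; exact hr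
      refine hc.2 _ hrf.2 ?_
      have h2 : r • r⁻¹ • c ∈ fixSet Ω (r * x * r⁻¹) := mem_fixSet_conj.2 h1
      rw [smul_inv_smul] at h2
      rw [mul_inv_cancel_left]
      exact h2
    have hTinv : ∀ s ∈ P.conf.Sa a, ∀ c ∈ T, s • c ∈ T := by
      intro s hs c hc
      refine ⟨fun e => hc.1 (smul_left_cancel s (e.trans hs.1.symm)), fun v hv e => ?_⟩
      have hsR : s⁻¹ ∈ R := by rw [hR]; exact inv_mem hs
      refine hc.2 ((x⁻¹ * (s⁻¹ * x * s⁻¹⁻¹)) * v) (mul_mem hsR.2 hv) ?_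
      have h3 : (s⁻¹ * (x * v) * s⁻¹⁻¹) • c = c := by
        rw [mul_smul, mul_smul, inv_inv, e, inv_smul_smul]
      rw [← mul_assoc, mul_inv_cancel_left]
      rwa [show s⁻¹ * (x * v) * s⁻¹⁻¹ = s⁻¹ * x * s⁻¹⁻¹ * (s⁻¹ * v * s⁻¹⁻¹) by group,
        ← (C.central a v hv s⁻¹ hsR.1.1 hsR.1.2).eq, mul_inv_cancel_right] at h3
    have hdvd := P.card_Sa_dvd_free B T hTinv hkerT
    have hTc : T.ncard + 2 ^ n * 2 ^ n + 1 = Nat.card Ω := by
      have hdis : Disjoint T {c : Ω | c ≠ a ∧ ∃ v ∈ W a, (x * v) • c = c} :=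
        Set.disjoint_left.2 fun c hc hc' => by
          obtain ⟨-, v, hv, hv'⟩ := hc'
          exact hc.2 v hv hv'
      rw [← P.ncard_covered_translates B hi, ← Set.ncard_univ Ω, ← Set.ncard_union_eq hdis (Set.toFinite _) (Set.toFinite _),
        ← Set.ncard_insert_of_notMem (a := a) (fun h => h.elim (fun h => h.1 rfl) (fun h => h.1 rfl))
          (Set.toFinite _)]
      congr 1
      ext c
      simp only [Set.mem_insert_iff, Set.mem_union, Set.mem_univ, iff_true, T, Set.mem_setOf_eq]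
      by_cases hca : c = a
      · exact Or.inl hca
      by_cases hex : ∃ v ∈ W a, (x * v) • c = c
      · exact Or.inr (Or.inr ⟨hca, hex⟩)
      · exact Or.inr (Or.inl ⟨hca, fun v hv e => hex ⟨v, hv, e⟩⟩)
    rw [P.card_points_one B hi] at hTc
    have hS : Nat.card ↥(P.conf.Sa a) = 2 ^ n * (Nat.card ↥(P.conf.kerS a b) * 2 ^ n) := by
      rw [← hR, P.card_famS B, P.card_centS B, show (2 ^ n) ^ i = 2 ^ n by rw [hi, pow_one]]
    rw [hS] at hdvd
    have hT2 : T.ncard = 2 ^ n * 2 ^ n * (2 ^ n - 1) := by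
      have h1 := Nat.one_le_two_pow (n := n)
      obtain ⟨q, hq⟩ := Nat.exists_eq_add_of_le h1
      rw [hq, Nat.add_sub_cancel_left]
      rw [hq] at hTc
      have : (1 + q) ^ 3 = (1 + q) * (1 + q) * q + (1 + q) * (1 + q) := by ring
      omega
    rw [hT2, ← mul_assoc, mul_comm (2 ^ n) (Nat.card ↥(P.conf.kerS a b)), mul_assoc,
      mul_comm (Nat.card ↥(P.conf.kerS a b))] at hdvd
    have hk : Nat.card ↥(P.conf.kerS a b) ∣ 2 ^ n - 1 :=
      Nat.dvd_of_mul_dvd_mul_left (Nat.mul_pos Nat.one_le_two_pow Nat.one_le_two_pow) hdvd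
    haveI := Fact.mk Nat.prime_two
    have hY2 : IsPGroup 2 ↥(P.conf.kerS a b) := (P.conf.isPGroup_Sa a).to_le inf_le_left
    obtain ⟨k, hk2⟩ := IsPGroup.iff_card.1 hY2
    have hk0 : k ≠ 0 := by
      intro h0
      rw [h0, pow_zero] at hk2
      exact Basic.ne_one B.multi.two ((Subgroup.eq_bot_of_card_eq _ hk2).le (P.mem_kerS_self B))
    rw [hk2] at hk
    have h2 : 2 ∣ 2 ^ n - 1 := (dvd_pow_self 2 hk0).trans hk
    have h4 : 2 ∣ 2 ^ n := dvd_pow_self 2 (by have := P.two_le B.multi; omega)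
    have := Nat.one_le_two_pow (n := n)
    omega
  obtain ⟨p, q, hpq, hp, hq⟩ := hz.fix_two
  obtain ⟨c, hc, hca⟩ : ∃ c, z • c = c ∧ c ≠ a := by
    by_cases hpa : p = a
    · exact ⟨q, hq, fun e => hpq (hpa.trans e.symm)⟩
    · exact ⟨p, hp, hpa⟩
  have Bz : Block a c z := ⟨hz, hzC.1.1, hc, hca⟩
  by_cases hz' : P.conf.famS a z = P.conf.Sa a
  · exact ⟨b, x, c, z, B, Bz, hz'.trans hR.symm, hzC.2⟩
  · obtain ⟨b', x', h1, h2, h3⟩ := P.exists_second_of_ne Bz hi hz'
    exact ⟨c, z, b', x', Bz, h1, h2, h3⟩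

end Par

end Cfsg.Agent.DClassConf
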