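import Cfsg.Agent.Lib.DClassConf.One

/-!
# The linear case is impossible
-/

set_option autoImplicit false
set_option linter.style.haveILetI false
set_option linter.unusedSectionVars false

namespace Cfsg.Agent.DClassConf

open MulAction Subgroup
open Cfsg.Agent.Involutions
open Cfsg.Agent.SETwoClosed (TwoEl twoEl_of_sq)

universe u

variable {G : Type u} [Group G] {Ω : Type u} [MulAction G Ω] {W : Ω → Subgroup G}

/-- A maximal subgroup avoiding an element above a subgroup containing all squares has index two. -/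
theorem exists_half [Finite G] {S N : Subgroup G} {x : G} (hNS : N ≤ S) (hx : x ∈ S) (hxN : x ∉ N)
    (hconj : ∀ s ∈ S, ∀ m ∈ N, s * m * s⁻¹ ∈ N) (hsq : ∀ s ∈ S, s * s ∈ N) :
    ∃ H : Subgroup G, N ≤ H ∧ H ≤ S ∧ x ∉ H ∧ (∀ s ∈ S, s ∈ H ∨ x * s ∈ H) := by
  classical
  obtain ⟨H, ⟨hNH, hHS, hxH⟩, hmax⟩ :=
    Set.exists_max_image {H : Subgroup G | N ≤ H ∧ H ≤ S ∧ x ∉ H} (fun H => Nat.card ↥H)
      (Set.toFinite _) ⟨N, le_rfl, hNS, hxN⟩
  refine ⟨H, hNH, hHS, hxH, fun s hs => ?_⟩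
  by_contra! hne
  have hcomm : ∀ r ∈ S, ∀ h ∈ H, r * h * r⁻¹ ∈ H := fun r hr h hh => by
    have hh' := hHS hh
    have h1 := hsq (r * h) (mul_mem hr hh')
    have h2 := hconj h⁻¹ (inv_mem hh') _ (hsq r⁻¹ (inv_mem hr))
    rw [inv_inv] at h2
    have h3 := hsq h⁻¹ (inv_mem hh')
    rw [show r * h * r⁻¹ = r * h * (r * h) * (h⁻¹ * (r⁻¹ * r⁻¹) * h) * (h⁻¹ * h⁻¹) * h by group]
    exact mul_mem (hNH (mul_mem (mul_mem h1 h2) h3)) hh
  -- the subgroup `H ∪ H s`
  let H' : Subgroup G :=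
    { carrier := {g | g ∈ S ∧ (g ∈ H ∨ g * s ∈ H)}
      one_mem' := ⟨one_mem _, Or.inl (one_mem _)⟩
      mul_mem' := fun {g k} hg hk => ⟨mul_mem hg.1 hk.1, by
        rcases hg.2 with h1 | h1 <;> rcases hk.2 with h2 | h2
        · exact Or.inl (mul_mem h1 h2)
        · exact Or.inr (by rw [mul_assoc]; exact mul_mem h1 h2)
        · refine Or.inr ?_
          rw [show g * k * s = g * s * (s⁻¹ * k * s⁻¹⁻¹) by group]
          exact mul_mem h1 (hcomm _ (inv_mem hs) _ h2)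
        · refine Or.inl ?_
          rw [show g * k = g * s * (s⁻¹ * (k * s) * s⁻¹⁻¹) * (s * s)⁻¹ by group]
          exact mul_mem (mul_mem h1 (hcomm _ (inv_mem hs) _ h2)) (inv_mem (hNH (hsq s hs)))⟩
      inv_mem' := fun {g} hg => ⟨inv_mem hg.1, by
        rcases hg.2 with h1 | h1
        · exact Or.inl (inv_mem h1)
        · refine Or.inr ?_
          rw [show g⁻¹ * s = s * (g * s)⁻¹ * s⁻¹ * (s * s) by group]
          exact mul_mem (hcomm _ hs _ (inv_mem h1)) (hNH (hsq s hs))⟩ }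
  have hle : H ≤ H' := fun g hg => ⟨hHS hg, Or.inl hg⟩
  have hsH' : s ∈ H' := ⟨hs, Or.inr (hNH (hsq s hs))⟩
  by_cases hxH' : x ∈ H'
  · rcases hxH'.2 with h | h
    · exact hxH h
    · exact hne.2 h
  have hcard := hmax H' ⟨hNH.trans hle, fun g hg => hg.1, hxH'⟩
  exact hne.1 ((Subgroup.eq_of_le_of_card_ge hle hcard).ge hsH')

namespace Par

variable [IsSimpleGroup G] [Finite G] [Finite Ω] {n i : ℕ} (P : Par W n i)
include P

theorem covered_of_mem_centS {a b : Ω} {x : G} (B : Block a b x) (hi : i = 1) {z : G} {c : Ω}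
    (hz : Multi Ω z) (hzC : z ∈ P.conf.centS a x) (hzc : z • c = c) :
    ∃ v ∈ W a, (x * v) • c = c := by
  have C := P.conf
  obtain ⟨v, hv, hy⟩ := P.exists_mul_W_of_centS B hi hzC
  have hne : z * v ≠ 1 := fun e => C.not_mem_of_multi hz a (by
    rw [mul_eq_one_iff_eq_inv.1 e]; exact inv_mem hv)
  obtain ⟨By, hfix, -⟩ := P.centS_eq B hy hne
  obtain ⟨r, hr, hry⟩ := P.exists_conj_mul By hv
  have h1 : c ∈ fixSet Ω (r * (z * v) * r⁻¹) := by
    rw [hry, mul_assoc, C.sq a v hv, mul_one]; exact hzc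
  rw [← smul_inv_smul r c, mem_fixSet_conj, hfix] at h1
  have hrR : r ∈ P.conf.famS a x := by
    rw [← P.famS_eq B hy hne]
    exact ⟨hr, by rw [hry, inv_mul_cancel_left]; exact hv⟩
  refine ⟨_, hrR.2, ?_⟩
  have h2 : r • r⁻¹ • c ∈ fixSet Ω (r * x * r⁻¹) := mem_fixSet_conj.2 h1
  rw [smul_inv_smul] at h2
  rw [mul_inv_cancel_left]
  exact h2

/-- The linear case does not occur. -/
theorem false_of_linear (hi : i = 1) {x₁ : G} (hx₁ : Multi Ω x₁) : False := by
  classical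
  obtain ⟨a, b₁, hab, ha, hb⟩ := hx₁.fix_two
  obtain ⟨b, x, b', x', B, B', hR', hx'C⟩ := P.exists_second (x := x₁) ⟨hx₁, ha, hb, hab.symm⟩ hi
  have C := P.conf
  haveI : Nonempty Ω := ⟨a⟩
  haveI := P.conf.faithful
  haveI := Fact.mk Nat.prime_two
  set S := P.conf.Sa a
  set R := P.conf.famS a x with hRdef
  set Y := P.conf.kerS a b
  set C0 := P.conf.centS a x
  have hxY : x ∈ Y := P.mem_kerS_self B
  have hxC : x ∈ C0 := P.ker_le_centS B hxY
  have hCR : C0 ≤ R := P.conf.centS_le_famS a x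
  have hxx := Basic.inv_sq_one B.multi.two
  have hWR : W a ≤ R := fun w hw => hCR (P.conf.mem_centS.2 ⟨P.conf.W_le_Sa a hw,
    (P.conf.commute_W B.multi.two B.ha hw).symm⟩)
  have hWC : ∀ w ∈ W a, ∀ r ∈ R, Commute w r := fun w hw r hr => C.central a w hw r hr.1.1 hr.1.2
  -- the two centralizers meet in `W a`
  have hCC : ∀ c ∈ C0, Commute c x' → c ∈ W a := by
    intro c hc hcx
    obtain ⟨v, hv, hy⟩ := P.exists_mul_W_of_centS B hi hc
    by_contra hcW
    have hne : c * v ≠ 1 := fun e => hcW (by rw [mul_eq_one_iff_eq_inv.1 e]; exact inv_mem hv)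
    obtain ⟨-, -, hcent⟩ := P.centS_eq B hy hne
    refine hx'C ?_
    show x' ∈ P.conf.centS a x
    rw [← hcent]
    refine P.conf.mem_centS.2 ⟨(P.mem_kerS_self B').1, (hcx.symm.mul_right ?_)⟩
    exact P.conf.commute_W B'.multi.two B'.ha hv
  -- the homomorphism to `W a`
  set f : G → G := fun r => x⁻¹ * (r * x * r⁻¹) with hfdef
  have hf : ∀ r ∈ R, f r ∈ W a := fun r hr => hr.2
  have hfmul : ∀ r ∈ R, ∀ s ∈ R, f (r * s) = f r * f s := fun r hr s hs => by
    have hc : Commute r (f s) := (hWC _ (hf s hs) r hr).symm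
    simp only [hfdef] at hc ⊢
    rw [show x⁻¹ * (r * s * x * (r * s)⁻¹) = x⁻¹ * (r * x * r⁻¹) * (r * (x⁻¹ * (s * x * s⁻¹)) * r⁻¹) by
      group, hc.eq, mul_inv_cancel_right]
  have hf0 : ∀ r ∈ R, f r = 1 → r ∈ C0 := fun r hr h => by
    refine P.conf.mem_centS.2 ⟨hr.1, ?_⟩
    simp only [hfdef, inv_mul_eq_one] at h
    exact mul_inv_eq_iff_eq_mul.1 h.symm
  have hf1 : ∀ r ∈ C0, f r = 1 := fun r hr => by
    simp only [hfdef]; rw [(P.conf.mem_centS.1 hr).2.eq, mul_inv_cancel_right, inv_mul_cancel]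
  have hsq : ∀ r ∈ R, r * r ∈ W a := fun r hr => by
    refine hCC _ (hf0 _ (mul_mem hr hr) ?_) ?_
    · rw [hfmul r hr r hr, C.sq a _ (hf r hr)]
    · have hr' : r ∈ P.conf.famS a x' := hR'.symm ▸ hr
      set w := x'⁻¹ * (r * x' * r⁻¹) with hw
      have e : r * x' * r⁻¹ = x' * w := by rw [hw, mul_inv_cancel_left]
      have hc : Commute r w := (hWC _ hr'.2 r hr).symm
      refine mul_inv_eq_iff_eq_mul.1 ?_
      calc r * r * x' * (r * r)⁻¹ = r * (r * x' * r⁻¹) * r⁻¹ := by group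
        _ = r * x' * r⁻¹ * w := by rw [e, mul_assoc r, mul_assoc x', ← hc.inv_left.eq, ← mul_assoc x',
            ← mul_assoc r, ← mul_assoc r, e]
        _ = x' := by rw [e, mul_assoc, C.sq a w hr'.2, mul_one]
  have hcomm : ∀ r ∈ R, ∀ s ∈ R, r * s * r⁻¹ * s⁻¹ ∈ W a := fun r hr s hs => by
    have h1 := hsq _ (inv_mem hr)
    rw [show r * s * r⁻¹ * s⁻¹ = (r * s) * (r * s) * (s⁻¹ * (r⁻¹ * r⁻¹) * s) * (s⁻¹ * s⁻¹) by group,
      show s⁻¹ * (r⁻¹ * r⁻¹) = r⁻¹ * r⁻¹ * s⁻¹ from ((hWC _ h1 s hs).inv_right.symm.eq),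
      inv_mul_cancel_right]
    exact mul_mem (mul_mem (hsq _ (mul_mem hr hs)) h1) (hsq _ (inv_mem hs))
  -- the torus
  obtain ⟨d, hdo, hda, -, hdord, hdY, hdt, hdfpf⟩ := P.exists_torus B
  have hdx : Commute d x := hdY x hxY
  have hd1 : d ≠ 1 := by
    intro e
    rw [e, orderOf_one] at hdord
    have : 2 ^ 2 ≤ 2 ^ n := Nat.pow_le_pow_right two_pos (P.two_le B.multi)
    omega
  have hfd : ∀ r, f (d * r * d⁻¹) = d * f r * d⁻¹ := fun r => by
    have e2 : d * x⁻¹ = x⁻¹ * d := hdx.inv_right.eq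
    have e3 : d * x * d⁻¹ = x := by rw [hdx.eq, mul_inv_cancel_right]
    simp only [hfdef]
    calc x⁻¹ * (d * r * d⁻¹ * x * (d * r * d⁻¹)⁻¹)
        = x⁻¹ * (d * r * d⁻¹ * (d * x * d⁻¹) * (d * r * d⁻¹)⁻¹) := by rw [e3]
      _ = (x⁻¹ * d) * (r * x * r⁻¹) * d⁻¹ := by group
      _ = _ := by rw [← e2]; group
  have hdR : ∀ r ∈ R, d * r * d⁻¹ ∈ R := fun r hr => by
    refine ⟨P.conf.Sa_normal hda hr.1, ?_⟩
    show f (d * r * d⁻¹) ∈ W a
    rw [hfd]
    exact smul_W_eq_of_smul C (hf r hr) hda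
  have hdfix : ∀ u ∈ W a, d * u * d⁻¹ = u → u = 1 := fun u hu h => by
    by_contra hu1
    refine hd1 ?_
    have := hdfpf 1 u hu hu1 (by rw [pow_one]; exact mul_inv_eq_iff_eq_mul.1 h)
    rwa [pow_one] at this
  -- the subgroup `N`
  let WR := (W a).subgroupOf R
  haveI hWRn : WR.Normal := ⟨fun w hw r => by
    show (r : G) * w * (r : G)⁻¹ ∈ W a
    have hc : Commute ((w : ↥R) : G) (r : G) := hWC _ hw r r.2
    rw [← hc.eq, mul_inv_cancel_right]; exact hw⟩
  let ψ : ↥R →* ↥R ⧸ WR := MonoidHom.mk'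
    (fun r => ((⟨d * r * d⁻¹ * (r : G)⁻¹, mul_mem (hdR r r.2) (inv_mem r.2)⟩ : ↥R) : ↥R ⧸ WR))
    fun r s => by
      rw [← QuotientGroup.mk_mul, QuotientGroup.eq]
      show (d * (r * s : G) * d⁻¹ * (r * s : G)⁻¹)⁻¹ *
        (d * r * d⁻¹ * (r : G)⁻¹ * (d * s * d⁻¹ * (s : G)⁻¹)) ∈ W a
      have hv : d * s * d⁻¹ * (s : G)⁻¹ ∈ R := mul_mem (hdR s s.2) (inv_mem s.2)
      rw [show (d * (r * s : G) * d⁻¹ * (r * s : G)⁻¹)⁻¹ *
        (d * r * d⁻¹ * (r : G)⁻¹ * (d * s * d⁻¹ * (s : G)⁻¹)) =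
        (r : G) * (d * s * d⁻¹ * (s : G)⁻¹)⁻¹ * (r : G)⁻¹ * (d * s * d⁻¹ * (s : G)⁻¹)⁻¹⁻¹ by group]
      exact hcomm _ r.2 _ (inv_mem hv)
  let N : Subgroup G := (ψ.range.comap (QuotientGroup.mk' WR)).map R.subtype
  have hNR : N ≤ R := by rintro _ ⟨r, -, rfl⟩; exact r.2
  have hNmem : ∀ {s : G}, s ∈ N ↔ s ∈ R ∧ ∃ r ∈ R, (d * r * d⁻¹ * r⁻¹)⁻¹ * s ∈ W a := by
    intro s
    constructor
    · rintro ⟨⟨s, hs⟩, ⟨r, hr⟩, rfl⟩
      rw [MonoidHom.mk'_apply, QuotientGroup.mk'_apply, QuotientGroup.eq] at hr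
      exact ⟨hs, r, r.2, hr⟩
    · rintro ⟨hs, r, hr, h⟩
      exact ⟨⟨s, hs⟩, ⟨⟨r, hr⟩, QuotientGroup.eq.2 h⟩, rfl⟩
  have hWN : W a ≤ N := fun w hw => hNmem.2 ⟨hWR hw, 1, one_mem _, by simpa using hw⟩
  have hfdr : ∀ r ∈ R, f (d * r * d⁻¹ * r⁻¹) = d * f r * d⁻¹ * f r := fun r hr => by
    rw [hfmul _ (hdR r hr) _ (inv_mem hr), hfd]
    congr 1
    have h := hfmul r hr r⁻¹ (inv_mem hr)
    rw [mul_inv_cancel, hf1 1 (one_mem _), eq_comm, mul_eq_one_iff_eq_inv] at h
    have h2 : f r⁻¹ = (f r)⁻¹ := by rw [h, inv_inv]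
    rw [h2]
    exact inv_eq_of_mul_eq_one_right (C.sq a _ (hf r hr))
  have hfN : ∀ s ∈ R, ∀ r ∈ R, (d * r * d⁻¹ * r⁻¹)⁻¹ * s ∈ W a → f s = d * f r * d⁻¹ * f r := by
    intro s hs r hr h
    have hk : d * r * d⁻¹ * r⁻¹ ∈ R := mul_mem (hdR r hr) (inv_mem hr)
    have h1 := hfmul _ hk _ (hWR h)
    rw [mul_inv_cancel_left, hf1 _ (P.conf.mem_centS.2 ⟨P.conf.W_le_Sa a h,
      (P.conf.commute_W B.multi.two B.ha h).symm⟩), mul_one] at h1
    rw [h1, hfdr r hr]
  have hNC : ∀ s ∈ N, s ∈ C0 → s ∈ W a := by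
    intro s hs hsC
    obtain ⟨hsR, r, hr, h⟩ := hNmem.1 hs
    have h1 := hfN s hsR r hr h
    rw [hf1 s hsC, eq_comm, mul_eq_one_iff_eq_inv,
      inv_eq_of_mul_eq_one_right (C.sq a _ (hf r hr))] at h1
    have hrC := hf0 r hr (hdfix _ (hf r hr) h1)
    obtain ⟨v, hv, hy⟩ := P.exists_mul_W_of_centS B hi hrC
    have hk : d * r * d⁻¹ * r⁻¹ ∈ W a := by
      have e : r = r * v * v := by rw [mul_assoc, C.sq a v hv, mul_one]
      have hc1 : d * (r * v) * d⁻¹ = r * v := by rw [(hdY _ hy).eq, mul_inv_cancel_right]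
      rw [e, show d * (r * v * v) * d⁻¹ * (r * v * v)⁻¹ =
        d * (r * v) * d⁻¹ * (d * v * d⁻¹ * v⁻¹) * (r * v)⁻¹ by group, hc1]
      have hw := mul_mem (smul_W_eq_of_smul C hv hda) (inv_mem hv)
      rw [← (hWC _ hw (r * v) (mul_mem hr (hWR hv))).eq, mul_inv_cancel_right]
      exact hw
    have := mul_mem hk h
    rwa [mul_inv_cancel_left] at this
  have hNsurj : ∀ w ∈ W a, ∃ m ∈ N, f m = w := by
    let g : ↥(W a) → ↥(W a) := fun u => ⟨d * u * d⁻¹ * u, mul_mem (smul_W_eq_of_smul C u.2 hda) u.2⟩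
    have hg : Function.Injective g := fun u v e => by
      have e' : d * (u : G) * d⁻¹ * u = d * (v : G) * d⁻¹ * v := congrArg Subtype.val e
      have huv := mul_mem u.2 v.2
      have hp := smul_W_eq_of_smul C u.2 hda
      have h := hdfix _ huv (by
        calc d * ((u : G) * v) * d⁻¹ = d * u * d⁻¹ * (d * v * d⁻¹) := by group
          _ = d * u * d⁻¹ * (d * v * d⁻¹ * v) * v := by
            simp only [mul_assoc, C.sq a _ v.2, mul_one]
          _ = (d * u * d⁻¹ * (d * u * d⁻¹)) * (u * v) := by rw [← e']; group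
          _ = (u : G) * v := by rw [C.sq a _ hp, one_mul])
      exact Subtype.ext (by rw [mul_eq_one_iff_eq_inv.1 h, inv_eq_of_mul_eq_one_right (C.sq a _ v.2)])
    intro w hw
    obtain ⟨u, hu⟩ := Finite.injective_iff_surjective.1 hg ⟨w, hw⟩
    obtain ⟨r, hr, e⟩ := P.exists_conj_mul B u.2
    have hfr : f r = u := by simp only [hfdef]; rw [e, inv_mul_cancel_left]
    have hrR : r ∈ R := ⟨hr, by show f r ∈ W a; rw [hfr]; exact u.2⟩
    refine ⟨d * r * d⁻¹ * r⁻¹, hNmem.2 ⟨mul_mem (hdR r hrR) (inv_mem hrR), r, hrR, by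
      rw [inv_mul_cancel]; exact one_mem _⟩, ?_⟩
    rw [hfdr r hrR, hfr]
    exact congrArg Subtype.val hu
  have hdec : ∀ r ∈ R, ∃ y ∈ Y, ∃ m ∈ N, r = y * m := by
    intro r hr
    obtain ⟨m, hm, hfm⟩ := hNsurj _ (hf r hr)
    have hmR := hNR hm
    have hC' : r * m⁻¹ ∈ C0 := hf0 _ (mul_mem hr (inv_mem hmR)) (by
      have h := hfmul (r * m⁻¹) (mul_mem hr (inv_mem hmR)) m hmR
      rw [inv_mul_cancel_right, hfm] at h
      exact mul_eq_right.1 h.symm)
    obtain ⟨v, hv, hy⟩ := P.exists_mul_W_of_centS B hi hC'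
    exact ⟨_, hy, v⁻¹ * m, mul_mem (inv_mem (hWN hv)) hm, by group⟩
  have hdN : ∀ (j : ℕ), ∀ m ∈ N, d ^ j * m * (d ^ j)⁻¹ ∈ N := by
    intro j
    induction j with
    | zero => intro m hm; simpa using hm
    | succ j ih =>
      intro m hm
      obtain ⟨hmR, r, hr, h⟩ := hNmem.1 (ih m hm)
      refine hNmem.2 ⟨by
        rw [show d ^ (j + 1) * m * (d ^ (j + 1))⁻¹ = d * (d ^ j * m * (d ^ j)⁻¹) * d⁻¹ by
          rw [pow_succ']; group]
        exact hdR _ hmR, d * r * d⁻¹, hdR r hr, ?_⟩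
      rw [show (d * (d * r * d⁻¹) * d⁻¹ * (d * r * d⁻¹)⁻¹)⁻¹ * (d ^ (j + 1) * m * (d ^ (j + 1))⁻¹) =
        d * ((d * r * d⁻¹ * r⁻¹)⁻¹ * (d ^ j * m * (d ^ j)⁻¹)) * d⁻¹ by rw [pow_succ']; group]
      exact smul_W_eq_of_smul C h hda
  -- the involutions outside `C0`
  have hYsq : ∀ y ∈ Y, y * y = 1 := fun y hy => P.ker_sq B hy
  have hYR : ∀ y ∈ Y, y ∈ R := fun y hy => hCR (P.ker_le_centS B hy)
  have hall : ∀ y ∈ Y, ∀ m ∈ N, m ∉ W a → y * m * (y * m) = 1 → ∀ m' ∈ N, y * m' * (y * m') = 1 := by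
    intro y hy m hm hmW hym m' hm'
    have hyR := hYR y hy
    have hmul : ∀ p ∈ R, ∀ v ∈ W a, y * (p * v) * (y * (p * v)) = y * p * (y * p) := fun p hp v hv => by
      rw [← mul_assoc y, (hWC v hv _ (mul_mem hyR hp)).mul_mul_mul_comm, C.sq a v hv, mul_one]
    by_cases hm'W : m' ∈ W a
    · have := hmul 1 (one_mem _) m' hm'W
      rw [one_mul, mul_one, hYsq y hy] at this
      exact this
    have h1 : f m ≠ 1 := fun h => hmW (hNC m hm (hf0 m (hNR hm) h))
    have h2 : f m' ≠ 1 := fun h => hm'W (hNC m' hm' (hf0 m' (hNR hm') h))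
    obtain ⟨j, hj⟩ := hdt _ (hf m (hNR hm)) h1 _ (hf m' (hNR hm')) h2
    have hfj : ∀ (l : ℕ) (r : G), f (d ^ l * r * (d ^ l)⁻¹) = d ^ l * f r * (d ^ l)⁻¹ := by
      intro l
      induction l with
      | zero => intro r; simp
      | succ l ih =>
        intro r
        rw [show d ^ (l + 1) * r * (d ^ (l + 1))⁻¹ = d * (d ^ l * r * (d ^ l)⁻¹) * d⁻¹ by
          rw [pow_succ']; group, hfd, ih, pow_succ']
        group
    have hm'' := hdN j m hm
    have hv : (d ^ j * m * (d ^ j)⁻¹)⁻¹ * m' ∈ W a := by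
      refine hNC _ (mul_mem (inv_mem hm'') hm') (hf0 _ (mul_mem (inv_mem (hNR hm'')) (hNR hm')) ?_)
      have h := hfmul _ (hNR hm'') _ (mul_mem (inv_mem (hNR hm'')) (hNR hm'))
      rw [mul_inv_cancel_left, hfj, hj] at h
      exact mul_eq_left.1 h.symm
    have h3 := hmul _ (hNR hm'') _ hv
    rw [mul_inv_cancel_left] at h3
    rw [h3]
    have hc : Commute (d ^ j) y := (hdY y hy).pow_left j
    calc y * (d ^ j * m * (d ^ j)⁻¹) * (y * (d ^ j * m * (d ^ j)⁻¹))
        = (y * d ^ j) * m * ((d ^ j)⁻¹ * (y * d ^ j)) * m * (d ^ j)⁻¹ := by group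
      _ = d ^ j * (y * m * (y * m)) * (d ^ j)⁻¹ := by rw [← hc.eq]; group
      _ = 1 := by rw [hym, mul_one, mul_inv_cancel]
  have huniq : ∀ y ∈ Y, ∀ y' ∈ Y, ∀ m ∈ N, m ∉ W a → y * m * (y * m) = 1 → y' * m * (y' * m) = 1 →
      y = y' := by
    intro y hy y' hy' m hm hmW h h'
    by_contra hne
    have hy1 : y⁻¹ = y := inv_eq_of_mul_eq_one_right (hYsq y hy)
    have hy1' : y'⁻¹ = y' := inv_eq_of_mul_eq_one_right (hYsq y' hy')
    have e1 : y * m * y = m⁻¹ := by rw [eq_inv_iff_mul_eq_one, ← h]; group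
    have e2 : y' * m * y' = m⁻¹ := by rw [eq_inv_iff_mul_eq_one, ← h']; group
    have hne' : y' * y ≠ 1 := fun e => hne (by rw [mul_eq_one_iff_eq_inv.1 e, hy1])
    obtain ⟨-, -, hcent⟩ := P.centS_eq B ((P.conf.kerS a b).mul_mem hy' hy) hne'
    refine hmW (hNC m hm ?_)
    show m ∈ P.conf.centS a x
    rw [← hcent]
    refine P.conf.mem_centS.2 ⟨(hNR hm).1, ?_⟩
    show m * (y' * y) = y' * y * m
    calc m * (y' * y) = y' * (y' * m * y') * y := by rw [← mul_assoc y', ← mul_assoc y', hYsq y' hy', one_mul, mul_assoc]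
      _ = y' * (y * m * y) * y := by rw [e2, e1]
      _ = y' * y * m := by rw [← mul_assoc y', ← mul_assoc y', mul_assoc (y' * y * m), hYsq y hy, mul_one]
  have hx'R : x' ∈ R := by
    exact hR'.le <|  P.conf.centS_le_famS a x' (P.ker_le_centS B' (P.mem_kerS_self B'))
  obtain ⟨y0, hy0, m0, hm0, e0⟩ := hdec x' hx'R
  have hm0W : m0 ∉ W a := fun h => hx'C (by
    show x' ∈ C0
    rw [e0]; exact mul_mem (P.ker_le_centS B hy0) (P.conf.mem_centS.2
      ⟨P.conf.W_le_Sa a h, (P.conf.commute_W B.multi.two B.ha h).symm⟩))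
  have hy0m : ∀ m ∈ N, y0 * m * (y0 * m) = 1 :=
    hall y0 hy0 m0 hm0 hm0W (by rw [← e0]; exact Basic.inv_sq_one B'.multi.two)
  have hinv : ∀ r ∈ R, r * r = 1 → r ∉ C0 → ∃ m ∈ N, r = y0 * m := by
    intro r hr hrr hrC
    obtain ⟨y, hy, m, hm, rfl⟩ := hdec r hr
    have hmW : m ∉ W a := fun h => hrC (mul_mem (P.ker_le_centS B hy) (P.conf.mem_centS.2
      ⟨P.conf.W_le_Sa a h, (P.conf.commute_W B.multi.two B.ha h).symm⟩))
    exact ⟨m, hm, by rw [huniq y hy y0 hy0 m hm hmW hrr (hy0m m hm)]⟩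
  have hcard : Nat.card ↥(P.conf.kerS a b') = Nat.card ↥Y := by
    have h1 : Nat.card ↥(P.conf.famS a x') = Nat.card ↥(P.conf.famS a x) := by rw [hR']
    rw [P.card_famS B', P.card_famS B, P.card_centS B', P.card_centS B] at h1
    have hq : 0 < 2 ^ n := Nat.one_le_two_pow
    exact mul_right_cancel₀ (pow_ne_zero _ hq.ne') (mul_left_cancel₀ hq.ne' h1)
  have hNcard : Nat.card ↥N = 2 ^ n * 2 ^ n := by
    let g : ↥N →* ↥(W a) := MonoidHom.mk' (fun m => ⟨f m, hf m (hNR m.2)⟩)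
      fun m m' => Subtype.ext (hfmul _ (hNR m.2) _ (hNR m'.2))
    have hsurj : Function.Surjective g := fun ⟨w, hw⟩ => by
      obtain ⟨m, hm, e⟩ := hNsurj w hw
      exact ⟨⟨m, hm⟩, Subtype.ext e⟩
    have hker : g.ker = (W a).subgroupOf N := by
      ext m
      rw [MonoidHom.mem_ker, mem_subgroupOf]
      exact ⟨fun h => hNC m m.2 (hf0 m (hNR m.2) (congrArg Subtype.val h)), fun h => Subtype.ext
        (hf1 _ (P.conf.mem_centS.2 ⟨P.conf.W_le_Sa a h, (P.conf.commute_W B.multi.two B.ha h).symm⟩))⟩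
    rw [Subgroup.card_eq_card_quotient_mul_card_subgroup g.ker,
      Nat.card_congr (QuotientGroup.quotientKerEquivOfSurjective g hsurj).toEquiv, hker,
      Nat.card_congr (Subgroup.subgroupOfEquivOfLe hWN).toEquiv, P.card_W B.multi]
  by_cases hy01 : y0 = 1
  · -- then exactly two families
    rw [hy01] at hy0m
    simp only [one_mul] at hy0m
    have hNab : ∀ m ∈ N, ∀ m' ∈ N, Commute m m' := fun m hm m' hm' => by
      have h := hy0m _ (mul_mem hm hm')
      have e1 : m⁻¹ = m := inv_eq_of_mul_eq_one_right (hy0m m hm)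
      have e2 : m'⁻¹ = m' := inv_eq_of_mul_eq_one_right (hy0m m' hm')
      show m * m' = m' * m
      rw [← inv_eq_of_mul_eq_one_right h, mul_inv_rev, e1, e2]
    have hx'N : x' ∈ N := by rw [e0, hy01, one_mul]; exact hm0
    have hinvN : ∀ r ∈ R, r * r = 1 → r ∉ C0 → r ∈ N := fun r hr hrr hrC => by
      obtain ⟨m, hm, e⟩ := hinv r hr hrr hrC
      rw [e, hy01, one_mul]; exact hm
    -- the centralizer of an involution of `N` outside `W a` in `R` is `N`
    have hN' : ∀ c ∈ R, Commute c x' → c ∈ N := by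
      intro c hc hcx
      obtain ⟨y, hy, m, hm, rfl⟩ := hdec c hc
      have hyx : Commute y x' := by
        have := hcx.mul_left (hNab m hm x' hx'N).inv_left
        rwa [mul_inv_cancel_right] at this
      exact mul_mem (hWN (hCC y (P.ker_le_centS B hy) hyx)) hm
    have hC'R : P.conf.centS a x' ≤ R := (P.conf.centS_le_famS a x').trans hR'.le
    have hC'N : P.conf.centS a x' = N := le_antisymm
      (fun c hc => hN' c (hC'R hc) (P.conf.mem_centS.1 hc).2)
      (fun m hm => P.conf.mem_centS.2 ⟨(hNR hm).1, hNab m hm x' hx'N⟩)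
    have hRS : R = S := by
      by_contra hne
      haveI : Group.IsNilpotent ↥S := (P.conf.isPGroup_Sa a).isNilpotent
      obtain ⟨s, hs, hsR⟩ : ∃ s ∈ normalizer (R.subgroupOf S : Set ↥S), s ∉ R.subgroupOf S := by
        by_contra! h
        refine hne (le_antisymm (fun r hr => hr.1) fun r hr => ?_)
        have := normalizerCondition_iff_only_full_group_self_normalizing.1
          Group.normalizerCondition_of_isNilpotent _ (le_antisymm h le_normalizer)
        exact this.ge (mem_top (⟨r, hr⟩ : ↥S))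
      have hsR' : ∀ r ∈ R, (s : G) * r * (s : G)⁻¹ ∈ R := fun r hr =>
        (mem_normalizer_iff.1 hs ⟨r, hr.1⟩).1 hr
      have hsR'' : ∀ r ∈ R, (s : G)⁻¹ * r * (s : G) ∈ R := fun r hr =>
        (mem_normalizer_iff''.1 hs ⟨r, hr.1⟩).1 hr
      set x'' := (s : G) * x * (s : G)⁻¹
      have hx''R : x'' ∈ R := hsR' x (hCR hxC)
      have hsx : ∀ t ∈ C0, (s : G) * t * (s : G)⁻¹ ∉ C0 ∨ t ∈ W a := fun t ht => by
        by_cases htW : t ∈ W a
        · exact Or.inr htW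
        refine Or.inl fun h => ?_
        obtain ⟨v, hv, hy⟩ := P.exists_mul_W_of_centS B hi ht
        have hy1 : t * v ≠ 1 := fun e => htW (by rw [mul_eq_one_iff_eq_inv.1 e]; exact inv_mem hv)
        obtain ⟨By, -, hcent⟩ := P.centS_eq B hy hy1
        have hh := P.mem_famS_of_conj By hi s.2 (by
          rw [hcent, show (s : G) * (t * v) * (s : G)⁻¹ = s * t * (s : G)⁻¹ * (s * v * (s : G)⁻¹) by group]
          exact mul_mem h (P.conf.mem_centS.2 ⟨P.conf.Sa_normal s.2.1 (P.conf.W_le_Sa a hv),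
            (P.conf.commute_W B.multi.two B.ha (smul_W_eq_of_smul C hv s.2.1)).symm⟩))
        rw [P.famS_eq B hy hy1] at hh
        exact hsR hh
      have hx''C : x'' ∉ C0 := ((hsx x hxC).resolve_right (C.not_mem_of_multi B.multi a))
      have hx''N : x'' ∈ N := hinvN _ hx''R (Basic.inv_sq_one (B.multi.conj _).two) hx''C
      -- a conjugate of the torus would centralise `x` modulo `W a`
      set t := (s : G)⁻¹ * (d * (s : G) * d⁻¹)
      have htS : t ∈ S := mul_mem (inv_mem s.2) (P.conf.Sa_normal hda s.2)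
      have htx : t * x * t⁻¹ = (s : G)⁻¹ * (d * x'' * d⁻¹) * s := by
        have e3 : d⁻¹ * x * d = x := by rw [mul_assoc, ← hdx.eq, inv_mul_cancel_left]
        calc t * x * t⁻¹ = (s : G)⁻¹ * (d * (s * (d⁻¹ * x * d) * (s : G)⁻¹) * d⁻¹) * s := by
              simp only [t]; group
          _ = _ := by rw [e3]
      have htxR : t * x * t⁻¹ ∈ R := by rw [htx]; exact hsR'' _ (hdR _ hx''R)
      have htC : t * x * t⁻¹ ∈ C0 := by
        by_contra h
        have h1 := hinvN _ htxR (Basic.inv_sq_one (B.multi.conj t).two) h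
        have h2 : Commute ((s : G) * (t * x * t⁻¹) * (s : G)⁻¹) x'' := by
          rw [htx, show (s : G) * ((s : G)⁻¹ * (d * x'' * d⁻¹) * s) * (s : G)⁻¹ = d * x'' * d⁻¹ by group]
          exact hNab _ (by simpa using hdN 1 x'' hx''N) x'' hx''N
        have h3 : Commute (t * x * t⁻¹) x := by
          have := h2.map (MulAut.conj (s : G)⁻¹).toMonoidHom
          simpa [x'', mul_assoc] using this
        exact h (P.conf.mem_centS.2 ⟨P.conf.Sa_normal htS.1 (P.x_mem_Sa B), h3⟩)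
      have htR := P.mem_famS_of_conj B hi htS htC
      set w := x⁻¹ * (t * x * t⁻¹) with hw
      have e4 : d * x'' * d⁻¹ = x'' * w := by
        have hc : (s : G) * w * (s : G)⁻¹ = w := by
          rw [← (C.central a w htR.2 s s.2.1 s.2.2).eq, mul_inv_cancel_right]
        have e : t * x * t⁻¹ = x * w := by rw [hw, mul_inv_cancel_left]
        calc d * x'' * d⁻¹ = (s : G) * (t * x * t⁻¹) * (s : G)⁻¹ := by rw [htx]; group
          _ = x'' * ((s : G) * w * (s : G)⁻¹) := by rw [e]; simp only [x'']; group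
          _ = x'' * w := by rw [hc]
      refine hx''C (hf0 _ hx''R (hdfix _ (hf _ hx''R) ?_))
      rw [← hfd, e4, hfmul _ hx''R _ (hWR htR.2), hf1 w (P.conf.mem_centS.2
        ⟨P.conf.W_le_Sa a htR.2, (P.conf.commute_W B.multi.two B.ha htR.2).symm⟩), mul_one]
    -- count the points
    have hY' : Nat.card ↥Y * 2 ^ n = 2 ^ n * 2 ^ n := by
      rw [← hNcard, ← hC'N, P.card_centS B', hcard, show (2 ^ n) ^ i = 2 ^ n by rw [hi, pow_one]]
    have hScard : Nat.card ↥S = 2 ^ n * (2 ^ n * 2 ^ n) := by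
      rw [← hRS, P.card_famS B, P.card_centS B, show (2 ^ n) ^ i = 2 ^ n by rw [hi, pow_one]]
      exact congrArg _ hY'
    set A : Set Ω := {c | c ≠ a ∧ ∃ v ∈ W a, (x * v) • c = c}
    set A' : Set Ω := {c | c ≠ a ∧ ∃ v ∈ W a, (x' * v) • c = c}
    set T : Set Ω := {c | c ≠ a ∧ c ∉ A ∧ c ∉ A'}
    have hfree : ∀ c ∈ T, ∀ r ∈ S, r • c = c → r = 1 := by
      intro c hc r hr hrc
      by_contra hr1
      obtain ⟨l, hl⟩ := exists_involution_pow hr.2 hr1
      have hlS := (P.conf.Sa a).pow_mem hr l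
      have hlc : (r ^ l) • c = c := mem_stabilizer_iff.1 (pow_mem (mem_stabilizer_iff.2 hrc) l)
      have hm := P.multi_of_fix_two hl hc.1 hlS.1 hlc
      have hlR : r ^ l ∈ R := by rw [hRS]; exact hlS
      by_cases hlC : r ^ l ∈ C0
      · exact hc.2.1 ⟨hc.1, P.covered_of_mem_centS B hi hm hlC hlc⟩
      · exact hc.2.2 ⟨hc.1, P.covered_of_mem_centS B' hi hm
          (hC'N.ge (hinvN _ hlR (Basic.inv_sq_one hl) hlC)) hlc⟩
    have hinvA : ∀ (z : G) (hzR : P.conf.famS a z = R) (r : G), r ∈ S → ∀ c : Ω,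
        (r • c ≠ a ∧ ∃ v ∈ W a, (z * v) • r • c = r • c) → c ≠ a ∧ ∃ v ∈ W a, (z * v) • c = c := by
      rintro z hzR r hr c ⟨hca, v, hv, hvc⟩
      refine ⟨fun e => hca (by rw [e]; exact hr.1), ?_⟩
      have hri : r⁻¹ ∈ P.conf.famS a z := by rw [hzR, hRS]; exact inv_mem hr
      refine ⟨z⁻¹ * (r⁻¹ * z * r⁻¹⁻¹) * v, mul_mem hri.2 hv, ?_⟩
      have h3 : (r⁻¹ * (z * v) * r⁻¹⁻¹) • c = c := by
        rw [mul_smul, mul_smul, inv_inv, hvc, inv_smul_smul]
      rw [← mul_assoc, mul_inv_cancel_left]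
      rwa [show r⁻¹ * (z * v) * r⁻¹⁻¹ = r⁻¹ * z * r⁻¹⁻¹ * (r⁻¹ * v * r⁻¹⁻¹) by group,
        ← (C.central a v hv r⁻¹ hri.1.1 hri.1.2).eq, mul_inv_cancel_right] at h3
    have hTinv : ∀ r ∈ S, ∀ c ∈ T, r • c ∈ T := fun r hr c hc =>
      ⟨fun e => hc.1 (smul_left_cancel r (e.trans hr.1.symm)), fun h => hc.2.1 (hinvA x rfl r hr c h),
        fun h => hc.2.2 (hinvA x' hR' r hr c h)⟩
    have hdvd := P.card_Sa_dvd_free B T hTinv hfree
    have hA : A.ncard = 2 ^ n * 2 ^ n := P.ncard_covered_translates B hi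
    have hA' : A'.ncard = 2 ^ n * 2 ^ n := P.ncard_covered_translates B' hi
    have hle : (Set.univ : Set Ω) ⊆ T ∪ A ∪ A' ∪ {a} := fun c _ => by
      by_cases h1 : c = a
      · exact Or.inr h1
      by_cases h2 : c ∈ A
      · exact Or.inl (Or.inl (Or.inr h2))
      by_cases h3 : c ∈ A'
      · exact Or.inl (Or.inr h3)
      exact Or.inl (Or.inl (Or.inl ⟨h1, h2, h3⟩))
    have h1 := (Set.ncard_le_ncard hle).trans ((Set.ncard_union_le _ _).trans (Nat.add_le_add_right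
      ((Set.ncard_union_le _ _).trans (Nat.add_le_add_right (Set.ncard_union_le _ _) _)) _))
    rw [Set.ncard_univ, P.card_points_one B hi, hA, hA', Set.ncard_singleton] at h1
    have hdis : Disjoint T (insert a A) := Set.disjoint_left.2 fun c hc hc' =>
      hc'.elim hc.1 hc.2.1
    have h2 := Set.ncard_le_ncard (Set.subset_univ (T ∪ insert a A))
    rw [Set.ncard_union_eq hdis, Set.ncard_insert_of_notMem (fun h => h.1 rfl), Set.ncard_univ,
      P.card_points_one B hi, hA] at h2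
    have hq4 : 4 ≤ 2 ^ n := by rw [← P.card_W B.multi a]; exact C.four a
    have h3 : (2 ^ n) ^ 3 = 2 ^ n * (2 ^ n * 2 ^ n) := by ring
    have h4 : 4 * (2 ^ n * 2 ^ n) ≤ 2 ^ n * (2 ^ n * 2 ^ n) := Nat.mul_le_mul_right _ hq4
    have h5 : 0 < 2 ^ n * 2 ^ n := Nat.mul_pos Nat.one_le_two_pow Nat.one_le_two_pow
    rw [hScard] at hdvd
    have := Nat.le_of_dvd (by omega) hdvd
    omega
  · -- `Y` has order two
    have hC'R : P.conf.centS a x' ≤ R := (P.conf.centS_le_famS a x').trans hR'.le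
    have hY'N : ∀ y' ∈ P.conf.kerS a b', y' ≠ 1 → ∃ m ∈ N, y' = y0 * m := by
      intro y' hy' hy1
      refine hinv y' (hC'R (P.ker_le_centS B' hy')) (P.ker_sq B' hy') fun h => ?_
      have hW' := hCC y' h (P.conf.mem_centS.1 (P.ker_le_centS B' hy')).2
      exact hy1 (by
        by_contra h1
        exact B'.hne (C.uniq a y' hW' h1 b' hy'.2))
    have hy0W : y0 ∉ N := fun h => hy01 (by
      have h1 := hNC y0 h (P.ker_le_centS B hy0)
      by_contra h2
      exact B.hne (C.uniq a y0 h1 h2 b hy0.2))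
    have hy0i : y0⁻¹ = y0 := inv_eq_of_mul_eq_one_right (hYsq y0 hy0)
    have hNinv : ∀ m ∈ N, y0 * m * y0 = m⁻¹ := fun m hm => by
      rw [eq_inv_iff_mul_eq_one, ← hy0m m hm]; group
    have hY'2 : Nat.card ↥(P.conf.kerS a b') = 2 := by
      have hsub : ((P.conf.kerS a b' : Subgroup G) : Set G) = {1, x'} := by
        refine Set.Subset.antisymm (fun y' hy' => ?_) ?_
        · by_contra hne
          simp only [Set.mem_insert_iff, Set.mem_singleton_iff, not_or] at hne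
          obtain ⟨m, hm, e⟩ := hY'N y' hy' hne.1
          have hu : y' * x' ∈ P.conf.kerS a b' := (P.conf.kerS a b').mul_mem hy' (P.mem_kerS_self B')
          have hu1 : y' * x' ≠ 1 := fun h => hne.2 (by
            rw [mul_eq_one_iff_eq_inv.1 h, Basic.inv_eq B'.multi.two])
          obtain ⟨m2, hm2, e2⟩ := hY'N _ hu hu1
          have huN : y' * x' ∈ N := by
            rw [e, e0, show y0 * m * (y0 * m0) = y0 * m * y0 * m0 by group, hNinv m hm]
            exact mul_mem (inv_mem hm) hm0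
          rw [e2] at huN
          exact hy0W ((mul_mem_cancel_right hm2).1 huN)
        · rintro y' (rfl | rfl)
          · exact one_mem _
          · exact P.mem_kerS_self B'
      change Nat.card ↥((P.conf.kerS a b' : Subgroup G) : Set G) = 2
      rw [Nat.card_coe_set_eq, hsub, Set.ncard_pair (Basic.ne_one B'.multi.two).symm]
    rw [hY'2] at hcard
    have hY2 : ∀ y ∈ Y, y = 1 ∨ y = x := by
      intro y hy
      by_contra! hne
      have hsub : ({1, x, y} : Set G) ⊆ (Y : Set G) := by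
        rintro z (rfl | rfl | rfl)
        exacts [one_mem _, hxY, hy]
      have h3 : ({1, x, y} : Set G).ncard = 3 := Set.ncard_eq_three.2
        ⟨1, x, y, (Basic.ne_one B.multi.two).symm, hne.1.symm, hne.2.symm, rfl⟩
      have h4 := Set.ncard_le_ncard hsub
      rw [h3, ← Nat.card_coe_set_eq] at h4
      change 3 ≤ Nat.card ↥Y at h4
      omega
    obtain rfl : y0 = x := (hY2 y0 hy0).resolve_left hy01
    -- the multi-point involutions of `R`
    have hRx : ∀ z ∈ R, Multi Ω z → ∃ m ∈ N, z = y0 * m := by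
      intro z hzR hz
      by_cases hzC : z ∈ C0
      · obtain ⟨v, hv, hy⟩ := P.exists_mul_W_of_centS B hi hzC
        rcases hY2 _ hy with h | h
        · exact absurd (show z ∈ W a by rw [mul_eq_one_iff_eq_inv.1 h]; exact inv_mem hv)
            (C.not_mem_of_multi hz a)
        · exact ⟨v, hWN hv, by rw [← h, mul_assoc, C.sq a v hv, mul_one]⟩
      · exact hinv z hzR (Basic.inv_sq_one hz.two) hzC
    have hxmR : ∀ m ∈ N, y0 * m ∈ R := fun m hm => mul_mem (hCR hxC) (hNR hm)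
    have hxm : ∀ m ∈ N, Multi Ω (y0 * m) := by
      intro m hm
      have h2 : orderOf (y0 * m) = 2 := Basic.orderOf_two_iff.2 ⟨hy0m m hm, fun e => hy0W (by
        rw [mul_eq_one_iff_eq_inv.1 e]; exact inv_mem hm)⟩
      by_contra hn
      obtain ⟨e, he⟩ := C.mem_W_of_not_multi (fun y hy => P.toEnv.transAt hy) h2 hn
      exact hy0W ((mul_mem_cancel_right hm).1 (hWN (C.mem_of_fix he (hxmR m hm).1.1)))
    have hblock : ∀ (m : G) (hm : m ∈ N) (c : Ω), c ≠ a → (y0 * m) • c = c → Block a c (y0 * m) :=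
      fun m hm c hca hc => ⟨hxm m hm, (hxmR m hm).1.1, hc, hca⟩
    have hdisj : ∀ m ∈ N, ∀ m' ∈ N, ∀ c : Ω, c ≠ a → (y0 * m) • c = c → (y0 * m') • c = c → m = m' := by
      intro m hm m' hm' c hca hc hc'
      by_contra hne
      have hu : y0 * m * (y0 * m') ∈ N := by
        rw [show y0 * m * (y0 * m') = y0 * m * y0 * m' by group, hNinv m hm]
        exact mul_mem (inv_mem hm) hm'
      have hu1 : y0 * m * (y0 * m') ≠ 1 := fun e => hne (by
        rw [mul_eq_one_iff_eq_inv, inv_eq_of_mul_eq_one_right (hy0m m' hm')] at e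
        exact mul_left_cancel e)
      have huk : y0 * m * (y0 * m') ∈ P.conf.kerS a c :=
        (P.conf.kerS a c).mul_mem (P.mem_kerS_self (hblock m hm c hca hc))
          (P.mem_kerS_self (hblock m' hm' c hca hc'))
      obtain ⟨Bu, -, -⟩ := P.centS_eq (hblock m hm c hca hc) huk hu1
      obtain ⟨m2, hm2, e2⟩ := hRx _ (hNR hu) Bu.multi
      rw [e2] at hu
      exact hy0W ((mul_mem_cancel_right hm2).1 hu)
    have hcover : ∀ c : Ω, c ≠ a → ∃ m ∈ N, (y0 * m) • c = c := by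
      let F : (Σ m : ↥N, ↥(fixSet Ω (y0 * (m : G)) \ {a})) → ↥({a}ᶜ : Set Ω) :=
        fun p => ⟨p.2.1, p.2.2.2⟩
      have hinjF : Function.Injective F := by
        rintro ⟨⟨m, hm⟩, c, hc, hca⟩ ⟨⟨m', hm'⟩, c', hc', hca'⟩ e
        obtain rfl : c = c' := congrArg Subtype.val e
        obtain rfl : m = m' := hdisj m hm m' hm' c hca hc hc'
        rfl
      have hS : ∀ m : ↥N, Nat.card ↥(fixSet Ω (y0 * (m : G)) \ {a}) = 2 ^ n := fun m => by
        rw [Nat.card_coe_set_eq, Set.ncard_sdiff_singleton_of_mem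
          (show a ∈ fixSet Ω (y0 * (m : G)) from (hxmR m m.2).1.1),
          ← Nat.card_coe_set_eq, card_fixSet, P.nfix_eq (hxm m m.2), hi, pow_one, Nat.add_sub_cancel]
      have hbij : Function.Bijective F := by
        refine (Nat.bijective_iff_injective_and_card F).2 ⟨hinjF, ?_⟩
        haveI := Fintype.ofFinite ↥N
        rw [Nat.card_sigma, Finset.sum_congr rfl fun m _ => hS m, Finset.sum_const, Finset.card_univ,
          smul_eq_mul, ← Nat.card_eq_fintype_card, hNcard, Nat.card_coe_set_eq, Set.ncard_compl,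
          Set.ncard_singleton, P.card_points_one B hi, Nat.add_sub_cancel]
        ring
      intro c hca
      obtain ⟨⟨⟨m, hm⟩, c', hc', _⟩, e⟩ := hbij.2 ⟨c, hca⟩
      obtain rfl : c' = c := congrArg Subtype.val e
      exact ⟨m, hm, hc'⟩
    have hSx : ∀ z ∈ S, Multi Ω z → ∃ m ∈ N, z = y0 * m := by
      intro z hzS hz
      obtain ⟨p, q, hpq, hp, hq⟩ := hz.fix_two
      obtain ⟨c, hc, hca⟩ : ∃ c, z • c = c ∧ c ≠ a := by
        by_cases hpa : p = a
        · exact ⟨q, hq, fun e => hpq (hpa.trans e.symm)⟩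
        · exact ⟨p, hp, hpa⟩
      obtain ⟨m, hm, hmc⟩ := hcover c hca
      have Bm := hblock m hm c hca hmc
      refine ⟨m, hm, ?_⟩
      by_contra hne
      have hu : y0 * m * z ∈ P.conf.kerS a c :=
        (P.conf.kerS a c).mul_mem (P.mem_kerS_self Bm) (P.mem_kerS_self ⟨hz, hzS.1, hc, hca⟩)
      have hu1 : y0 * m * z ≠ 1 := fun e => hne (by
        rw [mul_eq_one_iff_eq_inv, Basic.inv_eq hz.two] at e
        exact e.symm)
      obtain ⟨Bu, -, -⟩ := P.centS_eq Bm hu hu1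
      have hxu : y0 ∈ P.conf.famS a (y0 * m * z) := by
        rw [P.famS_eq Bm hu hu1]
        refine ⟨(hCR hxC).1, ?_⟩
        have := hcomm _ (inv_mem (hxmR m hm)) _ (hCR hxC)
        simpa [mul_assoc] using this
      obtain ⟨-, h'⟩ := hxu
      set u := y0 * m * z
      have huu : u * u = 1 := Basic.inv_sq_one Bu.multi.two
      have hui : u⁻¹ = u := Basic.inv_eq Bu.multi.two
      have huR : u ∈ R := by
        refine ⟨hu.1, ?_⟩
        have h2 := inv_mem h'
        rwa [show (u⁻¹ * (y0 * u * y0⁻¹))⁻¹ = y0 * u⁻¹ * y0⁻¹ * u by group, hy0i, hui,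
          show y0 * u * y0 * u = y0⁻¹ * (u * y0 * u⁻¹) by rw [hy0i, hui]; group] at h2
      obtain ⟨m1, hm1, e1⟩ := hRx u huR Bu.multi
      have hm1c : (y0 * m1) • c = c := by rw [← e1]; exact hu.2
      have := hdisj m1 hm1 m hm c hca hm1c hmc
      rw [this] at e1
      exact Basic.ne_one hz.two (mul_eq_left.1 e1)
    -- `S` normalises `N`, and `S / N` is elementary abelian
    have hsx : ∀ r ∈ S, ∃ m ∈ N, r * y0 * r⁻¹ = y0 * m := fun r hr =>
      hSx _ (P.conf.Sa_normal hr.1 (P.x_mem_Sa B)) (B.multi.conj r)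
    have hconjN : ∀ r ∈ S, ∀ m ∈ N, r * m * r⁻¹ ∈ N := by
      intro r hr m hm
      obtain ⟨m1, hm1, e1⟩ := hSx _ (P.conf.Sa_normal hr.1 (hxmR m hm).1) ((hxm m hm).conj r)
      obtain ⟨m2, hm2, e2⟩ := hsx r hr
      rw [show r * m * r⁻¹ = (r * y0 * r⁻¹)⁻¹ * (r * (y0 * m) * r⁻¹) by group, e1, e2,
        show (y0 * m2)⁻¹ * (y0 * m1) = m2⁻¹ * m1 by group]
      exact mul_mem (inv_mem hm2) hm1
    have hmsq : ∀ m ∈ N, m * m = f m := fun m hm => by
      simp only [hfdef]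
      rw [hy0i, show y0 * (m * y0 * m⁻¹) = y0 * m * y0 * m⁻¹ by group, hNinv m hm, ← mul_inv_rev,
        inv_eq_of_mul_eq_one_right (C.sq a _ (hsq m (hNR hm)))]
    have htriv : ∀ r ∈ S, ∀ m ∈ N, m⁻¹ * (r * m * r⁻¹) ∈ W a := by
      intro r hr m hm
      have hm' := hconjN r hr m hm
      refine hNC _ (mul_mem (inv_mem hm) hm') (hf0 _ (mul_mem (inv_mem (hNR hm)) (hNR hm')) ?_)
      have h1 : f (r * m * r⁻¹) = f m := by
        rw [← hmsq _ hm', ← hmsq m hm, show r * m * r⁻¹ * (r * m * r⁻¹) = r * (m * m) * r⁻¹ by group,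
          (C.central a _ (hsq m (hNR hm)) r hr.1 hr.2).symm.eq, mul_inv_cancel_right]
      have h2 := hfmul m (hNR hm) _ (mul_mem (inv_mem (hNR hm)) (hNR hm'))
      rw [mul_inv_cancel_left, h1] at h2
      exact mul_eq_left.1 h2.symm
    have hsqN : ∀ r ∈ S, r * r ∈ N := by
      intro r hr
      obtain ⟨m, hm, e⟩ := hsx r hr
      have hrR : r * r ∈ R := by
        refine ⟨mul_mem hr hr, ?_⟩
        rw [show y0⁻¹ * (r * r * y0 * (r * r)⁻¹) = y0⁻¹ * (r * (r * y0 * r⁻¹) * r⁻¹) by group, e,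
          show r * (y0 * m) * r⁻¹ = r * y0 * r⁻¹ * (r * m * r⁻¹) by group, e, ← mul_assoc,
          inv_mul_cancel_left]
        have h := htriv r hr m hm
        have hmm := hsq m (hNR hm)
        rw [show m * (r * m * r⁻¹) = m * m * (m⁻¹ * (r * m * r⁻¹)) by group]
        exact mul_mem hmm h
      obtain ⟨y, hy, m', hm', e'⟩ := hdec _ hrR
      rcases hY2 y hy with rfl | rfl
      · rw [e', one_mul]; exact hm'
      exfalso
      -- a square root of a multi-point involution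
      obtain ⟨p, q, hpq, hp, hq⟩ := (hxm m' hm').fix_two
      obtain ⟨c, hc, hca⟩ : ∃ c, (y * m') • c = c ∧ c ≠ a := by
        by_cases hpa : p = a
        · exact ⟨q, hq, fun e => hpq (hpa.trans e.symm)⟩
        · exact ⟨p, hp, hpa⟩
      have hrc : r ∈ P.conf.centS a (y * m') := P.conf.mem_centS.2 ⟨hr, by
        rw [← e']; exact (Commute.refl r).mul_right (Commute.refl r)⟩
      have := P.centS_sq (hblock m' hm' c hca hc) hi hrc
      exact Basic.ne_one (hxm m' hm').two (e' ▸ this)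
    obtain ⟨H, hNH, hHS, hxH, hhalf⟩ :=
      exists_half (S := S) (fun m hm => (hNR hm).1) (P.x_mem_Sa B) hy0W hconjN hsqN
    -- Thompson transfer
    have hidx : H.index % 4 = 2 := by
      have h2 : (H.subgroupOf S).index = 2 := by
        rw [Subgroup.index_eq_two_iff]
        refine ⟨⟨y0, P.x_mem_Sa B⟩, fun r => ?_⟩
        have hx0 : ∀ r : G, r ∈ S → (r * y0 ∈ H ↔ y0 * r ∈ H) := fun r hr => by
          have hc : y0 * r * (r * y0)⁻¹ ∈ H := by
            obtain ⟨m, hm, e⟩ := hsx r hr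
            have : y0 * r * (r * y0)⁻¹ = y0 * (r * y0 * r⁻¹)⁻¹ := by group
            rw [this, e, show y0 * (y0 * m)⁻¹ = y0 * m⁻¹ * y0⁻¹ by group, hy0i,
              hNinv m⁻¹ (inv_mem hm)]
            exact hNH (inv_mem (inv_mem hm))
          constructor
          · intro h
            have := mul_mem hc h
            rwa [inv_mul_cancel_right] at this
          · intro h
            have := mul_mem (inv_mem hc) h
            rwa [mul_inv_rev, inv_inv, inv_mul_cancel_right] at this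
        rcases hhalf (r : G) r.2 with h | h
        · exact Or.inr ⟨h, fun hc => hxH ((mul_mem_cancel_left h).1 (show (r : G) * y0 ∈ H from hc))⟩
        · refine Or.inl ⟨(hx0 r r.2).2 h, fun hc => hxH ((mul_mem_cancel_right (show (r : G) ∈ H from hc)).1 h)⟩
      have hS : ¬ 2 ∣ S.index := (P.conf.syl a).not_dvd_index
      have h3 := Subgroup.relIndex_mul_index hHS
      rw [show H.relIndex S = 2 from h2] at h3
      omega
    obtain ⟨K, hK, hxK⟩ := Involutions.ThompsonTransfer.exists_index_two_of_no_conj H hidx y0 B.multi.two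
      fun g hg => by
        obtain ⟨m, hm, e⟩ := hSx _ (hHS hg) (B.multi.conj g)
        rw [e] at hg
        exact hxH ((mul_mem_cancel_right (hNH hm)).1 hg)
    haveI := Subgroup.normal_of_index_eq_two hK
    rcases IsSimpleGroup.eq_bot_or_eq_top_of_normal K inferInstance with h | h
    · rw [h, Subgroup.index_bot] at hK
      have := C.four a
      have h6 := Subgroup.card_le_card_group (W a)
      omega
    · rw [h, Subgroup.index_top] at hK
      omega

end Par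

end Cfsg.Agent.DClassConf
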