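import Cfsg.Agent.Lib.DClassConf.Lift

/-!
# The parameters of the moving involutions

In a minimal simple configuration with a multi-point involution `x` the centralizer of `x` has on the
fixed points the data of one of the three families, with parameters independent of `x`; no nontrivial
element of odd order centralises `x` and the involutions of a fixed point, so the family is not unitary.
-/

set_option autoImplicit false
set_option linter.style.haveILetI false
set_option linter.unusedSectionVars false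

namespace Cfsg.Agent.DClassConf

open MulAction Subgroup
open Cfsg.Agent.Involutions
open Cfsg.Agent.SETwoClosed (TwoEl twoEl_of_sq)
open Cfsg.Agent.CyclicSylowInter (TITheorem KindFacts)

universe u

variable {G : Type u} [Group G] {Ω : Type u} [MulAction G Ω] {W : Ω → Subgroup G}

/-- A minimal counterexample. -/
structure Env (W : Ω → Subgroup G) : Prop where
  conf : Conf W
  ti : TITheorem.{u}
  facts : KindFacts.{u}
  below : NoMultiBelow.{u} (Nat.card G)

/-- The fixed points. -/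
def fixSet (Ω : Type u) {G : Type u} [Group G] [MulAction G Ω] (x : G) : Set Ω := {c | x • c = c}

theorem card_fixSet (x : G) : Nat.card (fixSet Ω x) = nfix Ω x := rfl

theorem smul_mem_fixSet {x h : G} (hh : Commute h x) {c : Ω} (hc : c ∈ fixSet Ω x) :
    h • c ∈ fixSet Ω x := by
  show x • h • c = h • c
  rw [smul_smul, ← hh.eq, mul_smul, show x • c = c from hc]

theorem exists_fixed_of_prime [Finite Ω] (Φ : Set Ω) {k : G} {p : ℕ} (hp : p.Prime) (hk : k ^ p = 1)
    (hΦ : ∀ c, c ∈ Φ ↔ k • c ∈ Φ) (hn : ¬ p ∣ Nat.card Φ) : ∃ c ∈ Φ, k • c = c := by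
  classical
  haveI := Fact.mk hp
  haveI := Fintype.ofFinite Φ
  rw [Nat.card_eq_fintype_card] at hn
  let σ : Equiv.Perm Φ := (MulAction.toPerm k).subtypePerm (p := (· ∈ Φ)) fun c => (hΦ c).symm
  have hσ : σ ^ p ^ 1 = 1 := by
    have hj : ∀ (j : ℕ) (c : Φ), ((σ ^ j) c : Ω) = k ^ j • (c : Ω) := fun j => by
      induction j with
      | zero => intro c; simp
      | succ j ih =>
        intro c
        rw [pow_succ', Equiv.Perm.mul_apply, pow_succ', mul_smul, ← ih c]
        rfl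
    refine Equiv.ext fun c => Subtype.ext ?_
    rw [pow_one, hj, hk, one_smul, Equiv.Perm.one_apply]
  obtain ⟨⟨c, hc⟩, h⟩ := Equiv.Perm.exists_fixed_point_of_prime hn hσ
  exact ⟨c, hc, congrArg Subtype.val h⟩

namespace Env

variable [IsSimpleGroup G] [Finite G] [Finite Ω] (E : Env W)
include E

theorem faithful [Nonempty Ω] : FaithfulSMul G Ω := E.conf.faithful

theorem centralizer_ne_top {g : G} (hg : g ≠ 1) (a : Ω) : centralizer ({g} : Set G) ≠ ⊤ := by
  intro h
  haveI : Nonempty Ω := ⟨a⟩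
  haveI := E.faithful
  refine hg (E.conf.eq_one_of_fix_all fun c => ?_)
  obtain ⟨z, hz, hz1⟩ := E.conf.exists_W c
  exact E.conf.smul_of_commute hz hz1
    (mem_centralizer_singleton_iff.1 (h.ge (mem_top z))).symm

theorem local_of_multi {x : G} (hx : Multi Ω x) :
    ∃ n i, LocalData W (centralizer ({x} : Set G)) (fixSet Ω x) n i := by
  obtain ⟨a, b, hab, ha, hb⟩ := hx.fix_two
  refine E.conf.localData E.ti E.facts E.below _ (E.centralizer_ne_top (Basic.ne_one hx.two) a) _
    (fun h hh c hc => smul_mem_fixSet (mem_centralizer_singleton_iff.1 hh) hc)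
    (fun c hc w hw => mem_centralizer_singleton_iff.2 (E.conf.commute_W hx.two hc hw).symm.eq)
    ⟨a, ha⟩ fun c _ => ?_
  by_cases hca : c = a
  · exact ⟨b, hb, fun e => hab (hca ▸ e.symm)⟩
  · exact ⟨a, ha, fun e => hca e.symm⟩

theorem genOn_le {x : G} (hx : orderOf x = 2) : genOn W (fixSet Ω x) ≤ centralizer ({x} : Set G) :=
  iSup₂_le fun _ hc _ hw => mem_centralizer_singleton_iff.2 (E.conf.commute_W hx hc hw).symm.eq

theorem transAt {x : G} (hx : Multi Ω x) : TransAt W x := by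
  obtain ⟨n, i, D⟩ := E.local_of_multi hx
  intro a ha u hu hu1 v hv hv1
  obtain ⟨b, hb, hba⟩ : ∃ b, x • b = b ∧ b ≠ a := by
    obtain ⟨p, q, hpq, hp, hq⟩ := hx.fix_two
    by_cases hpa : p = a
    · exact ⟨q, hq, fun e => hpq (hpa.trans e.symm)⟩
    · exact ⟨p, hp, hpa⟩
  obtain ⟨d, hd, -, hda, -, hdt, -⟩ := D.torus a ha b hb hba.symm
  obtain ⟨j, hj⟩ := hdt u hu hu1 v hv hv1
  refine ⟨d ^ j, ?_, mem_stabilizer_iff.1 (pow_mem (mem_stabilizer_iff.2 hda) j), hj⟩
  rw [mem_centralizer_singleton_iff.1 (pow_mem (E.genOn_le hx.two hd) j), mul_inv_cancel_right]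

theorem card_multi {x : G} (hx : Multi Ω x) {n i : ℕ}
    (D : LocalData W (centralizer ({x} : Set G)) (fixSet Ω x) n i) :
    nfix Ω x = (2 ^ n) ^ i + 1 := D.card_pts

/-- All multi-point involutions have the same parameters. -/
theorem params {x y : G} (hx : Multi Ω x) (hy : Multi Ω y) {n i n' i' : ℕ}
    (D : LocalData W (centralizer ({x} : Set G)) (fixSet Ω x) n i)
    (D' : LocalData W (centralizer ({y} : Set G)) (fixSet Ω y) n' i') : n' = n ∧ i' = i := by
  obtain ⟨a, -, -, ha, -⟩ := hx.fix_two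
  obtain ⟨b, -, -, hb, -⟩ := hy.fix_two
  have h1 : n' = n := Nat.pow_right_injective le_rfl
    (show 2 ^ n' = 2 ^ n by rw [← D'.card_W b hb, ← D.card_W a ha, E.conf.card_W b a])
  subst h1
  have h2 := E.conf.nfix_eq hx hy fun z hz => E.transAt hz
  rw [E.card_multi hx D, E.card_multi hy D', add_left_inj] at h2
  exact ⟨rfl, (Nat.pow_right_injective (Nat.one_lt_two_pow (by have := D.two_le; omega)) h2).symm⟩

theorem isConj_mul {x : G} (hx : Multi Ω x) {a : Ω} (ha : x • a = a) {w : G} (hw : w ∈ W a) :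
    IsConj x (x * w) := E.conf.isConj_mul_W hx (E.transAt hx) ha hw

theorem multi_mul {x : G} (hx : Multi Ω x) {a : Ω} (ha : x • a = a) {w : G} (hw : w ∈ W a) :
    Multi Ω (x * w) := hx.of_isConj (E.isConj_mul hx ha hw)

theorem exists_fixed_other {x : G} (hx : Multi Ω x) {a : Ω} (ha : x • a = a) {k : G} {p : ℕ}
    (hp : p.Prime) (hp2 : p ≠ 2) (hk : k ^ p = 1) (hka : k • a = a) (hkx : Commute k x) :
    ∃ b, x • b = b ∧ b ≠ a ∧ k • b = b := by
  classical
  obtain ⟨n, i, D⟩ := E.local_of_multi hx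
  have hn : ¬ p ∣ Nat.card ↥(fixSet Ω x \ {a}) := by
    rw [Nat.card_coe_set_eq, Set.ncard_sdiff_singleton_of_mem (show a ∈ fixSet Ω x from ha),
      ← Nat.card_coe_set_eq, D.card_pts, Nat.add_sub_cancel, ← pow_mul]
    exact fun h => hp2 ((Nat.prime_dvd_prime_iff_eq hp Nat.prime_two).1 (hp.dvd_of_dvd_pow h))
  obtain ⟨b, ⟨hb, hba⟩, hkb⟩ := exists_fixed_of_prime _ hp hk (fun c => by
    constructor
    · rintro ⟨hc, hca⟩
      exact ⟨smul_mem_fixSet hkx hc, fun e => hca (smul_left_cancel k (e.trans hka.symm))⟩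
    · rintro ⟨hc, hca⟩
      refine ⟨?_, fun e => hca (by rw [Set.mem_singleton_iff.1 e, hka, Set.mem_singleton_iff])⟩
      have := smul_mem_fixSet hkx.inv_left hc
      rwa [inv_smul_smul] at this) hn
  exact ⟨b, hb, hba, hkb⟩

/-- An element commuting with `x` and centralising the involutions at one fixed point centralises those
of each fixed point it fixes. -/
theorem commute_W_other {x : G} (hx : Multi Ω x) {a b : Ω} (ha : x • a = a) (hb : x • b = b)
    (hba : b ≠ a) {k : G} (hkx : Commute k x) (hka : ∀ w ∈ W a, Commute k w) (hkb : k • b = b) :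
    ∀ w ∈ W b, Commute k w := by
  obtain ⟨n, i, D⟩ := E.local_of_multi hx
  have C := E.conf
  obtain ⟨z, hz, hz1⟩ := C.exists_W a
  have hk : k ∈ centralizer ({x} : Set G) := mem_centralizer_singleton_iff.2 hkx.eq
  have hkaa : k • a = a := C.smul_of_commute hz hz1 (hka z hz)
  have hzb : z • b ∈ fixSet Ω x := smul_mem_fixSet (C.commute_W hx.two ha hz).symm hb
  have hzne : z • b ≠ b := fun e => hba (C.uniq a z hz hz1 b e)
  obtain ⟨p, hp, hpb, hp2, hpa⟩ := D.trans_pts b hb a ha _ hzb hba.symm hzne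
  have hp'b : (k * p * k⁻¹) • b = b := by
    rw [mul_smul, mul_smul, inv_smul_eq_iff.2 hkb.symm, hpb, hkb]
  have hp'a : (k * p * k⁻¹) • a = z • b := by
    rw [mul_smul, mul_smul, inv_smul_eq_iff.2 hkaa.symm, hpa, smul_smul, (hka z hz).eq, mul_smul, hkb]
  have hpp' : ∀ c ∈ fixSet Ω x, (k * p * k⁻¹) • c = p • c := fun c hc => by
    have h := D.fix_all (p⁻¹ * (k * p * k⁻¹)) (mul_mem (inv_mem hp) (mul_mem (mul_mem hk hp) (inv_mem hk)))
      b hb a ha hba (by rw [mul_smul, hp'b, inv_smul_eq_iff, hpb])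
      (by rw [mul_smul, hp'a, ← hpa, inv_smul_smul])
      (C.closed b _ _ (by rw [inv_smul_eq_iff, hpb]) hp'b hp2.inv (hp2.conj k)) c hc
    rwa [mul_smul, inv_smul_eq_iff] at h
  -- an element of `W b` determined by `p` is centralised by `k`
  have key : ∀ w ∈ W b, ∀ q : G, q ∈ centralizer ({x} : Set G) →
      (∀ c ∈ fixSet Ω x, q • c = w • c) → (∀ c ∈ fixSet Ω x, (k * q * k⁻¹) • c = q • c) →
      Commute k w := by
    intro w hw q hq hqw hqk
    have hmem := C.conj k b w hw
    rw [hkb] at hmem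
    have hki : k⁻¹ • a ∈ fixSet Ω x := smul_mem_fixSet hkx.inv_left ha
    have h1 : (k * w * k⁻¹) • a = w • a := by
      rw [← hqw a ha, ← hqk a ha, mul_smul, mul_smul, mul_smul, mul_smul, hqw _ hki]
    have h2 : w⁻¹ * (k * w * k⁻¹) = 1 := by
      by_contra h
      exact hba (C.uniq b _ (mul_mem (inv_mem hw) hmem) h a
        (by rw [mul_smul, h1, inv_smul_smul])).symm
    rw [inv_mul_eq_one, eq_comm, mul_inv_eq_iff_eq_mul] at h2
    exact h2
  obtain ⟨y, hy, hy1, hky⟩ : ∃ y ∈ W b, y ≠ 1 ∧ Commute k y := by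
    obtain ⟨w, hw, hwp⟩ := D.sq_W b hb p hp hpb hp2
    by_cases hw1 : w = 1
    · obtain ⟨w', hw', hw'p⟩ := D.inv_W b hb p hp hpb fun c hc => by rw [hwp c hc, hw1, one_smul]
      refine ⟨w', hw', fun e => ?_, key w' hw' p hp hw'p hpp'⟩
      have := hw'p a ha
      rw [hpa, e, one_smul] at this
      exact hba (smul_left_cancel z (this.trans (C.fix a z hz).symm))
    · refine ⟨w, hw, hw1, key w hw (p * p) (mul_mem hp hp) (fun c hc => by rw [mul_smul, hwp c hc]) ?_⟩
      intro c hc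
      have hpc : p • c ∈ fixSet Ω x := smul_mem_fixSet (mem_centralizer_singleton_iff.1 hp) hc
      rw [show k * (p * p) * k⁻¹ = (k * p * k⁻¹) * (k * p * k⁻¹) by group, mul_smul, hpp' c hc,
        hpp' _ hpc, mul_smul]
  obtain ⟨g, hg, -, hgab⟩ := C.exists_conj hz hz1 hy hy1 hba.symm
  have hkg : Commute k g := by
    obtain ⟨j, rfl⟩ := mem_zpowers_iff.1 hg
    exact ((hka z hz).mul_right hky).zpow_right j
  intro w hw
  rw [← hgab, C.W_smul] at hw
  obtain ⟨u, hu, rfl⟩ := hw
  exact (hkg.mul_right (hka u hu)).mul_right hkg.inv_right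

/-- No nontrivial element of odd order centralises a multi-point involution and the involutions of one
of its fixed points. -/
theorem eq_one_of_commute {x : G} (hx : Multi Ω x) {a : Ω} (ha : x • a = a) {k : G}
    (hk : Odd (orderOf k)) (hkx : Commute k x) (hkW : ∀ w ∈ W a, Commute k w) : k = 1 := by
  by_contra hk1
  have C := E.conf
  obtain ⟨p, hp, hpd⟩ := Nat.exists_prime_and_dvd (mt orderOf_eq_one_iff.1 hk1)
  set k' := k ^ (orderOf k / p) with hk'
  have hp2 : p ≠ 2 := fun e => by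
    rw [e] at hpd
    exact Nat.not_even_iff_odd.2 hk (even_iff_two_dvd.2 hpd)
  have hk'1 : k' ≠ 1 := by
    intro e
    have hpos := orderOf_pos k
    have hdvd := orderOf_dvd_of_pow_eq_one e
    have hlt : orderOf k / p < orderOf k := Nat.div_lt_self hpos hp.one_lt
    have := Nat.le_of_dvd (Nat.div_pos (Nat.le_of_dvd hpos hpd) hp.pos) hdvd
    omega
  have hk'p : k' ^ p = 1 := by rw [hk', ← pow_mul, Nat.div_mul_cancel hpd, pow_orderOf_eq_one]
  have hk'x : Commute k' x := hkx.pow_left _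
  have hk'W : ∀ w ∈ W a, Commute k' w := fun w hw => (hkW w hw).pow_left _
  obtain ⟨v, hv, hv1⟩ := C.exists_W a
  have hka : k' • a = a := C.smul_of_commute hv hv1 (hk'W v hv)
  obtain ⟨b, hb, hba, hkb⟩ := E.exists_fixed_other hx ha hp hp2 hk'p hka hk'x
  have hxv := E.multi_mul hx ha hv
  have hxva : (x * v) • a = a := by rw [mul_smul, C.fix a v hv, ha]
  have hk'xv : Commute k' (x * v) := hk'x.mul_right (hk'W v hv)
  obtain ⟨c, hc, hca, hkc⟩ := E.exists_fixed_other hxv hxva hp hp2 hk'p hka hk'xv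
  set Φ : Set Ω := {f | k' • f = f ∧ ∀ w ∈ W f, Commute k' w}
  have hmem : ∀ f, x • f = f ∧ f ≠ a ∧ k' • f = f → f ∈ Φ := fun f ⟨h1, h2, h3⟩ =>
    ⟨h3, E.commute_W_other hx ha h1 h2 hk'x hk'W h3⟩
  have hbΦ : b ∈ Φ := hmem b ⟨hb, hba, hkb⟩
  have hcΦ : c ∈ Φ := ⟨hkc, E.commute_W_other hxv hxva hc hca hk'xv hk'W hkc⟩
  have haΦ : a ∈ Φ := ⟨hka, hk'W⟩
  obtain ⟨n, i, D⟩ := C.localData E.ti E.facts E.below (centralizer ({k'} : Set G))
    (E.centralizer_ne_top hk'1 a) Φ (fun h hh f hf => by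
      have hh' : Commute k' h := (mem_centralizer_singleton_iff.1 hh).symm
      refine ⟨by rw [smul_smul, hh'.eq, mul_smul, hf.1], fun w hw => ?_⟩
      rw [C.W_smul] at hw
      obtain ⟨u, hu, rfl⟩ := hw
      exact (hh'.mul_right (hf.2 u hu)).mul_right hh'.inv_right)
    (fun f hf w hw => mem_centralizer_singleton_iff.2 (hf.2 w hw).symm.eq) ⟨a, haΦ⟩
    fun f _ => by
      by_cases hfa : f = a
      · exact ⟨b, hbΦ, fun e => hba (e.trans hfa)⟩
      · exact ⟨a, haΦ, fun e => hfa e.symm⟩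
  have hxc := D.fix_all x (mem_centralizer_singleton_iff.2 hk'x.symm.eq) a haΦ b hbΦ hba.symm ha hb
    (twoEl_of_sq (Basic.inv_sq_one hx.two)) c hcΦ
  refine hca (C.uniq a v hv hv1 c ?_)
  have h1 : v • c = x • x • v • c := by rw [smul_smul x x, Basic.inv_sq_one hx.two, one_smul]
  rw [h1, ← mul_smul x v c, hc, hxc]

/-- The parameters of a multi-point involution are not unitary. -/
theorem i_ne_three {x : G} (hx : Multi Ω x) {n i : ℕ}
    (D : LocalData W (centralizer ({x} : Set G)) (fixSet Ω x) n i) : i ≠ 3 := by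
  intro hi
  obtain ⟨a, b, hab, ha, hb⟩ := hx.fix_two
  obtain ⟨d, hd, hdo, -, -, -, h3⟩ := D.torus a ha b hb hab
  obtain ⟨j, hj, hjW⟩ := h3 hi
  exact hj (E.eq_one_of_commute hx ha (hdo.of_dvd_nat (orderOf_pow_dvd j))
    ((mem_centralizer_singleton_iff.1 (pow_mem (E.genOn_le hx.two hd) j) : _)) hjW)

end Env

end Cfsg.Agent.DClassConf
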