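import Cfsg.Agent.Lib.DClassConf.Family

/-!
# Some family is moved by all of `S`

For `i = 2` the number of the other points is `q ^ 3` times an odd number, so some orbit of `S` has
`q ^ 3` points; it belongs to a block with `R = S`.
-/

set_option autoImplicit false
set_option linter.style.haveILetI false
set_option linter.unusedSectionVars false

namespace Cfsg.Agent.DClassConf

open MulAction Subgroup
open Cfsg.Agent.Involutions
open Cfsg.Agent.SETwoClosed (TwoEl twoEl_of_sq)

universe u

variable {G : Type u} [Group G] {Ω : Type u} [MulAction G Ω] {W : Ω → Subgroup G}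

namespace Par

variable [IsSimpleGroup G] [Finite G] [Finite Ω] {n i : ℕ} (P : Par W n i)
include P

variable {a b : Ω} {x : G} (B : Block a b x)
include B

theorem card_points_two (hi : i = 2) :
    Nat.card Ω = (2 ^ n) ^ 3 * ((2 ^ n) * (2 ^ n - 1) + 1) + 1 := by
  have h := P.conf.card_points B.multi (fun y hy => P.toEnv.transAt hy) B.ha
  rw [P.nfix_eq B.multi, P.card_W B.multi, hi, Nat.add_sub_cancel] at h
  obtain ⟨q, hq⟩ := Nat.exists_eq_add_of_le (Nat.one_le_two_pow (n := n))
  rw [h, hq, Nat.add_sub_cancel_left]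
  ring

/-- The size of the orbit of `S` at another point. -/
theorem card_orbit_Sa (c : Ω) :
    Nat.card ↥(P.conf.kerS a c) * Nat.card ↥(MulAction.orbit ↥(P.conf.Sa a) c) =
      Nat.card ↥(P.conf.Sa a) := by
  rw [Nat.card_congr (MulAction.orbitEquivQuotientStabilizer _ c), ← Subgroup.index_eq_card,
    show MulAction.stabilizer ↥(P.conf.Sa a) c = (P.conf.kerS a c).subgroupOf (P.conf.Sa a) from ?_,
    ← Nat.card_congr (Subgroup.subgroupOfEquivOfLe
      (show P.conf.kerS a c ≤ P.conf.Sa a from inf_le_left)).toEquiv]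
  · exact Subgroup.card_mul_index _
  ext s
  exact ⟨fun h => ⟨s.2, h⟩, fun h => h.2⟩

/-- Some block is moved inside its family by all of `S`. -/
theorem exists_full (hi : i = 2) :
    ∃ (c : Ω) (y : G), Block a c y ∧ P.conf.famS a y = P.conf.Sa a := by
  classical
  subst hi
  by_contra! hno
  haveI := Fact.mk Nat.prime_two
  set q := 2 ^ n
  set S := P.conf.Sa a
  obtain ⟨k, hk⟩ := IsPGroup.iff_card.1 (P.conf.isPGroup_Sa a)
  have hS : ∀ (c : Ω) (y : G), Block a c y → Nat.card ↥(P.conf.kerS a c) * q ^ 3 < Nat.card ↥S := by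
    intro c y By
    have h1 : Nat.card ↥(P.conf.famS a y) < Nat.card ↥S := by
      refine lt_of_le_of_ne (Subgroup.card_le_of_le (fun s hs => hs.1)) fun e => hno c y By ?_
      exact Subgroup.eq_of_le_of_card_ge (fun s hs => hs.1) e.ge
    rw [P.card_famS By, P.card_centS By] at h1
    calc _ = q * (Nat.card ↥(P.conf.kerS a c) * q ^ 2) := by ring
      _ < _ := h1
  have horb : ∀ c : Ω, c ≠ a → 2 * q ^ 3 ∣ Nat.card ↥(MulAction.orbit ↥S c) := by
    intro c hca
    have hmul := P.card_orbit_Sa B c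
    obtain ⟨r, -, hr⟩ := (Nat.dvd_prime_pow Nat.prime_two).1 (Dvd.intro_left _ (hmul.trans hk))
    have hlt : q ^ 3 < Nat.card ↥(MulAction.orbit ↥S c) := by
      by_contra! hle
      have h2 := Nat.mul_le_mul_left (Nat.card ↥(P.conf.kerS a c)) hle
      rw [hmul] at h2
      by_cases hc : P.conf.kerS a c = ⊥
      · rw [hc, Subgroup.card_bot, one_mul] at h2
        have h3 := hS b x B
        have : 1 ≤ Nat.card ↥(P.conf.kerS a b) := Nat.card_pos
        nlinarith
      obtain ⟨s, hs, hs1⟩ := (Subgroup.bot_or_exists_ne_one _).resolve_left hc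
      obtain ⟨l, hl⟩ := exists_involution_pow hs.1.2 hs1
      have hsl := (P.conf.kerS a c).pow_mem hs l
      haveI : Nonempty Ω := ⟨a⟩
      exact lt_irrefl _ ((hS c _ ⟨P.multi_of_fix_two hl hca hsl.1.1 hsl.2, hsl.1.1, hsl.2, hca⟩).trans_le h2)
    have e3 : q ^ 3 = 2 ^ (n * 3) := (pow_mul 2 n 3).symm
    rw [hr, e3] at hlt
    have h4 : n * 3 < r := (Nat.pow_lt_pow_iff_right (by norm_num)).1 hlt
    rw [hr, e3, ← pow_succ']
    exact pow_dvd_pow 2 h4
  let A : SubMulAction ↥S Ω := ⟨{c | c ≠ a}, fun s {c} hc e => hc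
    (smul_left_cancel (s : G) ((show (s : G) • c = a from e).trans s.2.1.symm))⟩
  have hdvd : 2 * q ^ 3 ∣ Nat.card ↥A := by
    haveI : Fintype (MulAction.orbitRel.Quotient ↥S ↥A) := Fintype.ofFinite _
    rw [Nat.card_congr (MulAction.selfEquivSigmaOrbits' ↥S ↥A), Nat.card_sigma]
    refine Finset.dvd_sum fun ω _ => ?_
    induction ω using Quotient.inductionOn' with
    | h c =>
      rw [MulAction.orbitRel.Quotient.orbit_mk, Nat.card_coe_set_eq,
        ← Set.ncard_image_of_injective _ Subtype.val_injective, SubMulAction.val_image_orbit,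
        ← Nat.card_coe_set_eq]
      exact horb c.1 c.2
  have hA : Nat.card ↥A = q ^ 3 * (q * (q - 1) + 1) := by
    have h := Set.ncard_sdiff_singleton_of_mem (Set.mem_univ a)
    rw [Set.ncard_univ, P.card_points_two B rfl, Nat.add_sub_cancel] at h
    rw [← h, ← Nat.card_coe_set_eq]
    exact Nat.card_congr (Equiv.subtypeEquivRight fun c => ⟨fun hc => ⟨trivial, hc⟩, fun hc => hc.2⟩)
  rw [hA, mul_comm 2] at hdvd
  have h2 := Nat.dvd_of_mul_dvd_mul_left (pow_pos (Nat.two_pow_pos n) 3) hdvd
  have h4 : 2 ∣ q * (q - 1) := Dvd.dvd.mul_right (dvd_pow_self 2 (by have := P.two_le B.multi; omega)) _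
  omega

end Par

end Cfsg.Agent.DClassConf
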