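import Cfsg.Agent.Lib.DClassConf.Basic
import Cfsg.Agent.Lib.ZStar.Main
import Cfsg.Agent.Lib.Coprime.Generation

/-!
# The socle

If the group acts faithfully, every nontrivial normal subgroup contains all the involutions of the
configuration: otherwise an involution of `W a` would be isolated in its product with the normal subgroup,
and a normal subgroup of odd order is generated by centralisers of the elements of a four-group. So the
subgroup generated by them is simple.
-/

set_option autoImplicit false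
set_option linter.style.haveILetI false
set_option linter.unusedSectionVars false

namespace Cfsg.Agent.DClassConf

open MulAction Subgroup
open Cfsg.Agent.Involutions

universe u v

variable {G : Type u} [Group G] {Ω : Type v} [MulAction G Ω] {W : Ω → Subgroup G}

/-- The subgroup generated by the involutions of the configuration. -/
def socle (W : Ω → Subgroup G) : Subgroup G := ⨆ a, W a

theorem W_le_socle (a : Ω) : W a ≤ socle W := le_iSup W a

namespace Conf

variable (C : Conf W)
include C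

theorem socle_normal : (socle W).Normal := by
  refine ⟨fun x hx g => ?_⟩
  have h : socle W ≤ (socle W).comap (MulAut.conj g).toMonoidHom :=
    iSup_le fun a w hw => W_le_socle (g • a) (by simpa using C.conj g a w hw)
  simpa using h hx

/-- The configuration of a subgroup containing all the involutions. -/
theorem restrict (H : Subgroup G) (hH : ∀ a, W a ≤ H) : Conf fun a => (W a).subgroupOf H where
  conj g a w hw := by
    rw [mem_subgroupOf] at hw ⊢
    exact C.conj (g : G) a _ hw
  fix a w hw := C.fix a (w : G) hw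
  sq a w hw := Subtype.ext (C.sq a (w : G) hw)
  four a := by
    rw [Nat.card_congr (Subgroup.subgroupOfEquivOfLe (hH a)).toEquiv]
    exact C.four a
  uniq a w hw h1 b hb := C.uniq a (w : G) hw (fun e => h1 (Subtype.ext e)) b hb
  closed a x y hx hy hx2 hy2 := by
    obtain ⟨k, hk⟩ := hx2
    obtain ⟨l, hl⟩ := hy2
    obtain ⟨n, hn⟩ := C.closed a (x : G) (y : G) hx hy ⟨k, by simpa using congrArg Subtype.val hk⟩
      ⟨l, by simpa using congrArg Subtype.val hl⟩
    exact ⟨n, Subtype.ext (by simpa using hn)⟩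
  central a w hw s hs hs2 := by
    obtain ⟨k, hk⟩ := hs2
    exact Subtype.ext (C.central a (w : G) hw (s : G) hs ⟨k, by simpa using congrArg Subtype.val hk⟩).eq
  exists_ne := C.exists_ne

variable [Finite G]

theorem not_cyclic_W (a : Ω) : ¬ IsCyclic ↥(W a) := fun hc => by
  obtain ⟨g, hg⟩ := hc.exists_generator
  have h2 : orderOf g ≤ 2 :=
    Nat.le_of_dvd two_pos (orderOf_dvd_of_pow_eq_one (Subtype.ext (by
      rw [pow_two, coe_mul]; exact C.sq a _ g.2)))
  rw [orderOf_eq_card_of_forall_mem_zpowers hg] at h2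
  have := C.four a
  omega

variable [FaithfulSMul G Ω]


/-- A nontrivial normal subgroup without an involution of the configuration has no odd core. -/
theorem false_of_odd_normal {N : Subgroup G} [N.Normal] (hne : N ≠ ⊥) (hodd : Odd (Nat.card N)) :
    False := by
  refine hne ((eq_bot_iff_forall _).2 fun n hn => C.eq_one_of_fix_all fun a => ?_)
  haveI : IsMulCommutative ↥(W a) :=
    ⟨⟨fun v w => Subtype.ext (C.W_comm v.2 w.2).eq⟩⟩
  have hp : IsPGroup 2 ↥(W a) := fun w => ⟨1, Subtype.ext (by rw [pow_one, pow_two, coe_mul]; exact C.sq a _ w.2)⟩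
  haveI := Fact.mk Nat.prime_two
  obtain ⟨k, hk⟩ := IsPGroup.iff_card.1 hp
  have hgen := Coprime.fixedGen_eq (A := W a) (K := N) (C.not_cyclic_W a)
    (by rw [Subgroup.normalizer_eq_top]; exact le_top)
    (by rw [hk]; exact Nat.Coprime.pow_left _ (Nat.coprime_two_left.2 hodd))
  have hle : Coprime.fixedGen (W a) N ≤ stabilizer G a :=
    iSup₂_le fun w hw m hm => C.smul_of_commute hw.1 hw.2
      (Subgroup.mem_centralizer_singleton_iff.1 hm.2)
  rw [hgen] at hle
  exact hle hn

/-- An involution of the configuration is isolated in its product with a normal subgroup avoiding the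
configuration, so it centralises it if this has no odd core. -/
theorem false_of_disjoint {N : Subgroup G} [N.Normal] (hne : N ≠ ⊥) (hO : Cfsg.oddCore ↥N = ⊥)
    (hdis : ∀ a, ∀ w ∈ W a, w ∈ N → w = 1) : False := by
  refine hne ((eq_bot_iff_forall _).2 fun n hn => C.eq_one_of_fix_all fun a => ?_)
  obtain ⟨z, hz, hz1⟩ := C.exists_W a
  have hzz := C.sq a z hz
  set H := N ⊔ zpowers z with hHdef
  have hzH : z ∈ H := mem_sup_right (mem_zpowers z)
  have hdec : ∀ x ∈ H, x ∈ N ∨ ∃ m ∈ N, x = m * z := fun x hx => by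
    obtain ⟨m, hm, c, hc, rfl⟩ := mem_sup_of_normal_left.1 hx
    obtain ⟨j, rfl⟩ := mem_zpowers_iff.1 hc
    rcases Int.even_or_odd j with ⟨i, rfl⟩ | ⟨i, rfl⟩
    · rw [zpow_add, ← (Commute.refl z).mul_zpow, hzz, one_zpow, mul_one]
      exact Or.inl hm
    · rw [two_mul, zpow_add_one, zpow_add, ← (Commute.refl z).mul_zpow, hzz, one_zpow, one_mul]
      exact Or.inr ⟨m, hm, rfl⟩
  have hiso : Cfsg.IsIsolatedInvolution (⟨z, hzH⟩ : H) := by
    refine ⟨by rw [← orderOf_coe]; exact C.orderOf_W hz hz1, fun g hg => Subtype.ext ?_⟩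
    show (g : G) * z * (g : G)⁻¹ = z
    have hc : Commute ((g : G) * z * (g : G)⁻¹) z := ((congrArg Subtype.val hg.eq :) : z * _ = _).symm
    have hmem := C.conj (g : G) a z hz
    have hne' : (g : G) * z * (g : G)⁻¹ ≠ 1 := fun e => hz1 (conj_eq_one_iff.1 e)
    have hfix := C.smul_of_commute hz hz1 hc
    rw [C.point_eq hmem (C.mem_of_fix hmem hfix) hne'] at hmem
    have hN' : (g : G) * z * (g : G)⁻¹ * z ∈ N := by
      rcases hdec g g.2 with h | ⟨m, hm, e⟩
      · rw [show (g : G) * z * (g : G)⁻¹ * z = g * (z * (g : G)⁻¹ * z⁻¹) * (z * z) by group, hzz, mul_one]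
        exact mul_mem h (Normal.conj_mem ‹_› _ (inv_mem h) z)
      · rw [e, show m * z * z * (m * z)⁻¹ * z = m * (z * z) * (z⁻¹ * m⁻¹ * z⁻¹) * (z * z) by group, hzz,
          mul_one, mul_one]
        have := Normal.conj_mem ‹_› _ (inv_mem hm) z
        rw [show z⁻¹ * m⁻¹ * z⁻¹ = z * m⁻¹ * z⁻¹ by rw [Basic.inv_eq (C.orderOf_W hz hz1)]]
        exact mul_mem hm this
    have h1 := hdis a _ (mul_mem hmem hz) hN'
    rw [mul_eq_one_iff_eq_inv, Basic.inv_eq (C.orderOf_W hz hz1)] at h1
    exact h1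
  have hO' : Cfsg.oddCore ↥H = ⊥ := by
    rw [eq_bot_iff]
    intro x hx
    have h2 : (x : G) * x ∈ N := by
      rcases hdec x x.2 with h | ⟨m, hm, e⟩
      · exact mul_mem h h
      · rw [e, show m * z * (m * z) = m * (z * m * z⁻¹) * (z * z) by group, hzz, mul_one]
        exact mul_mem hm (Normal.conj_mem ‹_› _ hm z)
    have hxN : (x : G) ∈ N := by
      obtain ⟨k, hk⟩ := InvChar.Core.odd_card_oddCore.of_dvd_nat
        ((Cfsg.oddCore ↥H).orderOf_dvd_natCard hx)
      have h1 : (x : G) ^ orderOf x = 1 := by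
        rw [← orderOf_coe]; exact pow_orderOf_eq_one _
      rw [hk, pow_succ', pow_mul, pow_two, mul_eq_one_iff_eq_inv] at h1
      exact h1 ▸ inv_mem (pow_mem h2 k)
    set M := ((Cfsg.oddCore ↥H).map H.subtype).subgroupOf N
    have hMn : M.Normal := ⟨fun y hy g => by
      obtain ⟨w, hw, hwy⟩ := hy
      exact ⟨⟨(g : G), mem_sup_left g.2⟩ * w * ⟨(g : G), mem_sup_left g.2⟩⁻¹,
        ZStar.Main.oddCore_normal.conj_mem w hw _, by simp [show (w : G) = y from hwy]⟩⟩
    have hModd : Odd (Nat.card M) := by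
      have hle : (Cfsg.oddCore ↥H).map H.subtype ⊓ N ≤ (Cfsg.oddCore ↥H).map H.subtype := inf_le_left
      have h1 := Subgroup.card_dvd_of_le hle
      rw [Subgroup.card_subtype] at h1
      refine InvChar.Core.odd_card_oddCore.of_dvd_nat (dvd_trans (dvd_of_eq ?_) h1)
      rw [← Subgroup.card_subtype N M, Subgroup.subgroupOf_map_subtype]
    have := InvChar.Core.le_oddCore hMn hModd (show (⟨(x : G), hxN⟩ : N) ∈ M from ⟨x, hx, rfl⟩)
    rw [hO, mem_bot] at this
    exact mem_bot.2 (Subtype.ext (congrArg Subtype.val this :))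
  have hc := mem_center_iff.1 (ZStar.Main.mem_center_of_isolated hO' hiso) ⟨n, mem_sup_left hn⟩
  exact C.smul_of_commute hz hz1 (congrArg Subtype.val hc :)

/-- A nontrivial normal subgroup contains the whole configuration. -/
theorem W_le_of_normal {N : Subgroup G} [hN : N.Normal] (hne : N ≠ ⊥) (b : Ω) : W b ≤ N := by
  obtain ⟨a, w, hw, hwN, hw1⟩ : ∃ a, ∃ w ∈ W a, w ∈ N ∧ w ≠ 1 := by
    by_contra! h
    by_cases hO : Cfsg.oddCore ↥N = ⊥
    · exact C.false_of_disjoint hne hO fun a w hw hwN => h a w hw hwN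
    · haveI : (Cfsg.oddCore ↥N).Characteristic := InvChar.Core.pPrimeCore_characteristic 2
      refine C.false_of_odd_normal (N := (Cfsg.oddCore ↥N).map N.subtype) ?_ ?_
      · exact fun e => hO ((map_eq_bot_iff_of_injective _ N.subtype_injective).1 e)
      · rw [Subgroup.card_subtype]; exact InvChar.Core.odd_card_oddCore
  intro y hy
  by_cases hy1 : y = 1
  · exact hy1 ▸ one_mem _
  · obtain ⟨g, rfl⟩ := isConj_iff.1 (C.isConj_W hw hw1 hy hy1)
    exact hN.conj_mem w hwN g

theorem socle_le_of_normal {N : Subgroup G} [N.Normal] (hne : N ≠ ⊥) : socle W ≤ N :=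
  iSup_le fun b => C.W_le_of_normal hne b

theorem socle_not_comm [Nonempty Ω] : ¬ IsMulCommutative ↥(socle W) := fun hcm => by
  obtain ⟨a⟩ := ‹Nonempty Ω›
  obtain ⟨z, hz, hz1⟩ := C.exists_W a
  obtain ⟨b, hb⟩ := C.exists_ne a
  obtain ⟨y, hy, hy1⟩ := C.exists_W b
  have hc : Commute z y :=
    congrArg Subtype.val (hcm.is_comm.comm ⟨z, W_le_socle a hz⟩ ⟨y, W_le_socle b hy⟩)
  exact hb (C.uniq a z hz hz1 b (C.smul_of_commute hy hy1 hc))

theorem socle_simple [Nonempty Ω] : IsSimpleGroup ↥(socle W) := by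
  obtain ⟨a⟩ := ‹Nonempty Ω›
  obtain ⟨z, hz, hz1⟩ := C.exists_W a
  haveI : Nontrivial ↥(socle W) := ⟨⟨⟨z, W_le_socle a hz⟩, 1, fun e => hz1 (congrArg Subtype.val e)⟩⟩
  refine { eq_bot_or_eq_top_of_normal := fun M hM => ?_ }
  by_cases hne : M = ⊥
  · exact Or.inl hne
  refine Or.inr (eq_top_iff.2 fun x _ => ?_)
  haveI := hM
  have h : socle W ≤ M.map (socle W).subtype := iSup_le fun b w hw =>
    ⟨⟨w, W_le_socle b hw⟩, (C.restrict _ W_le_socle).W_le_of_normal hne b hw, rfl⟩
  obtain ⟨m, hm, e⟩ := h x.2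
  exact Subtype.ext e ▸ hm

end Conf

end Cfsg.Agent.DClassConf
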