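import Cfsg.Agent.Lib.DClassConf.Family

/-!
# Squaring on a subgroup of a family group

For a torus-invariant subgroup `T` of `R` with squares in `W`, meeting `C_S(x)` in `Y W` and mapped onto
`W`, put `N = [T, d] W`.  Then `T = Y N`, squaring is constant on each `y N`, and so the involutions of
`T` outside `C_S(x)` lie in one coset `y₀ N`.
-/

set_option autoImplicit false
set_option linter.style.haveILetI false
set_option linter.unusedSectionVars false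

namespace Cfsg.Agent.DClassConf

open MulAction Subgroup
open Cfsg.Agent.Involutions
open Cfsg.Agent.SETwoClosed (TwoEl twoEl_of_sq)

universe u

variable {G : Type u} [Group G] {Ω : Type u} [MulAction G Ω] {W : Ω → Subgroup G}

theorem smul_W_eq_of_smul (C : Conf W) {a : Ω} {v g : G} (hv : v ∈ W a) (hg : g • a = a) :
    g * v * g⁻¹ ∈ W a := by
  have := C.conj g a v hv
  rwa [hg] at this

/-- The map `r ↦ [x, r]`. -/
def famMap (x r : G) : G := x⁻¹ * (r * x * r⁻¹)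

/-- The conclusion: a decomposition `T = Y N`. -/
structure Split (C : Conf W) (a b : Ω) (x : G) (T N : Subgroup G) : Prop where
  le : N ≤ T
  W_le : W a ≤ N
  inter : ∀ s ∈ N, s ∈ C.centS a x → s ∈ W a
  onto : ∀ w ∈ W a, ∃ m ∈ N, famMap x m = w
  inv_coset : ∀ z ∈ T, z * z = 1 → z ∉ C.centS a x → ∃ y₀ ∈ C.kerS a b,
    (∃ m ∈ N, z = y₀ * m) ∧ (∀ m ∈ N, y₀ * m * (y₀ * m) = 1) ∧
      ∀ r ∈ T, r * r = 1 → r ∉ C.centS a x → ∃ m ∈ N, r = y₀ * m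

theorem Par.exists_split [IsSimpleGroup G] [Finite G] [Finite Ω] {n i : ℕ} (P : Par W n i)
    {a b : Ω} {x : G} (B : Block a b x) {T : Subgroup G} (hTF : T ≤ P.conf.famS a x)
    (hYT' : P.conf.kerS a b ≤ T) (hWT : W a ≤ T) (hsq : ∀ r ∈ T, r * r ∈ W a)
    (hTC : ∀ c ∈ T, c ∈ P.conf.centS a x → ∃ v ∈ W a, c * v ∈ P.conf.kerS a b)
    (hTsurj : ∀ w ∈ W a, ∃ r ∈ T, famMap x r = w) {d : G} (hd1 : d ≠ 1) (hda : d • a = a)
    (hdY : ∀ y ∈ P.conf.kerS a b, Commute d y) (hdT : ∀ r ∈ T, d * r * d⁻¹ ∈ T)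
    (hdt : ∀ u ∈ W a, u ≠ 1 → ∀ v ∈ W a, v ≠ 1 → ∃ j : ℕ, d ^ j * u * (d ^ j)⁻¹ = v)
    (hdfpf : ∀ j : ℕ, ∀ u ∈ W a, u ≠ 1 → Commute (d ^ j) u → d ^ j = 1) :
    ∃ N, Split P.conf a b x T N := by
  classical
  have C := P.conf
  set Y := P.conf.kerS a b
  set C0 := P.conf.centS a x
  have hYT : ∀ y ∈ Y, y ∈ T := fun y hy => hYT' hy
  have hxY : x ∈ Y := P.mem_kerS_self B
  have hxC : x ∈ C0 := P.ker_le_centS B hxY
  have hdx : Commute d x := hdY x hxY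
  have hWC : ∀ w ∈ W a, ∀ r ∈ T, Commute w r := fun w hw r hr =>
    C.central a w hw r (hTF hr).1.1 (hTF hr).1.2
  have hWR : W a ≤ T := hWT
  set f : G → G := famMap x with hfdef'
  have hfdef : f = fun r => x⁻¹ * (r * x * r⁻¹) := rfl
  have hf : ∀ r ∈ T, f r ∈ W a := fun r hr => (hTF hr).2
  have hfmul : ∀ r ∈ T, ∀ s ∈ T, f (r * s) = f r * f s := fun r hr s hs => by
    have hc : Commute r (f s) := (hWC _ (hf s hs) r hr).symm
    simp only [hfdef] at hc ⊢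
    rw [show x⁻¹ * (r * s * x * (r * s)⁻¹) = x⁻¹ * (r * x * r⁻¹) * (r * (x⁻¹ * (s * x * s⁻¹)) * r⁻¹) by
      group, hc.eq, mul_inv_cancel_right]
  have hf0 : ∀ r ∈ T, f r = 1 → r ∈ C0 := fun r hr h => by
    refine P.conf.mem_centS.2 ⟨(hTF hr).1, ?_⟩
    simp only [hfdef, inv_mul_eq_one] at h
    exact mul_inv_eq_iff_eq_mul.1 h.symm
  have hf1 : ∀ r ∈ C0, f r = 1 := fun r hr => by
    simp only [hfdef]; rw [(P.conf.mem_centS.1 hr).2.eq, mul_inv_cancel_right, inv_mul_cancel]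
  have hcomm : ∀ r ∈ T, ∀ s ∈ T, r * s * r⁻¹ * s⁻¹ ∈ W a := fun r hr s hs => by
    have h1 := hsq _ (inv_mem hr)
    rw [show r * s * r⁻¹ * s⁻¹ = (r * s) * (r * s) * (s⁻¹ * (r⁻¹ * r⁻¹) * s) * (s⁻¹ * s⁻¹) by group,
      show s⁻¹ * (r⁻¹ * r⁻¹) = r⁻¹ * r⁻¹ * s⁻¹ from ((hWC _ h1 s hs).inv_right.symm.eq),
      inv_mul_cancel_right]
    exact mul_mem (mul_mem (hsq _ (mul_mem hr hs)) h1) (hsq _ (inv_mem hs))
  have hfd : ∀ r, f (d * r * d⁻¹) = d * f r * d⁻¹ := fun r => by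
    have e2 : d * x⁻¹ = x⁻¹ * d := hdx.inv_right.eq
    have e3 : d * x * d⁻¹ = x := by rw [hdx.eq, mul_inv_cancel_right]
    simp only [hfdef]
    calc x⁻¹ * (d * r * d⁻¹ * x * (d * r * d⁻¹)⁻¹)
        = x⁻¹ * (d * r * d⁻¹ * (d * x * d⁻¹) * (d * r * d⁻¹)⁻¹) := by rw [e3]
      _ = (x⁻¹ * d) * (r * x * r⁻¹) * d⁻¹ := by group
      _ = _ := by rw [← e2]; group
  have hdfix : ∀ u ∈ W a, d * u * d⁻¹ = u → u = 1 := fun u hu h => by
    by_contra hu1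
    refine hd1 ?_
    have := hdfpf 1 u hu hu1 (by rw [pow_one]; exact mul_inv_eq_iff_eq_mul.1 h)
    rwa [pow_one] at this
  -- the subgroup `N`
  let WR := (W a).subgroupOf T
  haveI hWRn : WR.Normal := ⟨fun w hw r => by
    show (r : G) * w * (r : G)⁻¹ ∈ W a
    have hc : Commute ((w : ↥T) : G) (r : G) := hWC _ hw r r.2
    rw [← hc.eq, mul_inv_cancel_right]; exact hw⟩
  let ψ : ↥T →* ↥T ⧸ WR := MonoidHom.mk'
    (fun r => ((⟨d * r * d⁻¹ * (r : G)⁻¹, mul_mem (hdT r r.2) (inv_mem r.2)⟩ : ↥T) : ↥T ⧸ WR))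
    fun r s => by
      rw [← QuotientGroup.mk_mul, QuotientGroup.eq]
      show (d * (r * s : G) * d⁻¹ * (r * s : G)⁻¹)⁻¹ *
        (d * r * d⁻¹ * (r : G)⁻¹ * (d * s * d⁻¹ * (s : G)⁻¹)) ∈ W a
      have hv : d * s * d⁻¹ * (s : G)⁻¹ ∈ T := mul_mem (hdT s s.2) (inv_mem s.2)
      rw [show (d * (r * s : G) * d⁻¹ * (r * s : G)⁻¹)⁻¹ *
        (d * r * d⁻¹ * (r : G)⁻¹ * (d * s * d⁻¹ * (s : G)⁻¹)) =
        (r : G) * (d * s * d⁻¹ * (s : G)⁻¹)⁻¹ * (r : G)⁻¹ * (d * s * d⁻¹ * (s : G)⁻¹)⁻¹⁻¹ by group]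
      exact hcomm _ r.2 _ (inv_mem hv)
  let N : Subgroup G := (ψ.range.comap (QuotientGroup.mk' WR)).map T.subtype
  have hNT : N ≤ T := by rintro _ ⟨r, -, rfl⟩; exact r.2
  have hNmem : ∀ {s : G}, s ∈ N ↔ s ∈ T ∧ ∃ r ∈ T, (d * r * d⁻¹ * r⁻¹)⁻¹ * s ∈ W a := by
    intro s
    constructor
    · rintro ⟨⟨s, hs⟩, ⟨r, hr⟩, rfl⟩
      rw [MonoidHom.mk'_apply, QuotientGroup.mk'_apply, QuotientGroup.eq] at hr
      exact ⟨hs, r, r.2, hr⟩
    · rintro ⟨hs, r, hr, h⟩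
      exact ⟨⟨s, hs⟩, ⟨⟨r, hr⟩, QuotientGroup.eq.2 h⟩, rfl⟩
  have hWN : W a ≤ N := fun w hw => hNmem.2 ⟨hWR hw, 1, one_mem _, by simpa using hw⟩
  have hfdr : ∀ r ∈ T, f (d * r * d⁻¹ * r⁻¹) = d * f r * d⁻¹ * f r := fun r hr => by
    rw [hfmul _ (hdT r hr) _ (inv_mem hr), hfd]
    congr 1
    have h := hfmul r hr r⁻¹ (inv_mem hr)
    rw [mul_inv_cancel, hf1 1 (one_mem _), eq_comm, mul_eq_one_iff_eq_inv] at h
    have h2 : f r⁻¹ = (f r)⁻¹ := by rw [h, inv_inv]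
    rw [h2]
    exact inv_eq_of_mul_eq_one_right (C.sq a _ (hf r hr))
  have hfN : ∀ s ∈ T, ∀ r ∈ T, (d * r * d⁻¹ * r⁻¹)⁻¹ * s ∈ W a → f s = d * f r * d⁻¹ * f r := by
    intro s hs r hr h
    have hk : d * r * d⁻¹ * r⁻¹ ∈ T := mul_mem (hdT r hr) (inv_mem hr)
    have h1 := hfmul _ hk _ (hWR h)
    rw [mul_inv_cancel_left, hf1 _ (P.conf.mem_centS.2 ⟨P.conf.W_le_Sa a h,
      (P.conf.commute_W B.multi.two B.ha h).symm⟩), mul_one] at h1
    rw [h1, hfdr r hr]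
  have hNC : ∀ s ∈ N, s ∈ C0 → s ∈ W a := by
    intro s hs hsC
    obtain ⟨hsR, r, hr, h⟩ := hNmem.1 hs
    have h1 := hfN s hsR r hr h
    rw [hf1 s hsC, eq_comm, mul_eq_one_iff_eq_inv,
      inv_eq_of_mul_eq_one_right (C.sq a _ (hf r hr))] at h1
    have hrC := hf0 r hr (hdfix _ (hf r hr) h1)
    obtain ⟨v, hv, hy⟩ := hTC r hr hrC
    have hk : d * r * d⁻¹ * r⁻¹ ∈ W a := by
      have e : r = r * v * v := by rw [mul_assoc, C.sq a v hv, mul_one]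
      have hc1 : d * (r * v) * d⁻¹ = r * v := by rw [(hdY _ hy).eq, mul_inv_cancel_right]
      rw [e, show d * (r * v * v) * d⁻¹ * (r * v * v)⁻¹ =
        d * (r * v) * d⁻¹ * (d * v * d⁻¹ * v⁻¹) * (r * v)⁻¹ by group, hc1]
      have hw := mul_mem (smul_W_eq_of_smul C hv hda) (inv_mem hv)
      rw [← (hWC _ hw (r * v) (mul_mem hr (hWR hv))).eq, mul_inv_cancel_right]
      exact hw
    have := mul_mem hk h
    rwa [mul_inv_cancel_left] at this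
  have hNsurj : ∀ w ∈ W a, ∃ m ∈ N, f m = w := by
    let g : ↥(W a) → ↥(W a) := fun u => ⟨d * u * d⁻¹ * u, mul_mem (smul_W_eq_of_smul C u.2 hda) u.2⟩
    have hg : Function.Injective g := fun u v e => by
      have e' : d * (u : G) * d⁻¹ * u = d * (v : G) * d⁻¹ * v := congrArg Subtype.val e
      have huv := mul_mem u.2 v.2
      have hp := smul_W_eq_of_smul C u.2 hda
      have h := hdfix _ huv (by
        calc d * ((u : G) * v) * d⁻¹ = d * u * d⁻¹ * (d * v * d⁻¹) := by group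
          _ = d * u * d⁻¹ * (d * v * d⁻¹ * v) * v := by
            simp only [mul_assoc, C.sq a _ v.2, mul_one]
          _ = (d * u * d⁻¹ * (d * u * d⁻¹)) * (u * v) := by rw [← e']; group
          _ = (u : G) * v := by rw [C.sq a _ hp, one_mul])
      exact Subtype.ext (by rw [mul_eq_one_iff_eq_inv.1 h, inv_eq_of_mul_eq_one_right (C.sq a _ v.2)])
    intro w hw
    obtain ⟨u, hu⟩ := Finite.injective_iff_surjective.1 hg ⟨w, hw⟩
    obtain ⟨r, hrR, hfr⟩ := hTsurj _ u.2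
    refine ⟨d * r * d⁻¹ * r⁻¹, hNmem.2 ⟨mul_mem (hdT r hrR) (inv_mem hrR), r, hrR, by
      rw [inv_mul_cancel]; exact one_mem _⟩, ?_⟩
    rw [hfdr r hrR, hfr]
    exact congrArg Subtype.val hu
  have hdec : ∀ r ∈ T, ∃ y ∈ Y, ∃ m ∈ N, r = y * m := by
    intro r hr
    obtain ⟨m, hm, hfm⟩ := hNsurj _ (hf r hr)
    have hmR := hNT hm
    have hC' : r * m⁻¹ ∈ C0 := hf0 _ (mul_mem hr (inv_mem hmR)) (by
      have h := hfmul (r * m⁻¹) (mul_mem hr (inv_mem hmR)) m hmR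
      rw [inv_mul_cancel_right, hfm] at h
      exact mul_eq_right.1 h.symm)
    obtain ⟨v, hv, hy⟩ := hTC _ (mul_mem hr (inv_mem hmR)) hC'
    exact ⟨_, hy, v⁻¹ * m, mul_mem (inv_mem (hWN hv)) hm, by group⟩
  have hdN : ∀ (j : ℕ), ∀ m ∈ N, d ^ j * m * (d ^ j)⁻¹ ∈ N := by
    intro j
    induction j with
    | zero => intro m hm; simpa using hm
    | succ j ih =>
      intro m hm
      obtain ⟨hmR, r, hr, h⟩ := hNmem.1 (ih m hm)
      refine hNmem.2 ⟨by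
        rw [show d ^ (j + 1) * m * (d ^ (j + 1))⁻¹ = d * (d ^ j * m * (d ^ j)⁻¹) * d⁻¹ by
          rw [pow_succ']; group]
        exact hdT _ hmR, d * r * d⁻¹, hdT r hr, ?_⟩
      rw [show (d * (d * r * d⁻¹) * d⁻¹ * (d * r * d⁻¹)⁻¹)⁻¹ * (d ^ (j + 1) * m * (d ^ (j + 1))⁻¹) =
        d * ((d * r * d⁻¹ * r⁻¹)⁻¹ * (d ^ j * m * (d ^ j)⁻¹)) * d⁻¹ by rw [pow_succ']; group]
      exact smul_W_eq_of_smul C h hda
  -- the involutions outside `C0`
  have hYsq : ∀ y ∈ Y, y * y = 1 := fun y hy => P.ker_sq B hy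
  have hYR : ∀ y ∈ Y, y ∈ T := fun y hy => hYT y hy
  have hall : ∀ y ∈ Y, ∀ m ∈ N, m ∉ W a → y * m * (y * m) = 1 → ∀ m' ∈ N, y * m' * (y * m') = 1 := by
    intro y hy m hm hmW hym m' hm'
    have hyR := hYR y hy
    have hmul : ∀ p ∈ T, ∀ v ∈ W a, y * (p * v) * (y * (p * v)) = y * p * (y * p) := fun p hp v hv => by
      rw [← mul_assoc y, (hWC v hv _ (mul_mem hyR hp)).mul_mul_mul_comm, C.sq a v hv, mul_one]
    by_cases hm'W : m' ∈ W a
    · have := hmul 1 (one_mem _) m' hm'W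
      rw [one_mul, mul_one, hYsq y hy] at this
      exact this
    have h1 : f m ≠ 1 := fun h => hmW (hNC m hm (hf0 m (hNT hm) h))
    have h2 : f m' ≠ 1 := fun h => hm'W (hNC m' hm' (hf0 m' (hNT hm') h))
    obtain ⟨j, hj⟩ := hdt _ (hf m (hNT hm)) h1 _ (hf m' (hNT hm')) h2
    have hfj : ∀ (l : ℕ) (r : G), f (d ^ l * r * (d ^ l)⁻¹) = d ^ l * f r * (d ^ l)⁻¹ := by
      intro l
      induction l with
      | zero => intro r; simp
      | succ l ih =>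
        intro r
        rw [show d ^ (l + 1) * r * (d ^ (l + 1))⁻¹ = d * (d ^ l * r * (d ^ l)⁻¹) * d⁻¹ by
          rw [pow_succ']; group, hfd, ih, pow_succ']
        group
    have hm'' := hdN j m hm
    have hv : (d ^ j * m * (d ^ j)⁻¹)⁻¹ * m' ∈ W a := by
      refine hNC _ (mul_mem (inv_mem hm'') hm') (hf0 _ (mul_mem (inv_mem (hNT hm'')) (hNT hm')) ?_)
      have h := hfmul _ (hNT hm'') _ (mul_mem (inv_mem (hNT hm'')) (hNT hm'))
      rw [mul_inv_cancel_left, hfj, hj] at h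
      exact mul_eq_left.1 h.symm
    have h3 := hmul _ (hNT hm'') _ hv
    rw [mul_inv_cancel_left] at h3
    rw [h3]
    have hc : Commute (d ^ j) y := (hdY y hy).pow_left j
    calc y * (d ^ j * m * (d ^ j)⁻¹) * (y * (d ^ j * m * (d ^ j)⁻¹))
        = (y * d ^ j) * m * ((d ^ j)⁻¹ * (y * d ^ j)) * m * (d ^ j)⁻¹ := by group
      _ = d ^ j * (y * m * (y * m)) * (d ^ j)⁻¹ := by rw [← hc.eq]; group
      _ = 1 := by rw [hym, mul_one, mul_inv_cancel]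
  have huniq : ∀ y ∈ Y, ∀ y' ∈ Y, ∀ m ∈ N, m ∉ W a → y * m * (y * m) = 1 → y' * m * (y' * m) = 1 →
      y = y' := by
    intro y hy y' hy' m hm hmW h h'
    by_contra hne
    have hy1 : y⁻¹ = y := inv_eq_of_mul_eq_one_right (hYsq y hy)
    have hy1' : y'⁻¹ = y' := inv_eq_of_mul_eq_one_right (hYsq y' hy')
    have e1 : y * m * y = m⁻¹ := by rw [eq_inv_iff_mul_eq_one, ← h]; group
    have e2 : y' * m * y' = m⁻¹ := by rw [eq_inv_iff_mul_eq_one, ← h']; group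
    have hne' : y' * y ≠ 1 := fun e => hne (by rw [mul_eq_one_iff_eq_inv.1 e, hy1])
    obtain ⟨-, -, hcent⟩ := P.centS_eq B ((P.conf.kerS a b).mul_mem hy' hy) hne'
    refine hmW (hNC m hm ?_)
    show m ∈ P.conf.centS a x
    rw [← hcent]
    refine P.conf.mem_centS.2 ⟨(hTF (hNT hm)).1, ?_⟩
    show m * (y' * y) = y' * y * m
    calc m * (y' * y) = y' * (y' * m * y') * y := by rw [← mul_assoc y', ← mul_assoc y', hYsq y' hy', one_mul, mul_assoc]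
      _ = y' * (y * m * y) * y := by rw [e2, e1]
      _ = y' * y * m := by rw [← mul_assoc y', ← mul_assoc y', mul_assoc (y' * y * m), hYsq y hy, mul_one]
  refine ⟨N, hNT, hWN, hNC, hNsurj, fun z hzT hzz hzC => ?_⟩
  have hout : ∀ y ∈ Y, ∀ m ∈ N, y * m ∉ C0 → m ∉ W a := fun y hy m hm hC h => hC (mul_mem
    (P.ker_le_centS B hy) (P.conf.mem_centS.2
      ⟨P.conf.W_le_Sa a h, (P.conf.commute_W B.multi.two B.ha h).symm⟩))
  obtain ⟨y0, hy0, m0, hm0, rfl⟩ := hdec z hzT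
  have hm0W := hout y0 hy0 m0 hm0 hzC
  have hy0m := hall y0 hy0 m0 hm0 hm0W hzz
  refine ⟨y0, hy0, ⟨m0, hm0, rfl⟩, hy0m, fun r hr hrr hrC => ?_⟩
  obtain ⟨y, hy, m, hm, rfl⟩ := hdec r hr
  exact ⟨m, hm, by rw [huniq y hy y0 hy0 m hm (hout y hy m hm hrC) hrr (hy0m m hm)]⟩

end Cfsg.Agent.DClassConf
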