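import Cfsg.Agent.Lib.DClassConf.Squares

/-!
# The group `V = Y W` of a family

For a block with `R = S` an involution of `S` commuting with an involution of `V` outside `W` lies in
`V`.  If an element `k ≠ 1` of odd order centralises `W` and normalises the conjugates `V_m`, `m ∈ Φ`,
then at most one of these conjugates differs from `V`.
-/

set_option autoImplicit false
set_option linter.style.haveILetI false
set_option linter.unusedSectionVars false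

namespace Cfsg.Agent.DClassConf

open MulAction Subgroup
open Cfsg.Agent.Involutions
open Cfsg.Agent.SETwoClosed (TwoEl twoEl_of_sq)

universe u

variable {G : Type u} [Group G] {Ω : Type u} [MulAction G Ω] {W : Ω → Subgroup G}

theorem Conf.mem_Sa_of_mul_W (C : Conf W) {a b : Ω} {v w : G} (hw : w ∈ W a)
    (h : v * w ∈ C.kerS a b) : v ∈ C.Sa a := by
  have := (C.Sa a).mul_mem h.1 ((C.Sa a).inv_mem (C.W_le_Sa a hw))
  rwa [mul_inv_cancel_right] at this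

/-- `V = Y W`. -/
def Conf.vee (C : Conf W) (a b : Ω) : Subgroup G where
  carrier := {v | ∃ w ∈ W a, v * w ∈ C.kerS a b}
  one_mem' := ⟨1, one_mem _, by rw [mul_one]; exact one_mem _⟩
  mul_mem' := by
    rintro u v ⟨w, hw, hu⟩ ⟨z, hz, hv⟩
    have hvS := C.mem_Sa_of_mul_W hz hv
    refine ⟨w * z, mul_mem hw hz, ?_⟩
    rw [show u * v * (w * z) = u * (v * w) * z by group,
      ← (C.central a w hw v hvS.1 hvS.2).eq, show u * (w * v) * z = (u * w) * (v * z) by group]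
    exact mul_mem hu hv
  inv_mem' := by
    rintro v ⟨w, hw, hv⟩
    have hvS := C.mem_Sa_of_mul_W hw hv
    refine ⟨w⁻¹, inv_mem hw, ?_⟩
    rw [← mul_inv_rev, (C.central a w hw v hvS.1 hvS.2).eq]
    exact inv_mem hv

theorem Conf.mem_vee (C : Conf W) {a b : Ω} {v : G} :
    v ∈ C.vee a b ↔ ∃ w ∈ W a, v * w ∈ C.kerS a b := Iff.rfl

theorem Conf.vee_le_Sa (C : Conf W) (a b : Ω) : C.vee a b ≤ C.Sa a := by
  rintro v ⟨w, hw, hv⟩
  exact C.mem_Sa_of_mul_W hw hv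

theorem Conf.W_le_vee (C : Conf W) (a b : Ω) : W a ≤ C.vee a b := fun w hw =>
  ⟨w, hw, by rw [C.sq a w hw]; exact one_mem _⟩

theorem Conf.kerS_le_vee (C : Conf W) (a b : Ω) : C.kerS a b ≤ C.vee a b := fun y hy =>
  ⟨1, one_mem _, by rwa [mul_one]⟩

namespace Par

variable [IsSimpleGroup G] [Finite G] [Finite Ω] {n i : ℕ} (P : Par W n i)
include P

variable {a b : Ω} {x : G} (B : Block a b x)
include B

theorem x_mem_vee : x ∈ P.conf.vee a b := P.conf.kerS_le_vee a b (P.mem_kerS_self B)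

theorem x_not_mem_W : x ∉ W a := P.conf.not_mem_of_multi B.multi a

theorem vee_le_centS : P.conf.vee a b ≤ P.conf.centS a x := by
  rintro v ⟨w, hw, hv⟩
  have h := mul_mem (P.ker_le_centS B hv) (P.conf.mem_centS.2 ⟨P.conf.W_le_Sa a (inv_mem hw),
    (P.conf.commute_W B.multi.two B.ha (inv_mem hw)).symm⟩)
  rwa [mul_inv_cancel_right] at h

theorem vee_sq {v : G} (hv : v ∈ P.conf.vee a b) : v * v = 1 := by
  have hvS := P.conf.vee_le_Sa a b hv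
  obtain ⟨w, hw, h⟩ := hv
  have := P.ker_sq B h
  rwa [(P.conf.central a w hw v hvS.1 hvS.2).mul_mul_mul_comm, P.conf.sq a w hw, mul_one] at this

theorem multi_of_mem_vee {v : G} (hv : v ∈ P.conf.vee a b) (hvW : v ∉ W a) : Multi Ω v := by
  obtain ⟨w, hw, hy⟩ := hv
  have hy1 : v * w ≠ 1 := fun e => hvW (by rw [mul_eq_one_iff_eq_inv.1 e]; exact inv_mem hw)
  obtain ⟨By, -, -⟩ := P.centS_eq B hy hy1
  have h := P.multi_xw By hw
  rwa [mul_assoc, P.conf.sq a w hw, mul_one] at h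

/-- An involution of `S` commuting with an element of `V` outside `W` lies in `V`. -/
theorem mem_vee_of_commute {u v : G} (hu : u ∈ P.conf.Sa a) (huu : u * u = 1)
    (hv : v ∈ P.conf.vee a b) (hvW : v ∉ W a) (h : Commute u v) : u ∈ P.conf.vee a b := by
  have C := P.conf
  obtain ⟨w, hw, hy⟩ := hv
  have hy1 : v * w ≠ 1 := fun e => hvW (by rw [mul_eq_one_iff_eq_inv.1 e]; exact inv_mem hw)
  obtain ⟨-, -, hcent⟩ := P.centS_eq B hy hy1
  have hux : Commute u x := by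
    have hm : u ∈ P.conf.centS a (v * w) :=
      P.conf.mem_centS.2 ⟨hu, h.mul_right (C.central a w hw u hu.1 hu.2).symm⟩
    rw [hcent] at hm
    exact (P.conf.mem_centS.1 hm).2
  obtain ⟨z, hz, hzu⟩ := (P.loc x B.multi).inv_W a B.ha u (mem_centralizer_singleton_iff.2 hux.eq)
    hu.1 fun c _ => by rw [smul_smul, huu, one_smul]
  refine ⟨z, hz, (P.conf.Sa a).mul_mem hu (P.conf.W_le_Sa a hz), ?_⟩
  show (u * z) • b = b
  rw [← (C.central a z hz u hu.1 hu.2).eq, mul_smul, hzu b B.hb, smul_smul, C.sq a z hz, one_smul]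

theorem conj_mem_vee {d : G} (hda : d • a = a) (hdY : ∀ y ∈ P.conf.kerS a b, Commute d y) {v : G}
    (hv : v ∈ P.conf.vee a b) : d * v * d⁻¹ ∈ P.conf.vee a b := by
  obtain ⟨w, hw, hy⟩ := hv
  rw [show v = v * w * w⁻¹ by group,
    show d * (v * w * w⁻¹) * d⁻¹ = d * (v * w) * d⁻¹ * (d * w⁻¹ * d⁻¹) by group,
    (hdY _ hy).eq, mul_inv_cancel_right]
  exact mul_mem (P.conf.kerS_le_vee a b hy)
    (P.conf.W_le_vee a b (smul_W_eq_of_smul P.conf (inv_mem hw) hda))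

theorem card_vee : Nat.card ↥(P.conf.vee a b) = Nat.card ↥(P.conf.kerS a b) * 2 ^ n := by
  rw [← P.card_W B.multi a, ← Nat.card_prod]
  refine (Nat.card_eq_of_bijective (fun p : ↥(P.conf.kerS a b) × ↥(W a) =>
    (⟨(p.1 : G) * p.2, mul_mem (P.conf.kerS_le_vee a b p.1.2) (P.conf.W_le_vee a b p.2.2)⟩ :
      ↥(P.conf.vee a b))) ⟨?_, ?_⟩).symm
  · rintro ⟨⟨y, hy⟩, ⟨w, hw⟩⟩ ⟨⟨y', hy'⟩, ⟨w', hw'⟩⟩ e
    have e' : y * w = y' * w' := congrArg Subtype.val e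
    have hd : y'⁻¹ * y = w' * w⁻¹ := by
      rw [show y'⁻¹ * y = y'⁻¹ * (y * w) * w⁻¹ by group, e']; group
    have h1 : y'⁻¹ * y = 1 := by
      by_contra h1
      exact B.hne (P.conf.uniq a _ (hd ▸ mul_mem hw' (inv_mem hw) : y'⁻¹ * y ∈ W a) h1 b
        ((P.conf.kerS a b).mul_mem (inv_mem hy') hy).2)
    obtain rfl := inv_mul_eq_one.1 h1
    obtain rfl := mul_left_cancel e'
    rfl
  · rintro ⟨v, w, hw, hy⟩
    exact ⟨(⟨v * w, hy⟩, ⟨w⁻¹, inv_mem hw⟩), Subtype.ext (mul_inv_cancel_right v w)⟩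

variable (hR : P.conf.famS a x = P.conf.Sa a)
include hR

/-- `[V, S] ≤ W`. -/
theorem comm_vee {v s : G} (hv : v ∈ P.conf.vee a b) (hs : s ∈ P.conf.Sa a) :
    v⁻¹ * (s * v * s⁻¹) ∈ W a := by
  obtain ⟨w, hw, hy⟩ := hv
  have hsw : Commute s w := (P.conf.central a w hw s hs.1 hs.2).symm
  by_cases hy1 : v * w = 1
  · rw [mul_eq_one_iff_eq_inv.1 hy1, hsw.inv_right.eq, mul_inv_cancel_right, inv_mul_cancel]
    exact one_mem _
  have hf : s ∈ P.conf.famS a (v * w) := by rw [P.famS_eq B hy hy1, hR]; exact hs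
  have hmem := hf.2
  have hc : Commute ((v⁻¹) * (s * v * s⁻¹)) w := by
    have hu : (v⁻¹ * (s * v * s⁻¹)) ∈ P.conf.Sa a := mul_mem (inv_mem (P.conf.mem_Sa_of_mul_W hw hy))
      (P.conf.Sa_normal hs.1 (P.conf.mem_Sa_of_mul_W hw hy))
    exact (P.conf.central a w hw _ hu.1 hu.2).symm
  rwa [show (v * w)⁻¹ * (s * (v * w) * s⁻¹) = w⁻¹ * (v⁻¹ * (s * v * s⁻¹)) * (s * w * s⁻¹) by group,
    hsw.eq, mul_inv_cancel_right, ← hc.inv_right.eq, inv_mul_cancel_right] at hmem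

/-- Under a fixed-point-free element centralising `W` one conjugate of `V` besides `V` remains. -/
theorem fam_unique (hi : i = 2) {k : G} (hko : Odd (orderOf k)) (hk1 : k ≠ 1) (hka : k • a = a)
    (hkW : ∀ w ∈ W a, Commute k w) {d : G} (hd1 : d ≠ 1) (hda : d • a = a)
    (hdY : ∀ y ∈ P.conf.kerS a b, Commute d y)
    (hdt : ∀ u ∈ W a, u ≠ 1 → ∀ v ∈ W a, v ≠ 1 → ∃ j : ℕ, d ^ j * u * (d ^ j)⁻¹ = v)
    (hdfpf : ∀ j : ℕ, ∀ u ∈ W a, u ≠ 1 → Commute (d ^ j) u → d ^ j = 1)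
    (Φ : Set G) (h1Φ : (1 : G) ∈ Φ) (hΦa : ∀ m ∈ Φ, m • a = a) (hΦd : ∀ m ∈ Φ, d * m * d⁻¹ ∈ Φ)
    (hΦk : ∀ m ∈ Φ, ∀ v ∈ P.conf.vee a b,
      m⁻¹ * k * m * v * (m⁻¹ * k * m)⁻¹ ∈ P.conf.vee a b) :
    ∀ m ∈ Φ, ∀ m' ∈ Φ, m * x * m⁻¹ ∉ P.conf.vee a b → m' * x * m'⁻¹ ∉ P.conf.vee a b →
      m⁻¹ * m' * x * (m⁻¹ * m')⁻¹ ∈ P.conf.vee a b := by
  classical
  subst hi
  intro m₀ hm₀ m₁ hm₁ hout₀ hout₁
  have C := P.conf
  set V := P.conf.vee a b with hV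
  set S := P.conf.Sa a with hS
  have hWc : ∀ w ∈ W a, ∀ s ∈ S, Commute w s := fun w hw s hs => C.central a w hw s hs.1 hs.2
  have hgenS : ∀ m ∈ Φ, ∀ v ∈ V, m * v * m⁻¹ ∈ S := fun m hm v hv =>
    P.conf.Sa_normal (hΦa m hm) (P.conf.vee_le_Sa a b hv)
  -- the generated group
  set T := closure {u : G | ∃ m ∈ Φ, ∃ v ∈ V, u = m * v * m⁻¹} with hT
  have hgen : ∀ m ∈ Φ, ∀ v ∈ V, m * v * m⁻¹ ∈ T := fun m hm v hv =>
    subset_closure ⟨m, hm, v, hv, rfl⟩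
  have hVT : V ≤ T := fun v hv => by simpa using hgen 1 h1Φ v hv
  have hWT : W a ≤ T := (P.conf.W_le_vee a b).trans hVT
  let Z : Subgroup G :=
    { carrier := {s | s ∈ S ∧ ∀ r ∈ S, s⁻¹ * (r * s * r⁻¹) ∈ W a}
      one_mem' := ⟨one_mem _, fun r _ => by simp [one_mem]⟩
      mul_mem' := fun {s t} hs ht => ⟨mul_mem hs.1 ht.1, fun r hr => by
        rw [show (s * t)⁻¹ * (r * (s * t) * r⁻¹) = t⁻¹ * (s⁻¹ * (r * s * r⁻¹)) * (r * t * r⁻¹) by
          group, ← ((hWc _ (hs.2 r hr) t ht.1).inv_right).eq, mul_assoc]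
        exact mul_mem (hs.2 r hr) (ht.2 r hr)⟩
      inv_mem' := fun {s} hs => ⟨inv_mem hs.1, fun r hr => by
        have h := inv_mem (hs.2 r hr)
        have hc : Commute s ((s⁻¹ * (r * s * r⁻¹))⁻¹) := (hWc _ h s hs.1).symm
        rw [show s⁻¹⁻¹ * (r * s⁻¹ * r⁻¹) = s * ((s⁻¹ * (r * s * r⁻¹))⁻¹) * s⁻¹ by group, hc.eq,
          mul_inv_cancel_right]
        exact h⟩ }
  have hTZ : T ≤ Z := (closure_le _).2 (by
    rintro _ ⟨m, hm, v, hv, rfl⟩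
    refine ⟨hgenS m hm v hv, fun r hr => ?_⟩
    have hmi : m⁻¹ • a = a := inv_smul_eq_iff.2 (hΦa m hm).symm
    have h := P.comm_vee B hR hv (by simpa using P.conf.Sa_normal hmi hr : m⁻¹ * r * m⁻¹⁻¹ ∈ S)
    have h' := smul_W_eq_of_smul C h (hΦa m hm)
    rwa [show m * (v⁻¹ * (m⁻¹ * r * m⁻¹⁻¹ * v * (m⁻¹ * r * m⁻¹⁻¹)⁻¹)) * m⁻¹ =
      (m * v * m⁻¹)⁻¹ * (r * (m * v * m⁻¹) * r⁻¹) by group] at h')
  have hTS : ∀ t ∈ T, t ∈ S := fun t ht => (hTZ ht).1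
  have hTcomm : ∀ s ∈ T, ∀ r ∈ T, s⁻¹ * (r * s * r⁻¹) ∈ W a := fun s hs r hr =>
    (hTZ hs).2 r (hTS r hr)
  have hTsq : ∀ t ∈ T, t * t ∈ W a := by
    intro t ht
    induction ht using closure_induction with
    | mem u hu =>
      obtain ⟨m, -, v, hv, rfl⟩ := hu
      rw [show m * v * m⁻¹ * (m * v * m⁻¹) = m * (v * v) * m⁻¹ by group, P.vee_sq B hv, mul_one,
        mul_inv_cancel]
      exact one_mem _
    | one => rw [one_mul]; exact one_mem _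
    | mul s r hs hr ihs ihr =>
      have hc := hTcomm s hs r hr
      rw [show s * r * (s * r) = s * (r * s * r⁻¹) * (r * r) by group,
        show s * (r * s * r⁻¹) = s * s * (s⁻¹ * (r * s * r⁻¹)) by group]
      exact mul_mem (mul_mem ihs hc) ihr
    | inv s hs ih =>
      rw [← mul_inv_rev]
      exact inv_mem ih
  have hTinv : ∀ g : G, g • a = a → (∀ m ∈ Φ, ∀ v ∈ V, g * (m * v * m⁻¹) * g⁻¹ ∈ T) →
      ∀ t ∈ T, g * t * g⁻¹ ∈ T := by
    intro g _ hg t ht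
    have hle : T ≤ T.comap (MulAut.conj g).toMonoidHom := (closure_le _).2 (by
      rintro _ ⟨m, hm, v, hv, rfl⟩
      exact hg m hm v hv)
    exact hle ht
  have hkT : ∀ t ∈ T, k * t * k⁻¹ ∈ T := hTinv k hka fun m hm v hv => by
    have := hgen m hm _ (hΦk m hm v hv)
    rwa [show m * (m⁻¹ * k * m * v * (m⁻¹ * k * m)⁻¹) * m⁻¹ = k * (m * v * m⁻¹) * k⁻¹ by group] at this
  have hdT : ∀ t ∈ T, d * t * d⁻¹ ∈ T := hTinv d hda fun m hm v hv => by
    have := hgen _ (hΦd m hm) _ (P.conj_mem_vee B hda hdY hv)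
    rwa [show d * m * d⁻¹ * (d * v * d⁻¹) * (d * m * d⁻¹)⁻¹ = d * (m * v * m⁻¹) * d⁻¹ by group] at this
  -- `k` has no fixed point on a conjugate of `V` modulo `W a`
  have hfp : ∀ m ∈ Φ, ∀ v ∈ V, k * (m * v * m⁻¹) * k⁻¹ * (m * v * m⁻¹)⁻¹ ∈ W a →
      m * v * m⁻¹ ∈ W a := by
    intro m hm v hv h
    set u := m * v * m⁻¹
    set w := k * u * k⁻¹ * u⁻¹
    have hku : k * u * k⁻¹ = w * u := (inv_mul_cancel_right _ u).symm
    have hit : ∀ l : ℕ, k ^ l * u * (k ^ l)⁻¹ = w ^ l * u := by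
      intro l
      induction l with
      | zero => simp
      | succ l ih =>
        rw [pow_succ' k, show k * k ^ l * u * (k * k ^ l)⁻¹ = k * (k ^ l * u * (k ^ l)⁻¹) * k⁻¹ by group,
          ih, show k * (w ^ l * u) * k⁻¹ = (k * w ^ l * k⁻¹) * (k * u * k⁻¹) by group,
          ((hkW w h).pow_right l).eq, mul_inv_cancel_right, pow_succ,
          hku, ← mul_assoc]
    have hw1 : w = 1 := by
      have h1 := hit (orderOf k)
      rw [pow_orderOf_eq_one, one_mul, inv_one, mul_one, eq_comm, mul_eq_right] at h1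
      exact SETwoClosed.TwoEl.eq_one_of_odd (C.twoEl_W h) (hko.of_dvd_nat (orderOf_dvd_of_pow_eq_one h1))
    by_contra huW
    have hvW : v ∉ W a := fun hvW => huW (smul_W_eq_of_smul C hvW (hΦa m hm))
    exact hk1 (P.toEnv.eq_one_of_commute ((P.multi_of_mem_vee B hv hvW).conj m)
      (hgenS m hm v hv).1 hko (mul_inv_eq_iff_eq_mul.1 (mul_inv_eq_one.1 hw1)) hkW)
  -- so none on `T` modulo `W a`
  let WT := (W a).subgroupOf T
  haveI : WT.Normal := ⟨fun w hw r => by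
    show (r : G) * w * (r : G)⁻¹ ∈ W a
    have hc : Commute ((w : ↥T) : G) (r : G) := hWc _ hw r (hTS r r.2)
    rw [← hc.eq, mul_inv_cancel_right]; exact hw⟩
  let ψ : ↥T →* ↥T ⧸ WT := MonoidHom.mk'
    (fun r => ((⟨k * r * k⁻¹ * (r : G)⁻¹, mul_mem (hkT r r.2) (inv_mem r.2)⟩ : ↥T) : ↥T ⧸ WT))
    fun r s => by
      rw [← QuotientGroup.mk_mul, QuotientGroup.eq]
      show (k * (r * s : G) * k⁻¹ * (r * s : G)⁻¹)⁻¹ *
        (k * r * k⁻¹ * (r : G)⁻¹ * (k * s * k⁻¹ * (s : G)⁻¹)) ∈ W a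
      have hq : k * s * k⁻¹ * (s : G)⁻¹ ∈ T := mul_mem (hkT s s.2) (inv_mem s.2)
      have hc := hTcomm _ (inv_mem hq) r r.2
      rw [inv_inv] at hc
      rw [show (k * (r * s : G) * k⁻¹ * (r * s : G)⁻¹)⁻¹ *
        (k * r * k⁻¹ * (r : G)⁻¹ * (k * s * k⁻¹ * (s : G)⁻¹)) =
        (k * s * k⁻¹ * (s : G)⁻¹)⁻¹ * (k * s * k⁻¹ * (s : G)⁻¹ *
          ((r : G) * (k * s * k⁻¹ * (s : G)⁻¹)⁻¹ * (r : G)⁻¹) * (k * s * k⁻¹ * (s : G)⁻¹)) by group,
        (hWc _ hc _ (hTS _ hq)).eq, inv_mul_cancel_left]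
      exact hc
  let ψ' : ↥T ⧸ WT →* ↥T ⧸ WT := QuotientGroup.lift WT ψ fun r hr => by
    rw [MonoidHom.mem_ker, MonoidHom.mk'_apply, QuotientGroup.eq_one_iff]
    show k * (r : G) * k⁻¹ * (r : G)⁻¹ ∈ W a
    have hc : Commute k (r : G) := hkW _ hr
    rw [hc.eq, mul_inv_cancel_right, mul_inv_cancel]; exact one_mem _
  have hsurj : ψ'.range = ⊤ := by
    have hle : T ≤ (ψ'.range.comap (QuotientGroup.mk' WT)).map T.subtype := (closure_le _).2 (by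
      rintro _ ⟨m, hm, v, hv, rfl⟩
      let Cl : Set (↥T ⧸ WT) :=
        {c | ∃ v' ∈ V, ∃ t : ↥T, (t : G) = m * v' * m⁻¹ ∧ c = (t : ↥T ⧸ WT)}
      have hmaps : ∀ c : Cl, ψ' c.1 ∈ Cl := by
        rintro ⟨_, v', hv', t, ht, rfl⟩
        refine ⟨m⁻¹ * k * m * v' * (m⁻¹ * k * m)⁻¹ * v'⁻¹, mul_mem (hΦk m hm v' hv') (inv_mem hv'),
          ⟨k * t * k⁻¹ * (t : G)⁻¹, mul_mem (hkT t t.2) (inv_mem t.2)⟩, ?_, rfl⟩
        show k * (t : G) * k⁻¹ * (t : G)⁻¹ = _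
        rw [ht]; group
      let g : Cl → Cl := fun c => ⟨ψ' c.1, hmaps c⟩
      have hg : Function.Injective g := by
        rintro ⟨_, v', hv', t, ht, rfl⟩ ⟨_, v'', hv'', s, hs, rfl⟩ e
        refine Subtype.ext ?_
        have e' : ψ' (t : ↥T ⧸ WT) = ψ' (s : ↥T ⧸ WT) := congrArg Subtype.val e
        have h1 : ψ' ((t⁻¹ * s : ↥T) : ↥T ⧸ WT) = 1 := by
          rw [QuotientGroup.mk_mul, QuotientGroup.mk_inv, map_mul, map_inv, e', inv_mul_cancel]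
        have hts : ((t⁻¹ * s : ↥T) : G) = m * (v'⁻¹ * v'') * m⁻¹ := by
          push_cast; rw [ht, hs]; group
        rw [QuotientGroup.lift_mk, MonoidHom.mk'_apply, QuotientGroup.eq_one_iff] at h1
        have h2 : k * ((t⁻¹ * s : ↥T) : G) * k⁻¹ * ((t⁻¹ * s : ↥T) : G)⁻¹ ∈ W a := h1
        rw [hts] at h2
        refine QuotientGroup.eq.2 ?_
        show ((t⁻¹ * s : ↥T) : G) ∈ W a
        rw [hts]
        exact hfp m hm _ (mul_mem (inv_mem hv') hv'') h2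
      obtain ⟨c, hc⟩ := Finite.injective_iff_surjective.1 hg ⟨_, v, hv, ⟨_, hgen m hm v hv⟩, rfl, rfl⟩
      exact ⟨⟨_, hgen m hm v hv⟩, ⟨c.1, congrArg Subtype.val hc⟩, rfl⟩)
    refine (Subgroup.eq_top_iff' _).2 fun c => ?_
    induction c using QuotientGroup.induction_on with
    | H t =>
      obtain ⟨t', ht', e⟩ := hle t.2
      rwa [show t' = t from Subtype.ext e] at ht'
  have hinj : Function.Injective ψ' := Finite.injective_iff_surjective.2 fun c => hsurj.ge (mem_top c)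
  have hfix : ∀ t ∈ T, k * t * k⁻¹ * t⁻¹ ∈ W a → t ∈ W a := by
    intro t ht h
    have h1 : ψ' ((⟨t, ht⟩ : ↥T) : ↥T ⧸ WT) = 1 := by
      rw [QuotientGroup.lift_mk, MonoidHom.mk'_apply, QuotientGroup.eq_one_iff]; exact h
    have := hinj (h1.trans (map_one _).symm)
    rwa [QuotientGroup.eq_one_iff] at this
  -- hence `T` meets `C_S(x)` in `V`
  have hxV := P.x_mem_vee B
  have hkV : ∀ v ∈ V, k * v * k⁻¹ ∈ V := fun v hv => by
    simpa using hΦk 1 h1Φ v hv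
  have hkC : ∀ t ∈ T, t ∈ P.conf.centS a x → k * t * k⁻¹ ∈ P.conf.centS a x := by
    intro t ht htC
    obtain ⟨w, hw, hy⟩ := hkV x hxV
    have hkx : k * x * k⁻¹ * w ≠ 1 := fun e => P.x_not_mem_W B (by
      have h1 : k * x * k⁻¹ ∈ W a := by rw [mul_eq_one_iff_eq_inv.1 e]; exact inv_mem hw
      have h2 := smul_W_eq_of_smul C h1 (inv_smul_eq_iff.2 hka.symm)
      rwa [show k⁻¹ * (k * x * k⁻¹) * k⁻¹⁻¹ = x by group] at h2)
    obtain ⟨-, -, hcent⟩ := P.centS_eq B hy hkx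
    rw [← hcent]
    have htS := P.conf.Sa_normal hka (hTS t ht)
    refine P.conf.mem_centS.2 ⟨htS, Commute.mul_right ?_ (hWc w hw _ htS).symm⟩
    exact (P.conf.mem_centS.1 htC).2.map (MulAut.conj k).toMonoidHom
  have hTC : ∀ t ∈ T, t ∈ P.conf.centS a x → t ∈ V := by
    intro t ht htC
    by_cases hex : ∀ r ∈ T, r ∈ P.conf.centS a x → r * r = 1
    · exact P.mem_vee_of_commute B (hTS t ht) (hex t ht htC) hxV (P.x_not_mem_W B)
        (P.conf.mem_centS.1 htC).2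
    push Not at hex
    obtain ⟨r₀, hr₀, hr₀C, hr₀1⟩ := hex
    have hdx : Commute d x := hdY x (P.mem_kerS_self B)
    have hdjT : ∀ j : ℕ, d ^ j * r₀ * (d ^ j)⁻¹ ∈ T ∧ d ^ j * r₀ * (d ^ j)⁻¹ ∈ P.conf.centS a x := by
      intro j
      induction j with
      | zero => simpa using ⟨hr₀, hr₀C⟩
      | succ j ih =>
        rw [pow_succ', show d * d ^ j * r₀ * (d * d ^ j)⁻¹ = d * (d ^ j * r₀ * (d ^ j)⁻¹) * d⁻¹ by group]
        refine ⟨hdT _ ih.1, P.conf.mem_centS.2 ⟨P.conf.Sa_normal hda (hTS _ ih.1), ?_⟩⟩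
        have h2 := (P.conf.mem_centS.1 ih.2).2.map (MulAut.conj d).toMonoidHom
        simpa [hdx.eq, mul_assoc] using h2
    have hroot : ∀ w : ↥(W a), ∃ r : G, (r ∈ T ∧ r ∈ P.conf.centS a x) ∧ r * r = w := by
      rintro ⟨w, hw⟩
      by_cases hw1 : w = 1
      · exact ⟨1, ⟨one_mem _, one_mem _⟩, by rw [one_mul]; exact hw1.symm⟩
      obtain ⟨j, hj⟩ := hdt _ (hTsq r₀ hr₀) hr₀1 w hw hw1
      exact ⟨_, hdjT j, by rw [show (d ^ j * r₀ * (d ^ j)⁻¹) * (d ^ j * r₀ * (d ^ j)⁻¹) =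
        d ^ j * (r₀ * r₀) * (d ^ j)⁻¹ by group]; exact hj⟩
    choose r hr hrr using hroot
    have hVc : ∀ v ∈ V, ∀ s ∈ P.conf.centS a x, Commute s v := by
      intro v hv s hs
      obtain ⟨w, hw, hy⟩ := hv
      have := (P.ker_commute B hy hs).mul_right ((hWc w hw s hs.1).symm.inv_right)
      rwa [mul_inv_cancel_right] at this
    have hrv : ∀ (w : ↥(W a)) (v : ↥V), r w * v * (r w * v) = (w : G) := fun w v => by
      rw [((hVc v v.2 _ (hr w).2).symm).mul_mul_mul_comm, P.vee_sq B v.2, mul_one, hrr]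
    let f : ↥(W a) × ↥V → ↥(P.conf.centS a x) := fun p =>
      ⟨r p.1 * p.2, mul_mem (hr p.1).2 (P.vee_le_centS B p.2.2)⟩
    have hf : Function.Bijective f := by
      refine (Nat.bijective_iff_injective_and_card f).2 ⟨?_, ?_⟩
      · rintro ⟨w, v⟩ ⟨w', v'⟩ e
        have e' : r w * v = r w' * v' := congrArg Subtype.val e
        obtain rfl : w = w' := Subtype.ext (by rw [← hrv w v, e', hrv w' v'])
        exact Prod.ext rfl (Subtype.ext (mul_left_cancel e'))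
      · rw [Nat.card_prod, P.card_vee B, P.card_centS B, P.card_W B.multi]; ring
    set s := k * t * k⁻¹
    obtain ⟨⟨w, v⟩, e⟩ := hf.2 ⟨t, htC⟩
    obtain ⟨⟨w', v'⟩, e'⟩ := hf.2 ⟨s, hkC t ht htC⟩
    have et : r w * (v : G) = t := congrArg Subtype.val e
    have es : r w' * (v' : G) = s := congrArg Subtype.val e'
    obtain rfl : w = w' := Subtype.ext (by
      rw [← hrv w v, ← hrv w' v', et, es]
      simp only [s]
      rw [show k * t * k⁻¹ * (k * t * k⁻¹) = k * (t * t) * k⁻¹ by group, (hkW _ (hTsq t ht)).eq,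
        mul_inv_cancel_right])
    have hkt : t⁻¹ * s ∈ V := by
      rw [← et, ← es, show (r w * (v : G))⁻¹ * (r w * (v' : G)) = (v : G)⁻¹ * v' by group]
      exact mul_mem (inv_mem v.2) v'.2
    have hkt' : s * t⁻¹ ∈ V := by
      rw [show s * t⁻¹ = t * (t⁻¹ * s) * t⁻¹ by group, (hVc _ hkt t htC).eq, mul_inv_cancel_right]
      exact hkt
    -- correct `t` by an element of `V`
    let g : ↥V ⧸ (W a).subgroupOf V → ↥V ⧸ (W a).subgroupOf V := fun c => Quotient.liftOn' c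
      (fun v => ((⟨k * v * k⁻¹ * (v : G)⁻¹, mul_mem (hkV v v.2) (inv_mem v.2)⟩ : ↥V) :
        ↥V ⧸ (W a).subgroupOf V)) fun v v' h => by
        rw [QuotientGroup.leftRel_apply] at h
        have hw : (v : G)⁻¹ * v' ∈ W a := h
        refine QuotientGroup.eq.2 ?_
        show (k * v * k⁻¹ * (v : G)⁻¹)⁻¹ * (k * v' * k⁻¹ * (v' : G)⁻¹) ∈ W a
        set w := (v : G)⁻¹ * v' with hwd
        have hv' : (v' : G) = v * w := by rw [hwd, mul_inv_cancel_left]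
        rw [hv', show k * ((v : G) * w) * k⁻¹ * ((v : G) * w)⁻¹ =
          k * v * k⁻¹ * ((k * w * k⁻¹) * w⁻¹) * (v : G)⁻¹ by group, (hkW w hw).eq,
          mul_inv_cancel_right, mul_inv_cancel, mul_one, inv_mul_cancel]
        exact one_mem _
    have hg : Function.Injective g := by
      intro c c' h
      induction c using QuotientGroup.induction_on with
      | H v =>
        induction c' using QuotientGroup.induction_on with
        | H v' =>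
          have h1 : (k * v * k⁻¹ * (v : G)⁻¹)⁻¹ * (k * v' * k⁻¹ * (v' : G)⁻¹) ∈ W a :=
            (QuotientGroup.eq.1 (show ((⟨k * v * k⁻¹ * (v : G)⁻¹, mul_mem (hkV v v.2) (inv_mem v.2)⟩ :
              ↥V) : ↥V ⧸ (W a).subgroupOf V) = ((⟨k * v' * k⁻¹ * (v' : G)⁻¹,
              mul_mem (hkV v' v'.2) (inv_mem v'.2)⟩ : ↥V) : ↥V ⧸ (W a).subgroupOf V) from h) :)
          refine QuotientGroup.eq.2 ?_
          show (v : G)⁻¹ * v' ∈ W a
          have hq : (v : G)⁻¹ * v' ∈ T := hVT (mul_mem (inv_mem v.2) v'.2)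
          refine hfix _ hq ?_
          have hvv : ∀ p q : ↥V, Commute (p : G) q := fun p q =>
            hVc _ q.2 _ (P.vee_le_centS B p.2)
          have hkv : ∀ p : ↥V, k * p * k⁻¹ ∈ V := fun p => hkV p p.2
          have e1 : k * ((v : G)⁻¹ * v') * k⁻¹ * ((v : G)⁻¹ * v')⁻¹ =
              (k * v * k⁻¹)⁻¹ * ((k * v' * k⁻¹ * (v' : G)⁻¹) * v) := by group
          have hc : Commute (k * v' * k⁻¹ * (v' : G)⁻¹) (v : G) :=
            hvv ⟨_, mul_mem (hkv v') (inv_mem v'.2)⟩ v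
          have hd : Commute (k * v * k⁻¹)⁻¹ (v : G) := (hvv ⟨_, hkv v⟩ v).inv_left
          rw [e1, hc.eq, ← mul_assoc, hd.eq]
          rwa [show (k * v * k⁻¹ * (v : G)⁻¹)⁻¹ = (v : G) * (k * v * k⁻¹)⁻¹ by group] at h1
    obtain ⟨c, hc⟩ := Finite.injective_iff_surjective.1 hg
      ((⟨s * t⁻¹, hkt'⟩ : ↥V) : ↥V ⧸ (W a).subgroupOf V)
    induction c using QuotientGroup.induction_on with
    | H v =>
      have h1 : (k * v * k⁻¹ * (v : G)⁻¹)⁻¹ * (s * t⁻¹) ∈ W a :=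
        (QuotientGroup.eq.1 (show ((⟨k * v * k⁻¹ * (v : G)⁻¹, mul_mem (hkV v v.2) (inv_mem v.2)⟩ :
          ↥V) : ↥V ⧸ (W a).subgroupOf V) = ((⟨s * t⁻¹, hkt'⟩ : ↥V) : ↥V ⧸ (W a).subgroupOf V) from hc) :)
      have hvT := hVT v.2
      have h2 : (v : G)⁻¹ * t ∈ W a := by
        refine hfix _ (mul_mem (inv_mem hvT) ht) ?_
        have e1 : k * ((v : G)⁻¹ * t) * k⁻¹ * ((v : G)⁻¹ * t)⁻¹ =
            (k * v * k⁻¹)⁻¹ * ((s * t⁻¹) * v) := by simp only [s]; group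
        have hc' : Commute (s * t⁻¹) (v : G) := hVc _ v.2 _ (P.vee_le_centS B hkt')
        have hd : Commute (k * v * k⁻¹)⁻¹ (v : G) :=
          (hVc _ v.2 _ (P.vee_le_centS B (hkV v v.2))).inv_left
        rw [e1, hc'.eq, ← mul_assoc, hd.eq]
        rwa [show (k * v * k⁻¹ * (v : G)⁻¹)⁻¹ = (v : G) * (k * v * k⁻¹)⁻¹ by group] at h1
      have := mul_mem v.2 (P.conf.W_le_vee a b h2)
      rwa [mul_inv_cancel_left] at this
  -- the decomposition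
  have hxS : x ∈ S := P.x_mem_Sa B
  have houtC : ∀ m ∈ Φ, ∀ v ∈ V, v ∉ W a → m * x * m⁻¹ ∉ V →
      m * v * m⁻¹ ∉ P.conf.centS a x := by
    intro m hm v hv hvW hout hC
    have huW : m * v * m⁻¹ ∉ W a := fun h => hvW (by
      have := smul_W_eq_of_smul C h (inv_smul_eq_iff.2 (hΦa m hm).symm)
      rwa [show m⁻¹ * (m * v * m⁻¹) * m⁻¹⁻¹ = v by group] at this)
    have huV : m * v * m⁻¹ ∈ V := hTC _ (hgen m hm v hv) hC
    refine hout (P.mem_vee_of_commute B (hgenS m hm x hxV) ?_ huV huW ?_)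
    · rw [show m * x * m⁻¹ * (m * x * m⁻¹) = m * (x * x) * m⁻¹ by group, P.vee_sq B hxV, mul_one,
        mul_inv_cancel]
    · exact (P.conf.mem_centS.1 (P.vee_le_centS B hv)).2.symm.map (MulAut.conj m).toMonoidHom
  have hTsurj : ∀ w ∈ W a, ∃ r ∈ T, famMap x r = w := by
    intro w hw
    by_cases hw1 : w = 1
    · exact ⟨1, one_mem _, by simp [famMap, hw1]⟩
    set u := m₀ * x * m₀⁻¹
    have huT : u ∈ T := hgen m₀ hm₀ x hxV
    have hfu : famMap x u ≠ 1 := fun h => houtC m₀ hm₀ x hxV (P.x_not_mem_W B) hout₀ (by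
      simp only [famMap, inv_mul_eq_one] at h
      exact P.conf.mem_centS.2 ⟨hgenS m₀ hm₀ x hxV, mul_inv_eq_iff_eq_mul.1 h.symm⟩)
    have hfW : famMap x u ∈ W a := hTcomm x (hVT hxV) u huT
    obtain ⟨j, hj⟩ := hdt _ hfW hfu w hw hw1
    refine ⟨d ^ j * u * (d ^ j)⁻¹, ?_, ?_⟩
    · clear hj
      induction j with
      | zero => simpa using huT
      | succ j ih =>
        rw [pow_succ', show d * d ^ j * u * (d * d ^ j)⁻¹ = d * (d ^ j * u * (d ^ j)⁻¹) * d⁻¹ by group]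
        exact hdT _ ih
    · have hdj : Commute (d ^ j) x := (hdY x (P.mem_kerS_self B)).pow_left j
      rw [← hj]
      simp only [famMap]
      have e3 : d ^ j * x * (d ^ j)⁻¹ = x := by rw [hdj.eq, mul_inv_cancel_right]
      calc x⁻¹ * (d ^ j * u * (d ^ j)⁻¹ * x * (d ^ j * u * (d ^ j)⁻¹)⁻¹)
          = (d ^ j * x * (d ^ j)⁻¹)⁻¹ * (d ^ j * u * (d ^ j)⁻¹ * (d ^ j * x * (d ^ j)⁻¹) *
            (d ^ j * u * (d ^ j)⁻¹)⁻¹) := by rw [e3]
        _ = _ := by group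
  obtain ⟨N, hN⟩ := P.exists_split B (T := T) (fun t ht => by rw [hR]; exact hTS t ht)
    ((P.conf.kerS_le_vee a b).trans hVT) hWT hTsq (fun c hc hcC => hTC c hc hcC) hTsurj hd1 hda hdY
    hdT hdt hdfpf
  -- the involutions outside `C_S(x)`
  set u := m₀ * x * m₀⁻¹ with hu
  have huT : u ∈ T := hgen m₀ hm₀ x hxV
  have hsqgen : ∀ m : G, ∀ v ∈ V, m * v * m⁻¹ * (m * v * m⁻¹) = 1 := fun m v hv => by
    rw [show m * v * m⁻¹ * (m * v * m⁻¹) = m * (v * v) * m⁻¹ by group, P.vee_sq B hv, mul_one,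
      mul_inv_cancel]
  obtain ⟨y₀, hy₀, ⟨p, hp, hup⟩, hy₀N, hall⟩ := hN.inv_coset u huT (hsqgen m₀ x hxV)
    (houtC m₀ hm₀ x hxV (P.x_not_mem_W B) hout₀)
  have hy₀1 : y₀ = 1 := by
    -- `u` and its image under `k`
    set v := m₀⁻¹ * k * m₀ * x * (m₀⁻¹ * k * m₀)⁻¹
    have hv : v ∈ V := hΦk m₀ hm₀ x hxV
    have hvW : v ∉ W a := fun h => P.x_not_mem_W B (by
      have hmk : (m₀⁻¹ * k * m₀)⁻¹ • a = a := by
        rw [inv_smul_eq_iff, mul_smul, mul_smul, hΦa m₀ hm₀, hka, inv_smul_eq_iff.2 (hΦa m₀ hm₀).symm]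
      have h2 := smul_W_eq_of_smul C h hmk
      rwa [show (m₀⁻¹ * k * m₀)⁻¹ * v * (m₀⁻¹ * k * m₀)⁻¹⁻¹ = x by simp only [v]; group] at h2)
    have hxvW : x * v ∉ W a := fun h => by
      have h2 : k * u * k⁻¹ * u⁻¹ ∈ W a := by
        have h1 := smul_W_eq_of_smul C h (hΦa m₀ hm₀)
        have e : m₀ * (x * v) * m₀⁻¹ = u * (k * u * k⁻¹) := by simp only [v, hu]; group
        have hui : u⁻¹ = u := inv_eq_of_mul_eq_one_right (hsqgen m₀ x hxV)
        have h3 : k * u * k⁻¹ * u⁻¹ = (m₀ * (x * v) * m₀⁻¹)⁻¹ := by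
          rw [e, show (u * (k * u * k⁻¹))⁻¹ = k * u⁻¹ * k⁻¹ * u⁻¹ by group, hui]
        exact h3 ▸ inv_mem h1
      exact houtC m₀ hm₀ x hxV (P.x_not_mem_W B) hout₀ (P.vee_le_centS B
        (P.conf.W_le_vee a b (hfp m₀ hm₀ x hxV h2)))
    obtain ⟨p1, hp1, e1⟩ := hall _ (hgen m₀ hm₀ v hv) (hsqgen m₀ v hv) (houtC m₀ hm₀ v hv hvW hout₀)
    obtain ⟨p2, hp2, e2⟩ := hall _ (hgen m₀ hm₀ _ (mul_mem hxV hv)) (hsqgen m₀ _ (mul_mem hxV hv))
      (houtC m₀ hm₀ _ (mul_mem hxV hv) hxvW hout₀)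
    have hy0i : y₀⁻¹ = y₀ := inv_eq_of_mul_eq_one_right (P.ker_sq B hy₀)
    have hinvp : y₀ * p * y₀ = p⁻¹ := by rw [eq_inv_iff_mul_eq_one, ← hy₀N p hp]; group
    have hyN : y₀ ∈ N := by
      have e : y₀ * p2 = p⁻¹ * p1 := by
        rw [← e2, show m₀ * (x * v) * m₀⁻¹ = u * (m₀ * v * m₀⁻¹) by simp only [hu]; group, e1, hup,
          show y₀ * p * (y₀ * p1) = y₀ * p * y₀ * p1 by group, hinvp]
      rw [show y₀ = p⁻¹ * p1 * p2⁻¹ by rw [← e, mul_inv_cancel_right]]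
      exact mul_mem (mul_mem (inv_mem hp) hp1) (inv_mem hp2)
    by_contra h1
    exact B.hne (C.uniq a y₀ (hN.inter y₀ hyN (P.ker_le_centS B hy₀)) h1 b hy₀.2)
  simp only [hy₀1, one_mul] at hy₀N hall hup
  obtain ⟨p', hp', e'⟩ := hall _ (hgen m₁ hm₁ x hxV) (hsqgen m₁ x hxV)
    (houtC m₁ hm₁ x hxV (P.x_not_mem_W B) hout₁)
  have hcomm : Commute u (m₁ * x * m₁⁻¹) := by
    have h := hy₀N _ (mul_mem hp hp')
    have e1 := inv_eq_of_mul_eq_one_right (hy₀N p hp)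
    have e2 := inv_eq_of_mul_eq_one_right (hy₀N p' hp')
    show u * _ = _ * u
    rw [hup, e', ← inv_eq_of_mul_eq_one_right h, mul_inv_rev, e1, e2]
  have hmi : m₀⁻¹ • a = a := inv_smul_eq_iff.2 (hΦa m₀ hm₀).symm
  have hma : (m₀⁻¹ * m₁) • a = a := by rw [mul_smul, hΦa m₁ hm₁, hmi]
  refine P.mem_vee_of_commute B (P.conf.Sa_normal hma hxS) (hsqgen _ x hxV) hxV (P.x_not_mem_W B) ?_
  have h := hcomm.map (MulAut.conj m₀⁻¹).toMonoidHom
  simp only [MulEquiv.coe_toMonoidHom, MulAut.conj_apply, hu] at h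
  rw [show m₀⁻¹ * (m₀ * x * m₀⁻¹) * m₀⁻¹⁻¹ = x by group,
    show m₀⁻¹ * (m₁ * x * m₁⁻¹) * m₀⁻¹⁻¹ = m₀⁻¹ * m₁ * x * (m₀⁻¹ * m₁)⁻¹ by group] at h
  exact h.symm

end Par

end Cfsg.Agent.DClassConf
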