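import Cfsg.Agent.Lib.DClassConf.Two
import Cfsg.Agent.Lib.DClassConf.Parity
import Cfsg.Agent.Lib.CyclicSylowInter.Noncentral.Single
import Cfsg.Agent.Lib.SETwoClosed.Linear

/-!
# The stabilizer of a point fixes the family

For `i = 2` and a block with `R = S` every element fixing `a` normalises `V`.  A complement of `S` in
the stabilizer either acts faithfully on `W a`, and then a power of the torus generates a normal
subgroup, or has a normal elementary subgroup centralising `W a`, one of whose elements fixes `V` by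
the averaging argument on the group generated by the conjugates of `V`, and then all of them do.
-/

set_option autoImplicit false
set_option linter.style.haveILetI false
set_option linter.unusedSectionVars false

namespace Cfsg.Agent.DClassConf

open MulAction Subgroup
open Cfsg.Agent.Involutions
open Cfsg.Agent.SETwoClosed (TwoEl twoEl_of_sq)

universe u

variable {G : Type u} [Group G] {Ω : Type u} [MulAction G Ω] {W : Ω → Subgroup G}

theorem four_mul_lt : ∀ n : ℕ, 5 ≤ n → 4 * n + 1 < 2 ^ n := by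
  intro n hn
  induction n, hn using Nat.le_induction with
  | base => norm_num
  | succ n hn ih => rw [pow_succ]; omega

theorem two_pow_mod_big : ∀ r < 13, ∀ s < 13, ∀ p ∈ [29, 43], 2 ^ r % p = 2 ^ s % p → r = s := by
  decide +kernel

/-- An element of odd order lies in every subgroup containing its square. -/
theorem mem_of_sq_mem {F : Subgroup G} {e : G} (he : Odd (orderOf e)) (h : e * e ∈ F) : e ∈ F := by
  obtain ⟨j, hj⟩ := he
  have e1 : (e * e) ^ (j + 1) = e := by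
    rw [← pow_two, ← pow_mul, show 2 * (j + 1) = 2 * j + 1 + 1 by ring, pow_succ, ← hj,
      pow_orderOf_eq_one, one_mul]
  exact e1 ▸ pow_mem h _

namespace Par

variable [IsSimpleGroup G] [Finite G] [Finite Ω] {n i : ℕ} (P : Par W n i)
include P

variable {a b : Ω} {x : G} (B : Block a b x)
include B

theorem conj_mem_vee_of_fix {m : G} (hma : m • a = a) (hm : m * x * m⁻¹ ∈ P.conf.vee a b) {v : G}
    (hv : v ∈ P.conf.vee a b) : m * v * m⁻¹ ∈ P.conf.vee a b := by
  refine P.mem_vee_of_commute B (P.conf.Sa_normal hma (P.conf.vee_le_Sa a b hv)) ?_ hm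
    (P.conf.not_mem_of_multi (B.multi.conj m) a) ?_
  · rw [show m * v * m⁻¹ * (m * v * m⁻¹) = m * (v * v) * m⁻¹ by group, P.vee_sq B hv, mul_one,
      mul_inv_cancel]
  · exact (P.conf.mem_centS.1 (P.vee_le_centS B hv)).2.map (MulAut.conj m).toMonoidHom

theorem mem_normalizer_vee {m : G} (hma : m • a = a) (hm : m * x * m⁻¹ ∈ P.conf.vee a b) :
    m ∈ normalizer (P.conf.vee a b : Set G) := by
  let f : ↥(P.conf.vee a b) → ↥(P.conf.vee a b) := fun v =>
    ⟨m * v * m⁻¹, P.conj_mem_vee_of_fix B hma hm v.2⟩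
  have hf : Function.Injective f := fun u v h =>
    Subtype.ext (mul_left_cancel (mul_right_cancel (congrArg Subtype.val h :)))
  refine mem_normalizer_iff.2 fun g => ⟨fun hg => P.conj_mem_vee_of_fix B hma hm hg, fun hg => ?_⟩
  obtain ⟨v, hv⟩ := Finite.injective_iff_surjective.1 hf ⟨_, hg⟩
  have e : m * (v : G) * m⁻¹ = m * g * m⁻¹ := congrArg Subtype.val hv
  rw [← mul_left_cancel (mul_right_cancel e)]
  exact v.2

theorem card_kerS_le (hR : P.conf.famS a x = P.conf.Sa a) :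
    Nat.card ↥(P.conf.kerS a b) ≤ 2 ^ n := by
  obtain ⟨w, hw, hw1⟩ := P.conf.exists_W a
  obtain ⟨s, hs, hsx⟩ := P.exists_conj_mul B hw
  have hsC : ¬ Commute s x := fun h => hw1 (by
    rw [h.eq, mul_inv_cancel_right] at hsx
    exact mul_eq_left.1 hsx.symm)
  rw [← P.card_W B.multi a]
  refine Nat.card_le_card_of_injective (fun y : ↥(P.conf.kerS a b) =>
    (⟨(y : G)⁻¹ * (s * y * s⁻¹), P.comm_vee B hR (P.conf.kerS_le_vee a b y.2) hs⟩ : ↥(W a))) ?_
  intro y y' h
  have e : (y : G)⁻¹ * (s * y * s⁻¹) = (y' : G)⁻¹ * (s * y' * s⁻¹) := congrArg Subtype.val h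
  by_contra hne
  have hyy : (y' : G) * (y : G)⁻¹ ≠ 1 := fun h' => hne (Subtype.ext (mul_inv_eq_one.1 h').symm)
  obtain ⟨-, -, hcent⟩ := P.centS_eq B (mul_mem y'.2 (inv_mem y.2)) hyy
  refine hsC (P.conf.mem_centS.1 (hcent.le (P.conf.mem_centS.2 ⟨hs, ?_⟩))).2
  have e2 : s * ((y' : G) * (y : G)⁻¹) * s⁻¹ = (y' : G) * (y : G)⁻¹ := by
    calc s * ((y' : G) * (y : G)⁻¹) * s⁻¹
        = y' * ((y' : G)⁻¹ * (s * y' * s⁻¹)) * ((y : G)⁻¹ * (s * y * s⁻¹))⁻¹ * (y : G)⁻¹ := by group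
      _ = _ := by rw [← e]; group
  exact mul_inv_eq_iff_eq_mul.1 e2

variable (hR : P.conf.famS a x = P.conf.Sa a)
include hR

theorem card_orbit_full (hi : i = 2) :
    Nat.card ↥(MulAction.orbit ↥(P.conf.Sa a) b) = (2 ^ n) ^ 3 := by
  subst hi
  have h := P.card_orbit_Sa B b
  have hS : Nat.card ↥(P.conf.Sa a) = Nat.card ↥(P.conf.kerS a b) * (2 ^ n) ^ 3 := by
    rw [← hR, P.card_famS B, P.card_centS B]; ring
  rw [hS] at h
  exact Nat.eq_of_mul_eq_mul_left Nat.card_pos h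

theorem card_Sa_le (hi : i = 2) : Nat.card ↥(P.conf.Sa a) ≤ 2 ^ (4 * n) := by
  subst hi
  have h := P.card_kerS_le B hR
  rw [← hR, P.card_famS B, P.card_centS B]
  calc 2 ^ n * (Nat.card ↥(P.conf.kerS a b) * (2 ^ n) ^ 2) ≤ 2 ^ n * (2 ^ n * (2 ^ n) ^ 2) :=
        Nat.mul_le_mul_left _ (Nat.mul_le_mul_right _ h)
    _ = (2 ^ n) ^ 4 := by ring
    _ = _ := by rw [← pow_mul, mul_comm]

/-- Few conjugates of `V` under a subgroup meeting its stabilizer trivially. -/
theorem card_free_le (hi : i = 2) (E : Subgroup G) (hEa : ∀ e ∈ E, e • a = a)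
    (hfree : ∀ e ∈ E, e * x * e⁻¹ ∈ P.conf.vee a b → e = 1) :
    Nat.card ↥E ≤ 2 ^ n * (2 ^ n - 1) + 1 := by
  classical
  subst hi
  set S := P.conf.Sa a
  set O := MulAction.orbit ↥S b
  have hne : ∀ c : ↥O, ∀ e ∈ E, e • (c : Ω) ≠ a := by
    rintro ⟨c, s, rfl⟩ e he h
    exact B.hne (smul_left_cancel (s : G) ((smul_left_cancel e (h.trans (hEa e he).symm)).trans
      s.2.1.symm))
  let f : ↥E × ↥O → {c : Ω // c ≠ a} := fun p => ⟨(p.1 : G) • (p.2 : Ω), hne p.2 p.1 p.1.2⟩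
  have hf : Function.Injective f := by
    rintro ⟨⟨e, he⟩, c⟩ ⟨⟨e', he'⟩, c'⟩ h
    have h' : e • (c : Ω) = e' • (c' : Ω) := congrArg Subtype.val h
    suffices e = e' by
      subst this
      exact Prod.ext rfl (Subtype.ext (smul_left_cancel e h'))
    by_contra hne'
    set m := e'⁻¹ * e
    have hm : m ∈ E := mul_mem (inv_mem he') he
    have hmc : m • (c : Ω) = c' := by rw [mul_smul, h', inv_smul_smul]
    have key : ∀ s : ↥S, (s : G) * x * (s : G)⁻¹ ∈ P.conf.vee a b := fun s => by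
      have h := mul_mem (P.x_mem_vee B) (P.conf.W_le_vee a b (P.comm_vee B hR (P.x_mem_vee B) s.2))
      rwa [mul_inv_cancel_left] at h
    obtain ⟨c, s, rfl⟩ := c
    obtain ⟨c', s', rfl⟩ := c'
    set u := (s : G) * x * (s : G)⁻¹
    set u' := (s' : G) * x * (s' : G)⁻¹
    have hsb : ∀ r : ↥S, ((r : G) * x * (r : G)⁻¹) • (r : G) • b = (r : G) • b := fun r =>
      mem_fixSet_conj.2 (show b ∈ fixSet Ω x from B.hb)
    have Bc : Block a ((s' : G) • b) u' := ⟨B.multi.conj _, (P.conf.vee_le_Sa a b (key s')).1, hsb s',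
      fun h => B.hne (smul_left_cancel (s' : G) (h.trans s'.2.1.symm))⟩
    have hmu : m * u * m⁻¹ ∈ P.conf.kerS a ((s' : G) • b) := by
      refine ⟨P.conf.Sa_normal (hEa m hm) (P.conf.vee_le_Sa a b (key s)), ?_⟩
      show (m * u * m⁻¹) • (s' : G) • b = (s' : G) • b
      rw [show (s' : G) • b = m • (s : G) • b from hmc.symm, mul_smul, mul_smul, inv_smul_smul]
      exact congrArg _ (hsb s)
    have hcom : Commute (m * u * m⁻¹) u' :=
      (P.conf.mem_centS.1 (P.ker_le_centS Bc hmu)).2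
    have h1 : m * u * m⁻¹ ∈ P.conf.vee a b := P.mem_vee_of_commute B hmu.1
      (P.ker_sq Bc hmu) (key s') (P.conf.not_mem_of_multi (B.multi.conj _) a) hcom
    have h2 : m * x * m⁻¹ ∈ P.conf.vee a b := by
      have hw := P.comm_vee B hR (P.x_mem_vee B) s.2
      have hwm := P.conf.W_le_vee a b (inv_mem (smul_W_eq_of_smul P.conf hw (hEa m hm)))
      have := mul_mem h1 hwm
      rwa [show m * u * m⁻¹ * (m * (x⁻¹ * u) * m⁻¹)⁻¹ = m * (u * u⁻¹ * x) * m⁻¹ by group,
        mul_inv_cancel, one_mul] at this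
    exact hne' (inv_mul_eq_one.1 (hfree m hm h2)).symm
  have h1 := Nat.card_le_card_of_injective f hf
  rw [Nat.card_prod, P.card_orbit_full B hR rfl] at h1
  have h2 : Nat.card {c : Ω // c ≠ a} = (2 ^ n) ^ 3 * (2 ^ n * (2 ^ n - 1) + 1) := by
    have h := Set.ncard_sdiff_singleton_of_mem (Set.mem_univ a)
    rw [Set.ncard_univ, P.card_points_two B rfl, Nat.add_sub_cancel] at h
    rw [← h, ← Nat.card_coe_set_eq]
    exact Nat.card_congr (Equiv.subtypeEquivRight fun c => ⟨fun hc => ⟨trivial, hc⟩, fun hc => hc.2⟩)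
  rw [h2, mul_comm (Nat.card ↥E)] at h1
  exact Nat.le_of_mul_le_mul_left h1 (pow_pos (Nat.two_pow_pos n) 3)

/-- Some nontrivial element of an invariant elementary group centralising `W a` fixes `V`. -/
theorem exists_fix (hi : i = 2) (E : Subgroup G) {p : ℕ} (hp : p.Prime) (hE1 : E ≠ ⊥)
    (hEp : IsPGroup p ↥E) (hEodd : Odd (Nat.card ↥E)) (hEa : ∀ e ∈ E, e • a = a) {d : G}
    (hdo : orderOf d = 2 ^ n - 1) (hda : d • a = a) (hdY : ∀ y ∈ P.conf.kerS a b, Commute d y)
    (hdE : ∀ e ∈ E, d * e * d⁻¹ ∈ E)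
    (halpha : ∀ (j : ℕ) (m : G), d ^ j ≠ 1 → m • a = a → Commute (m⁻¹ * d ^ j * m) x →
      m * x * m⁻¹ ∈ P.conf.vee a b) :
    ∃ e ∈ E, e ≠ 1 ∧ e * x * e⁻¹ ∈ P.conf.vee a b := by
  classical
  by_contra! hno
  subst hi
  have hfree : ∀ e ∈ E, e * x * e⁻¹ ∈ P.conf.vee a b → e = 1 := fun e he h => by
    by_contra h1
    exact hno e he h1 h
  have hxV := P.x_mem_vee B
  have hdx : Commute d x := hdY x (P.mem_kerS_self B)
  -- a power of `d` fixes no element of `E`
  have hdfix : ∀ j : ℕ, d ^ j ≠ 1 → ∀ e ∈ E, Commute (d ^ j) e → e = 1 := by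
    intro j hj e he hc
    refine hfree e he (halpha j e hj (hEa e he) ?_)
    rw [show e⁻¹ * d ^ j * e = e⁻¹ * (d ^ j * e) by group, hc.eq, inv_mul_cancel_left]
    exact hdx.pow_left j
  set T := closure {u : G | ∃ e ∈ E, ∃ v ∈ P.conf.vee a b, u = e * v * e⁻¹} with hT
  have hgen : ∀ e ∈ E, ∀ v ∈ P.conf.vee a b, e * v * e⁻¹ ∈ T := fun e he v hv =>
    subset_closure ⟨e, he, v, hv, rfl⟩
  have hxT : x ∈ T := by simpa using hgen 1 (one_mem _) x hxV
  have hTS : T ≤ P.conf.Sa a := (closure_le _).2 (by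
    rintro _ ⟨e, he, v, hv, rfl⟩
    exact P.conf.Sa_normal (hEa e he) (P.conf.vee_le_Sa a b hv))
  have hT2 : IsPGroup 2 ↥T := (P.conf.isPGroup_Sa a).to_le hTS
  have hTconj : ∀ g : G, (∀ e ∈ E, ∀ v ∈ P.conf.vee a b, g * (e * v * e⁻¹) * g⁻¹ ∈ T) →
      g ∈ normalizer (T : Set G) := by
    intro g hg
    have hle : ∀ t ∈ T, g * t * g⁻¹ ∈ T := fun t ht => by
      have hle : T ≤ T.comap (MulAut.conj g).toMonoidHom := (closure_le _).2 (by
        rintro _ ⟨e, he, v, hv, rfl⟩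
        exact hg e he v hv)
      exact hle ht
    let f : ↥T → ↥T := fun t => ⟨g * t * g⁻¹, hle t t.2⟩
    have hf : Function.Injective f := fun u v h =>
      Subtype.ext (mul_left_cancel (mul_right_cancel (congrArg Subtype.val h :)))
    refine mem_normalizer_iff.2 fun t => ⟨hle t, fun ht => ?_⟩
    obtain ⟨v, hv⟩ := Finite.injective_iff_surjective.1 hf ⟨_, ht⟩
    have e : g * (v : G) * g⁻¹ = g * t * g⁻¹ := congrArg Subtype.val hv
    rw [← mul_left_cancel (mul_right_cancel e)]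
    exact v.2
  have hEN : E ≤ normalizer (T : Set G) := fun g hg => hTconj g fun e he v hv => by
    have := hgen (g * e) (mul_mem hg he) v hv
    rwa [show g * e * v * (g * e)⁻¹ = g * (e * v * e⁻¹) * g⁻¹ by group] at this
  have hdN : d ∈ normalizer (T : Set G) := hTconj d fun e he v hv => by
    have := hgen _ (hdE e he) _ (P.conj_mem_vee B hda hdY hv)
    rwa [show d * e * d⁻¹ * (d * v * d⁻¹) * (d * e * d⁻¹)⁻¹ = d * (e * v * e⁻¹) * d⁻¹ by group] at this
  -- an element centralising `T` fixes `V`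
  have hcT : ∀ e ∈ E, e ∈ centralizer (T : Set G) → e = 1 := fun e he h => hfree e he (by
    rw [← mem_centralizer_iff.1 h x hxT, mul_inv_cancel_right]; exact hxV)
  have hTcard : Nat.card ↥T ≤ 2 ^ (4 * n) :=
    (Subgroup.card_le_of_le hTS).trans (P.card_Sa_le B hR rfl)
  obtain ⟨e₀, he₀, he₀1⟩ := (Subgroup.bot_or_exists_ne_one E).resolve_left hE1
  have hn3 : 3 ≤ n := by
    obtain ⟨k, hk⟩ := (P.loc x B.multi).odd_n rfl
    have := P.two_le B.multi
    omega
  by_cases hn : 5 ≤ n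
  · refine he₀1 (hcT e₀ he₀ (CyclicSylowInter.Noncentral.le_centralizer_of_fixed T hT2 E hEN hEodd hdN
      hdE (δ := 4 * n) (hTcard.trans (Nat.le_mul_of_pos_right _ Nat.card_pos))
      (fun j hj hjn m hm h => ?_) he₀))
    have hdj : d ^ j ≠ 1 := fun e => by
      have := four_mul_lt n hn
      have := Nat.le_of_dvd hj (orderOf_dvd_of_pow_eq_one e)
      omega
    have hdjE : ∀ l : ℕ, d ^ l * m * (d ^ l)⁻¹ ∈ E := by
      intro l
      induction l with
      | zero => simpa using hm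
      | succ l ih =>
        rw [pow_succ', show d * d ^ l * m * (d * d ^ l)⁻¹ = d * (d ^ l * m * (d ^ l)⁻¹) * d⁻¹ by group]
        exact hdE _ ih
    have h1 := hcT _ (mul_mem (hdjE j) (inv_mem hm)) h
    rw [hdfix j hdj m hm (mul_inv_eq_iff_eq_mul.1 (mul_inv_eq_one.1 h1))]
    exact one_mem _
  -- `n = 3`
  obtain rfl : n = 3 := by
    obtain ⟨k, hk⟩ := (P.loc x B.multi).odd_n rfl
    omega
  haveI := Fact.mk hp
  haveI : Fact (Nat.Prime 7) := ⟨by norm_num⟩
  norm_num at hdo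
  have hEle : Nat.card ↥E ≤ 57 := by simpa using P.card_free_le B hR rfl E hEa hfree
  have hzd : zpowers d ≤ normalizer (E : Set G) := by
    rw [zpowers_le, mem_normalizer_iff]
    refine fun g => ⟨hdE g, fun hg => ?_⟩
    let f : ↥E → ↥E := fun e => ⟨d * e * d⁻¹, hdE e e.2⟩
    have hf : Function.Injective f := fun u v h =>
      Subtype.ext (mul_left_cancel (mul_right_cancel (congrArg Subtype.val h :)))
    obtain ⟨v, hv⟩ := Finite.injective_iff_surjective.1 hf ⟨_, hg⟩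
    have e : d * (v : G) * d⁻¹ = d * g * d⁻¹ := congrArg Subtype.val hv
    rw [← mul_left_cancel (mul_right_cancel e)]
    exact v.2
  have hmod : Nat.card ↥E % 7 = 1 := by
    letI : MulAction ↥(zpowers d) ↥E :=
      { smul := fun g e => ⟨g.1 * e.1 * g.1⁻¹, (mem_normalizer_iff.1 (hzd g.2) e.1).1 e.2⟩
        one_smul := fun e => Subtype.ext (by show (1 : G) * e.1 * 1⁻¹ = e.1; simp)
        mul_smul := fun g g' e => Subtype.ext (by
          show (g.1 * g'.1) * e.1 * (g.1 * g'.1)⁻¹ = g.1 * (g'.1 * e.1 * g'.1⁻¹) * g.1⁻¹; group) }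
    have h7 : IsPGroup 7 ↥(zpowers d) := IsPGroup.of_card (n := 1) (by
      rw [Nat.card_zpowers, hdo, pow_one])
    have h := h7.card_modEq_card_fixedPoints ↥E
    have hfp : MulAction.fixedPoints ↥(zpowers d) ↥E = {1} := by
      refine Set.eq_singleton_iff_unique_mem.2 ⟨fun g => Subtype.ext (by
        show g.1 * (1 : G) * g.1⁻¹ = 1; simp), fun e he => Subtype.ext ?_⟩
      have hd1 : d ^ 1 ≠ 1 := fun h => by
        rw [pow_one] at h; rw [h, orderOf_one] at hdo; norm_num at hdo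
      refine hdfix 1 hd1 e e.2 ?_
      rw [pow_one]
      exact mul_inv_eq_iff_eq_mul.1 (congrArg Subtype.val (he ⟨d, mem_zpowers d⟩))
    rw [hfp, Nat.card_coe_set_eq, Set.ncard_singleton] at h
    exact h
  obtain ⟨r, hr⟩ := IsPGroup.iff_card.1 hEp
  have hE1' : Nat.card ↥E ≠ 1 := fun h => hE1 (Subgroup.card_eq_one.1 h)
  have hcases : Nat.card ↥E = 29 ∨ Nat.card ↥E = 43 := by
    have h4 : Nat.card ↥E = 15 ∨ Nat.card ↥E = 29 ∨ Nat.card ↥E = 43 ∨ Nat.card ↥E = 57 := by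
      obtain ⟨l, hl⟩ := hEodd
      omega
    have hdiv : ∀ l : ℕ, l.Prime → l ∣ Nat.card ↥E → l = p := fun l hl h =>
      (Nat.prime_dvd_prime_iff_eq hl hp).1 (hl.dvd_of_dvd_pow (hr ▸ h))
    rcases h4 with h | h | h | h
    · exfalso
      have h3 := hdiv 3 (by norm_num) (by rw [h]; norm_num)
      have h5 := hdiv 5 (by norm_num) (by rw [h]; norm_num)
      omega
    · exact Or.inl h
    · exact Or.inr h
    · exfalso
      have h3 := hdiv 3 (by norm_num) (by rw [h]; norm_num)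
      have h5 := hdiv 19 (by norm_num) (by rw [h]; norm_num)
      omega
  obtain ⟨l, hl, hEl⟩ : ∃ l ∈ [29, 43], Nat.card ↥E = l := by
    rcases hcases with h | h
    · exact ⟨29, by simp, h⟩
    · exact ⟨43, by simp, h⟩
  haveI : Fact l.Prime := ⟨by fin_cases hl <;> norm_num⟩
  letI : MulAction ↥E ↥T :=
    { smul := fun g t => ⟨g.1 * t.1 * g.1⁻¹, (mem_normalizer_iff.1 (hEN g.2) t.1).1 t.2⟩
      one_smul := fun t => Subtype.ext (by show (1 : G) * t.1 * 1⁻¹ = t.1; simp)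
      mul_smul := fun g g' t => Subtype.ext (by
        show (g.1 * g'.1) * t.1 * (g.1 * g'.1)⁻¹ = g.1 * (g'.1 * t.1 * g'.1⁻¹) * g.1⁻¹; group) }
  have h := (IsPGroup.of_card (n := 1) (by rw [hEl, pow_one]) : IsPGroup l ↥E).card_modEq_card_fixedPoints ↥T
  have hfp : Nat.card ↥(MulAction.fixedPoints ↥E ↥T) =
      Nat.card ↥((centralizer (E : Set G)).subgroupOf T) := by
    refine Nat.card_congr (Equiv.subtypeEquivRight fun t => ?_)
    rw [mem_subgroupOf, mem_centralizer_iff]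
    constructor
    · intro ht e he
      exact mul_inv_eq_iff_eq_mul.1 (congrArg Subtype.val (ht ⟨e, he⟩))
    · rintro ht ⟨e, he⟩
      exact Subtype.ext (mul_inv_eq_iff_eq_mul.2 (ht e he))
  haveI := Fact.mk Nat.prime_two
  obtain ⟨r₁, hr₁⟩ := IsPGroup.iff_card.1 hT2
  obtain ⟨r₂, hr₂⟩ := IsPGroup.iff_card.1 (hT2.to_subgroup ((centralizer (E : Set G)).subgroupOf T))
  rw [hfp, hr₁, hr₂] at h
  rw [hr₁] at hTcard
  have hb1 : r₁ ≤ 12 := by simpa using (Nat.pow_le_pow_iff_right (le_refl 2)).1 hTcard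
  have hb2 : r₂ ≤ r₁ := by
    have := Subgroup.card_le_card_group ((centralizer (E : Set G)).subgroupOf T)
    rw [hr₁, hr₂] at this
    exact (Nat.pow_le_pow_iff_right (le_refl 2)).1 this
  have heq := two_pow_mod_big r₁ (by omega) r₂ (by omega) l hl h
  have htop : (centralizer (E : Set G)).subgroupOf T = ⊤ :=
    Subgroup.eq_top_of_card_eq _ (by rw [hr₁, hr₂, heq])
  refine he₀1 (hcT e₀ he₀ (mem_centralizer_iff.2 fun t ht => ?_))
  exact (mem_centralizer_iff.1 (htop.ge (mem_top (⟨t, ht⟩ : ↥T))) e₀ he₀).symm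

/-- Every element fixing `a` fixes the family. -/
theorem fix_vee (hi : i = 2) {m : G} (hma : m • a = a) : m * x * m⁻¹ ∈ P.conf.vee a b := by
  classical
  have C := P.conf
  haveI := Fact.mk Nat.prime_two
  obtain ⟨d, hdo, hda, -, hdord, hdY, hdt, hdfpf⟩ := P.exists_torus B
  have hxV := P.x_mem_vee B
  set S := P.conf.Sa a with hS
  have hd1 : d ≠ 1 := by
    intro e
    rw [e, orderOf_one] at hdord
    have : 2 ^ 2 ≤ 2 ^ n := Nat.pow_le_pow_right two_pos (P.two_le B.multi)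
    omega
  -- a torus power whose conjugate centralises `x`
  have halpha : ∀ (j : ℕ) (g : G), d ^ j ≠ 1 → g • a = a → Commute (g⁻¹ * d ^ j * g) x →
      g * x * g⁻¹ ∈ P.conf.vee a b := by
    intro j g hj hga hc
    have hgS : g * x * g⁻¹ ∈ S := P.conf.Sa_normal hga (P.x_mem_Sa B)
    have hz : x⁻¹ * (g * x * g⁻¹ * x * (g * x * g⁻¹)⁻¹) ∈ W a := P.comm_vee B hR hxV hgS
    have hcu : Commute (d ^ j) (g * x * g⁻¹) := by
      have h := hc.map (MulAut.conj g).toMonoidHom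
      simp only [MulEquiv.coe_toMonoidHom, MulAut.conj_apply] at h
      rwa [show g * (g⁻¹ * d ^ j * g) * g⁻¹ = d ^ j by group] at h
    have hcx : Commute (d ^ j) x := (hdY x (P.mem_kerS_self B)).pow_left j
    have hcz := hcx.inv_right.mul_right ((hcu.mul_right hcx).mul_right hcu.inv_right)
    have hz1 : x⁻¹ * (g * x * g⁻¹ * x * (g * x * g⁻¹)⁻¹) = 1 := by
      by_contra h1
      exact hj (hdfpf j _ hz h1 hcz)
    rw [inv_mul_eq_one] at hz1
    refine P.mem_vee_of_commute B hgS ?_ hxV (P.x_not_mem_W B) (mul_inv_eq_iff_eq_mul.1 hz1.symm)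
    exact Basic.inv_sq_one (B.multi.conj g).two
  -- a complement through the torus
  have hnorm : ∀ g : G, g • a = a → g ∈ normalizer ((P.conf.syl a : Subgroup G) : Set G) := fun g hg => by
    refine mem_normalizer_iff.2 fun s => ⟨fun hs => P.conf.Sa_normal hg hs, fun hs => ?_⟩
    have := P.conf.Sa_normal (inv_smul_eq_iff.2 hg.symm) (s := g * s * g⁻¹) hs
    rwa [show g⁻¹ * (g * s * g⁻¹) * g⁻¹⁻¹ = s by group] at this
  obtain ⟨A, hAN, hAodd, hle, hdA⟩ :=
    CyclicSylowInter.Noncentral.exists_complement_through (hnorm d hda) hdo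
  have hAa : ∀ g ∈ A, g • a = a := by
    intro g hg
    obtain ⟨z, hz, hz1⟩ := C.exists_W a
    have h : g * z * g⁻¹ ∈ S := (mem_normalizer_iff.1 (hAN hg) z).1 (P.conf.W_le_Sa a hz)
    exact (C.uniq _ _ (C.conj g a z hz) (fun e => hz1 (conj_eq_one_iff.1 e)) a h.1).symm
  suffices hA : ∀ g ∈ A, g * x * g⁻¹ ∈ P.conf.vee a b by
    obtain ⟨s, hs, r, hr, rfl⟩ := (Coprime.mem_sup_of_le_normalizer hAN).1 (hle (hnorm m hma))
    have hw := P.comm_vee B hR (hA r hr) hs
    have := mul_mem (hA r hr) (P.conf.W_le_vee a b hw)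
    rwa [mul_inv_cancel_left, show s * (r * x * r⁻¹) * s⁻¹ = s * r * x * (s * r)⁻¹ by group] at this
  clear hma m
  set K := A ⊓ centralizer ((W a : Subgroup G) : Set G) with hK
  by_cases hK1 : K = ⊥
  · -- faithful on `W a`
    letI : CommGroup ↥(W a) :=
      { (inferInstance : Group ↥(W a)) with mul_comm := fun v w => Subtype.ext (C.W_comm v.2 w.2).eq }
    letI : DistribMulAction ↥A (Additive ↥(W a)) :=
      { smul := fun g w => Additive.ofMul
          ⟨(g : G) * (w.toMul : G) * (g : G)⁻¹, smul_W_eq_of_smul C w.toMul.2 (hAa g g.2)⟩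
        one_smul := fun w => Additive.toMul.injective (Subtype.ext (by
          show (1 : G) * (w.toMul : G) * 1⁻¹ = w.toMul; simp))
        mul_smul := fun g h w => Additive.toMul.injective (Subtype.ext (by
          show ((g : G) * h) * (w.toMul : G) * ((g : G) * h)⁻¹ =
            g * (h * (w.toMul : G) * (h : G)⁻¹) * (g : G)⁻¹; group))
        smul_zero := fun g => Additive.toMul.injective (Subtype.ext (by
          show (g : G) * 1 * (g : G)⁻¹ = 1; simp))
        smul_add := fun g v w => Additive.toMul.injective (Subtype.ext (by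
          show (g : G) * ((v.toMul : G) * w.toMul) * (g : G)⁻¹ =
            g * (v.toMul : G) * (g : G)⁻¹ * (g * (w.toMul : G) * (g : G)⁻¹); group)) }
    haveI : FaithfulSMul ↥A (Additive ↥(W a)) := ⟨fun {g h} e => by
      have hmem : (h : G)⁻¹ * g ∈ K := by
        refine ⟨A.mul_mem (A.inv_mem h.2) g.2, mem_centralizer_iff.2 fun w hw => ?_⟩
        have e1 : (g : G) * w * (g : G)⁻¹ = h * w * (h : G)⁻¹ :=
          congrArg (fun t : Additive ↥(W a) => (t.toMul : G)) (e (Additive.ofMul ⟨w, hw⟩))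
        calc w * ((h : G)⁻¹ * g) = (h : G)⁻¹ * (h * w * (h : G)⁻¹) * g := by group
          _ = (h : G)⁻¹ * g * w := by rw [← e1]; group
      rw [hK1, mem_bot, inv_mul_eq_one] at hmem
      exact Subtype.ext hmem.symm⟩
    have hpowA : ∀ j : ℕ, d ^ j ∈ A := fun j => pow_mem hdA j
    obtain ⟨p, T⟩ := SETwoClosed.exists_torus (A := ↥A) (W := Additive ↥(W a)) hAodd (S0205.result hAodd)
      (fun w => Additive.toMul.injective (Subtype.ext (C.sq a _ w.toMul.2)))
      (P.two_le B.multi) (by rw [Nat.card_congr Additive.toMul]; exact P.card_W B.multi a)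
      (fun u v hu hv => by
        obtain ⟨j, hj⟩ := hdt (u.toMul : G) u.toMul.2
          (fun e => hu (Additive.toMul.injective (Subtype.ext e))) (v.toMul : G) v.toMul.2
          (fun e => hv (Additive.toMul.injective (Subtype.ext e)))
        exact ⟨⟨d ^ j, hpowA j⟩, Additive.toMul.injective (Subtype.ext hj)⟩)
    obtain ⟨Q, hQn, -, hQmem, hQcard⟩ := T.cyclic
    have hp := T.prime
    have hpos : 2 ^ n - 1 ≠ 0 := by
      have := Nat.one_lt_two_pow (show n ≠ 0 by have := P.two_le B.multi; omega)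
      omega
    set f := (2 ^ n - 1).factorization p
    have hfpos : 0 < f := hp.factorization_pos_of_dvd hpos T.dvd
    obtain ⟨l, hl⟩ : p ^ f ∣ 2 ^ n - 1 := Nat.ordProj_dvd _ _
    set δ : ↥A := ⟨d, hdA⟩ ^ l
    have hδo : orderOf δ = p ^ f := by
      have hl0 : l ≠ 0 := fun e => hpos (by rw [hl, e, mul_zero])
      rw [orderOf_pow' _ hl0, Subgroup.orderOf_mk, hdord, hl, Nat.gcd_mul_left_left,
        Nat.mul_div_cancel _ (Nat.pos_of_ne_zero hl0)]
    have hδQ : zpowers δ = Q := by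
      refine Subgroup.eq_of_le_of_card_ge (zpowers_le.2 ((hQmem δ).2 ⟨f, by
        rw [← hδo, pow_orderOf_eq_one]⟩)) ?_
      rw [Nat.card_zpowers, hδo, hQcard]
    have hδ1 : d ^ l ≠ 1 := fun e => by
      have : δ = 1 := Subtype.ext (by simpa [δ] using e)
      rw [this, orderOf_one] at hδo
      have := Nat.one_lt_pow hfpos.ne' hp.one_lt
      omega
    intro g hg
    refine halpha l g hδ1 (hAa g hg) ?_
    have hmem := hQn.conj_mem δ (hδQ ▸ mem_zpowers δ) ⟨g, hg⟩⁻¹
    rw [← hδQ] at hmem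
    obtain ⟨z, hz⟩ := mem_zpowers_iff.1 hmem
    have e := congrArg Subtype.val hz
    simp only [δ, coe_mul, coe_inv, SubgroupClass.coe_zpow, SubmonoidClass.coe_pow, inv_inv] at e
    rw [← e]
    exact ((hdY x (P.mem_kerS_self B)).pow_left l).zpow_left z
  -- an elementary normal subgroup centralising `W a`
  have hKodd : Odd (Nat.card ↥K) := hAodd.of_dvd_nat (Subgroup.card_dvd_of_le inf_le_left)
  have hKnorm : ∀ g ∈ A, ∀ k ∈ K, g * k * g⁻¹ ∈ K := by
    intro g hg k hk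
    refine ⟨A.mul_mem (A.mul_mem hg hk.1) (A.inv_mem hg), mem_centralizer_iff.2 fun w hw => ?_⟩
    have hw' := smul_W_eq_of_smul C hw (inv_smul_eq_iff.2 (hAa g hg).symm)
    have h := mem_centralizer_iff.1 hk.2 _ hw'
    calc w * (g * k * g⁻¹) = g * (g⁻¹ * w * g⁻¹⁻¹ * k) * g⁻¹ := by group
      _ = g * k * g⁻¹ * w := by rw [h]; group
  obtain ⟨j, hj⟩ := (S0205.result hKodd : Group.IsSolvable ↥K).solvable
  obtain ⟨l, hl, hlmin⟩ : ∃ l, derivedSeries ↥K (l + 1) = ⊥ ∧ derivedSeries ↥K l ≠ ⊥ := by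
    have hex : ∃ j, derivedSeries ↥K j = ⊥ := ⟨j, hj⟩
    have h0 : Nat.find hex ≠ 0 := fun e => hK1 ((eq_bot_iff_forall K).2 fun k hk => by
      have h := Nat.find_spec hex
      rw [e, derivedSeries_zero] at h
      exact congrArg Subtype.val (mem_bot.1 (h.le (mem_top (⟨k, hk⟩ : ↥K)))))
    obtain ⟨l, hl⟩ := Nat.exists_eq_succ_of_ne_zero h0
    exact ⟨l, (by rw [← Nat.succ_eq_add_one, ← hl]; exact Nat.find_spec hex), Nat.find_min hex (by omega)⟩
  set D := (derivedSeries ↥K l).map K.subtype with hD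
  have hDK : D ≤ K := map_subtype_le _
  have hDcomm : ∀ u ∈ D, ∀ v ∈ D, Commute u v := by
    rintro _ ⟨u, hu, rfl⟩ _ ⟨v, hv, rfl⟩
    have h := commutator_mem_commutator hu hv
    rw [← derivedSeries_succ, hl, mem_bot, commutatorElement_eq_one_iff_commute] at h
    exact h.map K.subtype
  have hDnorm : ∀ g ∈ A, ∀ u ∈ D, g * u * g⁻¹ ∈ D := by
    rintro g hg _ ⟨u, hu, rfl⟩
    let φ : ↥K →* ↥K := MonoidHom.mk' (fun k => ⟨g * k * g⁻¹, hKnorm g hg k k.2⟩) fun k k' => Subtype.ext (by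
      show g * ((k : G) * k') * g⁻¹ = g * k * g⁻¹ * (g * k' * g⁻¹); group)
    exact ⟨φ u, map_derivedSeries_le_derivedSeries φ l ⟨u, hu, rfl⟩, rfl⟩
  have hD1 : Nat.card ↥D ≠ 1 := fun h => hlmin (by
    have := Subgroup.card_eq_one.1 h
    exact (Subgroup.map_eq_bot_iff_of_injective _ K.subtype_injective).1 this)
  set p := (Nat.card ↥D).minFac
  have hp : p.Prime := Nat.minFac_prime hD1
  haveI := Fact.mk hp
  let E : Subgroup G :=
    { carrier := {e | e ∈ D ∧ e ^ p = 1}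
      one_mem' := ⟨one_mem _, one_pow _⟩
      mul_mem' := fun {u v} hu hv => ⟨mul_mem hu.1 hv.1, by
        rw [(hDcomm u hu.1 v hv.1).mul_pow, hu.2, hv.2, one_mul]⟩
      inv_mem' := fun {u} hu => ⟨inv_mem hu.1, by rw [inv_pow, hu.2, inv_one]⟩ }
  have hEK : E ≤ K := fun e he => hDK he.1
  have hEA : ∀ e ∈ E, e ∈ A := fun e he => (hEK he).1
  have hEnorm : ∀ g ∈ A, ∀ e ∈ E, g * e * g⁻¹ ∈ E := fun g hg e he =>
    ⟨hDnorm g hg e he.1, by rw [conj_pow, he.2, mul_one, mul_inv_cancel]⟩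
  have hE1 : E ≠ ⊥ := by
    obtain ⟨e, he⟩ := exists_prime_orderOf_dvd_card' p (Nat.minFac_dvd (Nat.card ↥D))
    intro h
    have hmem : (e : G) ∈ E := ⟨e.2, by rw [← he, ← SubmonoidClass.coe_pow, pow_orderOf_eq_one, coe_one]⟩
    rw [h, mem_bot] at hmem
    have : e = 1 := Subtype.ext hmem
    rw [this, orderOf_one] at he
    exact hp.one_lt.ne he
  have hEodd : Odd (Nat.card ↥E) := hAodd.of_dvd_nat (Subgroup.card_dvd_of_le hEA)
  have hEp : IsPGroup p ↥E := fun e => ⟨1, Subtype.ext (by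
    rw [pow_one, SubmonoidClass.coe_pow]; exact e.2.2)⟩
  obtain ⟨k, hk, hk1, hkV⟩ := P.exists_fix B hR hi E hp hE1 hEp hEodd (fun e he => hAa e (hEA e he))
    hdord hda hdY (fun e he => hEnorm d hdA e he) halpha
  have hkW : ∀ w ∈ W a, Commute k w := fun w hw => (mem_centralizer_iff.1 (hEK hk).2 w hw).symm
  have hAodd' : ∀ g ∈ A, Odd (orderOf g) := fun g hg => by
    rw [← Subgroup.orderOf_mk _ hg]; exact hAodd.of_dvd_nat (orderOf_dvd_natCard _)
  set F := stabilizer G a ⊓ normalizer (P.conf.vee a b : Set G)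
  have hFmem : ∀ g : G, g • a = a → (g ∈ F ↔ g * x * g⁻¹ ∈ P.conf.vee a b) := fun g hga =>
    ⟨fun h => (mem_normalizer_iff.1 h.2 x).1 hxV, fun h => ⟨hga, P.mem_normalizer_vee B hga h⟩⟩
  -- a group of odd order of whose conjugates at most two differ is trivial on them
  have hall : ∀ Φ : Subgroup G, Φ ≤ A → d ∈ normalizer (Φ : Set G) →
      (∀ g ∈ Φ, g⁻¹ * k * g ∈ F) → ∀ g ∈ Φ, g * x * g⁻¹ ∈ P.conf.vee a b := by
    intro Φ hΦ hdΦ hkΦ g hg
    by_contra hout
    have hgg : g * g ∈ Φ := mul_mem hg hg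
    have hout2 : g * g * x * (g * g)⁻¹ ∉ P.conf.vee a b := fun h => hout ((hFmem g (hAa g (hΦ hg))).1
      (mem_of_sq_mem (hAodd' g (hΦ hg)) ((hFmem _ (hAa _ (hΦ hgg))).2 h)))
    have := P.fam_unique B hR hi (hAodd' k (hEA k hk)) hk1 (hAa k (hEA k hk)) hkW hd1 hda hdY hdt hdfpf
      (Φ : Set G) Φ.one_mem (fun g hg => hAa g (hΦ hg)) (fun g hg => (mem_normalizer_iff.1 hdΦ g).1 hg)
      (fun g hg v hv => (mem_normalizer_iff.1 (hkΦ g hg).2 v).1 hv) g hg (g * g) hgg hout hout2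
    rw [inv_mul_cancel_left] at this
    exact hout this
  have hEF : ∀ g ∈ E, g * x * g⁻¹ ∈ P.conf.vee a b := by
    refine hall E hEA (mem_normalizer_iff.2 fun g => ⟨hEnorm d hdA g, fun h => ?_⟩) fun g hg => ?_
    · have := hEnorm d⁻¹ (inv_mem hdA) _ h
      rwa [show d⁻¹ * (d * g * d⁻¹) * d⁻¹⁻¹ = g by group] at this
    · rw [show g⁻¹ * k * g = g⁻¹ * (k * g) by group, (hDcomm k hk.1 g hg.1).eq, inv_mul_cancel_left]
      exact (hFmem k (hAa k (hEA k hk))).2 hkV
  refine hall A le_rfl (le_normalizer hdA) fun g hg => ?_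
  have hmem := hEnorm g⁻¹ (inv_mem hg) k hk
  rw [inv_inv] at hmem
  exact (hFmem _ (hAa _ (hEA _ hmem))).2 (hEF _ hmem)

end Par

end Cfsg.Agent.DClassConf
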